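import Groth.Agent.Bivar.K930.ClOps

/-!
# Classes and the first Chern class
-/

set_option autoImplicit false
universe u v
open CategoryTheory AlgebraicGeometry CategoryTheory.Limits Opposite

namespace K930.C1Class

open Groth.Agent Groth.Agent.CycB K930.Chow K930.ModIso K930.PushPull K930.Gysin K930.ZeroSch
open K930.OpenImm K930.GysinComm K930.OKs K930.TestSch K930.RelDimBC K930.ClOps Cyc
open Groth.Agent.CycB.C1Pull

variable {X Y : Scheme.{u}} {δX : X → ℤ} {δY : Y → ℤ}

/-- A first Chern class is given on every test scheme by `c1CH`. -/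
theorem opCl_eq_c1CH {L : X.Modules} {c : Bivar.OpCl 1 X δX} (hc : Bivar.IsC1Class L c)
    (hX : IsSetup X δX) (s : Bivar.OSq X δX) (k : ℤ) (x : ChowOps.CH s.Y s.δ k) :
    c.op s k x = c1CH (setup_OSq hX s) (isInvertible_pullback s.g hc.1) (by ring) x := by
  obtain ⟨α, hα, rfl⟩ := Bivar.exists_rep x
  have hL := isInvertible_pullback s.g hc.1
  obtain ⟨γ, hγ⟩ := exists_c1 (setup_OSq hX s) hL α (nz_ne_zero hL)
  have hm : γ ∈ Zk s.Y s.δ (k - 1) := c1_mem (by ring) hα hγ
  rw [hc.2 s k α hα _ (nz_ne_zero hL) γ hγ hm,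
    c1CH_cl (setup_OSq hX s) hL (by ring) α hα _ (nz_ne_zero hL) γ hγ hm]

/-- Operational classes commute with first Chern classes of line bundles. -/
theorem opCl_c1CH {q : ℤ} (d : Bivar.OpCl q X δX) (hX : IsSetup X δX) (s : Bivar.OSq X δX)
    {L : s.Y.Modules} (hL : PicF.IsInvertible L) {k l : ℤ} (hk : k = l + 1)
    (hk' : k - q = l - q + 1) (x : ChowOps.CH s.Y s.δ k) :
    d.op s l (c1CH (setup_OSq hX s) hL hk x) = c1CH (setup_OSq hX s) hL hk' (d.op s k x) :=
  opCl_gysin d hX (s := s) (t := s) (i := 𝟙 _) (Category.id_comp _) hL (isZeroSchemeOf_zero hL)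
    hk hk' x

/-- Bivariant classes commute with first Chern classes of line bundles. -/
theorem cl_c1CH {f : X ⟶ Y} {p : ℤ} (c : Bivar.Cl p f δX δY) (hX : IsSetup X δX)
    (hY : IsSetup Y δY) (s : Bivar.Sq f δX δY) {L : s.Y'.Modules} (hL : PicF.IsInvertible L)
    {N : s.X'.Modules} (hN : PicF.IsInvertible N) (e : (Scheme.Modules.pullback s.f').obj L ≅ N)
    {k l : ℤ} (hk : k = l + 1) (hk' : k - p = l - p + 1) (x : ChowOps.CH s.Y' s.δY' k) :
    c.op s l (c1CH (setup_Y' s hY) hL hk x) = c1CH (setup_X' s hX) hN hk' (c.op s k x) :=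
  cl_gysin c hX hY (s := s) (t := s) (i := 𝟙 _) (j := 𝟙 _) (Category.id_comp _) (by simp)
    (Category.id_comp _) hL (isZeroSchemeOf_zero hL) hN (isZeroSchemeOf_zero hN) e hk hk' x

end K930.C1Class
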