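import Groth.Agent.Bivar.K930.Homog

/-!
# Chern classes as operational classes
-/

set_option autoImplicit false
universe u v
open CategoryTheory AlgebraicGeometry CategoryTheory.Limits Opposite

namespace K930.ChernOp

open Groth.Agent Groth.Agent.CycB K930.Chow K930.PushPull K930.Gysin K930.OKs Cyc K307
open K307.Gys K930.Homog K930.TestSch
open K308.Grp (G)

variable {X : Scheme.{u}} {δX : X → ℤ} {r : ℕ}

section

variable {Y : Scheme.{u}} {δ : Y → ℤ} (hY : IsSetup Y δ) {E : Y.Modules}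
  (hE : FlatMod.IsFinLocFreeOfRank r E)

/-- The Chern operators on graded Chow groups. -/
noncomputable def chCH (j : ℕ) (k l : ℤ) : ChowOps.CH Y δ k →+ ChowOps.CH Y δ l :=
  ((gr δ l).comp (chE hY hE j)).comp (inc δ k)

theorem inc_chCH (j : ℕ) {k l : ℤ} (hl : l = k - j) (x : ChowOps.CH Y δ k) :
    inc δ l (chCH hY hE j k l x) = chE hY hE j (inc δ k x) := by
  subst hl
  obtain ⟨B, rfl⟩ := Bun.exists_bun hY E hE
  have h := B.ch_eq hE ⟨Iso.refl _⟩ j
  have h1 := hom_ch B j x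
  rw [h] at h1
  exact h1

end

theorem setup_s (hX : IsSetup X δX) (s : Bivar.OSq X δX) : IsSetup s.Y s.δ := setup_OSq hX s

theorem rank_s {E : X.Modules} (hE : FlatMod.IsFinLocFreeOfRank r E) (s : Bivar.OSq X δX) :
    FlatMod.IsFinLocFreeOfRank r ((Scheme.Modules.pullback s.g).obj E) :=
  Groth.Agent.PerfB.FibreConc.isFinLocFreeOfRank_pullback s.g hE

/-- The Chern class. -/
noncomputable def cc (hX : IsSetup X δX) {E : X.Modules} (hE : FlatMod.IsFinLocFreeOfRank r E)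
    (j : ℕ) : Bivar.OpCl (j : ℤ) X δX where
  op s k := chCH (setup_s hX s) (rank_s hE s) j k (k - j)
  push s t h _ w k := by
    refine (pushOK_iff (setup_OSq hX s) (setup_OSq hX s) h h (deltaCompat_OSq w)
      (deltaCompat_OSq w) _ _).2 fun x => ?_
    apply inc_injective
    rw [inc_chCH _ _ _ rfl, inc_push (setup_OSq hX t), inc_push (setup_OSq hX t),
      inc_chCH _ _ _ rfl]
    exact (push_chE _ _ _ h _ _ ⟨pbIso w E⟩ j _).symm
  pull s t h _ rr hr w k := by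
    have := lft_OSq w
    refine (pullOK_iff (setup_OSq hX s) (setup_OSq hX s) (setup_OSq hX t) (setup_OSq hX t) h h
      (shift_OSq w hr) (shift_OSq w hr) rfl (by ring) _ _).2 fun x => ?_
    apply inc_injective
    have hfr : FR h t.δ s.δ rr := FR.of_hasRelDim hr (deltaCompat_OSq w)
    rw [inc_chCH _ _ _ rfl, inc_pull _ _ h hfr.shift, inc_pull _ _ h hfr.shift,
      inc_chCH _ _ _ rfl]
    exact (pull_chE (setup_OSq hX s) (setup_OSq hX t) _ h hfr _ ⟨pbIso w E⟩ j _).symm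
  gysin s t i _ w L hL σ hσ k := by
    refine (gysinOK₁_iff (setup_OSq hX s) i (deltaCompat_OSq w)
      hL hσ (by ring) (by ring) _ _).2 fun x => ?_
    apply inc_injective
    rw [inc_chCH _ _ _ rfl, inc_gys, inc_gys, inc_chCH _ _ _ rfl]
    exact (gys_chE _ _ _ i _ hL hσ _ ⟨pbIso w E⟩ j _).symm

theorem inc_chCast {Y : Scheme.{u}} {δ : Y → ℤ} {k l : ℤ} (e : k = l) (x : ChowOps.CH Y δ k) :
    inc δ l (Bivar.chCast Y δ e x) = inc δ k x := by
  subst e; rfl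

theorem inc_one (s : Bivar.OSq X δX) (k : ℤ) (x : ChowOps.CH s.Y s.δ k) :
    inc s.δ _ ((Bivar.OpCl.one X δX).op s k x) = inc s.δ k x := inc_chCast _ x

/-- An operational class is determined by its values in the ungraded groups. -/
theorem ext_inc {p : ℤ} {c d : Bivar.OpCl p X δX}
    (h : ∀ (s : Bivar.OSq X δX) (k : ℤ) (x : ChowOps.CH s.Y s.δ k),
      inc s.δ (k - p) (c.op s k x) = inc s.δ (k - p) (d.op s k x)) : c = d :=
  Bivar.OpCl.ext (funext fun s => funext fun k => AddMonoidHom.ext fun x => inc_injective (h s k x))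

section

variable (hX : IsSetup X δX) {E : X.Modules} (hE : FlatMod.IsFinLocFreeOfRank r E)

theorem inc_cc (j : ℕ) (s : Bivar.OSq X δX) (k : ℤ) (x : ChowOps.CH s.Y s.δ k) :
    inc s.δ _ ((cc hX hE j).op s k x) = chE (setup_s hX s) (rank_s hE s) j (inc s.δ k x) :=
  inc_chCH _ _ j rfl x

theorem cc_zero : cc hX hE 0 = Bivar.OpCl.one X δX := by
  apply ext_inc
  intro s k x
  rw [inc_cc, chE_zero]
  exact (inc_one s k x).symm

theorem cc_eq_zero {j : ℕ} (hj : r < j) : cc hX hE j = 0 := by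
  apply ext_inc
  intro s k x
  rw [inc_cc, chE_eq_zero _ _ hj]
  exact (map_zero _).symm

/-- Values of Chern classes. -/
theorem isChernCap (s : Bivar.OSq X δX) (P : Scheme.{u}) (π : P ⟶ s.Y) (O1 : P.Modules)
    (q : (Scheme.Modules.pullback π).obj ((Scheme.Modules.pullback s.g).obj E) ⟶ O1)
    (hB : KRR.IsProjBundle π ((Scheme.Modules.pullback s.g).obj E) O1 q) (δP : P → ℤ)
    (hδ : Cyc.DeltaCompat π δP s.δ) (k : ℤ) (α : AlgebraicCycle s.Y ℤ) (hα : α ∈ Cyc.Zk s.Y s.δ k)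
    (ζ : Fin (r + 1) → AlgebraicCycle s.Y ℤ) (h0 : ζ 0 = α)
    (hζ : ∀ j : Fin (r + 1), ζ j ∈ Cyc.Zk s.Y s.δ (k - ((j : ℕ) : ℤ)))
    (h : ∀ j : Fin (r + 1), (cc hX hE j).op s k (ChowOps.cl α hα) = ChowOps.cl (ζ j) (hζ j)) :
    Cyc.IsChernCap π s.δ δP O1 r k α ζ := by
  let B : Bun s.Y s.δ r := ⟨_, P, π, O1, q, δP, setup_s hX s, rank_s hE s, hB, hδ⟩
  refine B.isChernCap_of_rel h0 hζ ?_
  rw [← B.rel_ch (K308.Grp.cl s.δ α)]
  refine B.rel_congr fun j hj => ?_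
  have h1 := Bun.cc_coe (δ := s.δ) ζ ⟨j, Nat.lt_succ_of_le hj⟩
  have h2 := congrArg (inc s.δ _) (h ⟨j, Nat.lt_succ_of_le hj⟩)
  rw [inc_cc, inc_cl, inc_cl] at h2
  rw [B.ch_eq (rank_s hE s) ⟨Iso.refl _⟩]
  exact h1.trans h2.symm

theorem isChernClasses : Bivar.IsChernClasses E r (cc hX hE) :=
  ⟨hE, cc_zero hX hE, fun _ hj => cc_eq_zero hX hE hj, isChernCap hX hE⟩

end

/-- Chern classes are unique. -/
theorem inc_of_isChernClasses (hX : IsSetup X δX) {E : X.Modules}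
    {c : (j : ℕ) → Bivar.OpCl (j : ℤ) X δX} (hc : Bivar.IsChernClasses E r c) (j : ℕ)
    (s : Bivar.OSq X δX) (k : ℤ) (x : ChowOps.CH s.Y s.δ k) :
    inc s.δ _ ((c j).op s k x) = chE (setup_s hX s) (rank_s hc.1 s) j (inc s.δ k x) := by
  obtain ⟨hE, h0, hr, H⟩ := hc
  by_cases hj : j ≤ r
  · obtain ⟨α, hα, rfl⟩ := Bivar.exists_rep x
    obtain ⟨P, π, O1, q, hB⟩ := Groth.Agent.Krr.H490.PBExist.exists_isProjBundle (rank_s hE s)
    have := PBGeom.isProper (rank_s hE s) hB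
    obtain ⟨δP, hδP⟩ := SetupLft.exists_deltaCompat π s.δ
    let B : Bun s.Y s.δ r := ⟨_, P, π, O1, q, δP, setup_s hX s, rank_s hE s, hB, hδP⟩
    have hrep : ∀ i : Fin (r + 1), ∃ (ζ : AlgebraicCycle s.Y ℤ)
        (hζ : ζ ∈ Zk s.Y s.δ (k - ((i : ℕ) : ℤ))),
        (c i).op s k (ChowOps.cl α hα) = ChowOps.cl ζ hζ ∧ (i = 0 → ζ = α) := by
      intro i
      by_cases hi : i = 0
      · subst hi
        have hα' : α ∈ Zk s.Y s.δ (k - (((0 : Fin (r + 1)) : ℕ) : ℤ)) := by simpa using hα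
        refine ⟨α, hα', ?_, fun _ => rfl⟩
        apply inc_injective
        rw [inc_cl]
        have h1 := inc_one s k (ChowOps.cl α hα)
        rw [← h0] at h1
        exact h1
      · obtain ⟨ζ, hζ, e⟩ := Bivar.exists_rep ((c i).op s k (ChowOps.cl α hα))
        exact ⟨ζ, hζ, e.symm, fun h => absurd h hi⟩
    choose ζ hζ h1 h2 using hrep
    have h3 := H s P π O1 q hB δP hδP k α hα ζ (h2 0 rfl) hζ h1
    have h4 := B.rel_of_isChernCap h3
    have h5 : Bun.cc s.δ ζ 0 = K308.Grp.cl s.δ α := by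
      rw [← h2 0 rfl]
      exact Bun.cc_coe ζ 0
    have h6 := B.eq_ch h5 h4 hj
    rw [B.ch_eq (rank_s hE s) ⟨Iso.refl _⟩] at h6
    have h7 := Bun.cc_coe (δ := s.δ) ζ ⟨j, Nat.lt_succ_of_le hj⟩
    refine Eq.trans ?_ h6
    refine Eq.trans ?_ h7.symm
    exact congrArg (inc s.δ _) (h1 ⟨j, Nat.lt_succ_of_le hj⟩)
  · rw [hr j (by omega), chE_eq_zero _ _ (by omega)]
    exact map_zero _

end K930.ChernOp
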