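import Groth.Prelude.Def_Bivar
import Groth.Agent.CycB.DivFun

/-!
# The Chow group of the prelude: equality of classes is rational equivalence
-/

set_option autoImplicit false
universe u v
open CategoryTheory AlgebraicGeometry

namespace K930.Chow

open Groth.Agent.CycB

variable {X : Scheme.{u}} {δ : X → ℤ} {k l : ℤ}

theorem mem_ratTriv {a : ↥(ChowOps.zk X δ k)} :
    a ∈ ChowOps.ratTriv X δ k ↔ Cyc.RatEquivZero δ k (a : AlgebraicCycle X ℤ) := by
  constructor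
  · intro h
    unfold ChowOps.ratTriv at h
    induction h using AddSubgroup.closure_induction with
    | mem x hx => exact hx
    | zero => exact DivFun.ratEquivZero_zero
    | add x y _ _ hx hy => exact DivFun.RatEquivZero.add hx hy
    | neg x _ hx => exact DivFun.RatEquivZero.neg hx
  · intro h
    exact AddSubgroup.subset_closure h

theorem cl_eq_zero {α : AlgebraicCycle X ℤ} (hα : α ∈ Cyc.Zk X δ k) :
    ChowOps.cl α hα = 0 ↔ Cyc.RatEquivZero δ k α := by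
  rw [← mem_ratTriv (a := ⟨α, hα⟩)]
  exact QuotientAddGroup.eq_zero_iff _

theorem add_mem {α β : AlgebraicCycle X ℤ} (hα : α ∈ Cyc.Zk X δ k) (hβ : β ∈ Cyc.Zk X δ k) :
    α + β ∈ Cyc.Zk X δ k := (ChowOps.zk X δ k).add_mem hα hβ

theorem sub_mem {α β : AlgebraicCycle X ℤ} (hα : α ∈ Cyc.Zk X δ k) (hβ : β ∈ Cyc.Zk X δ k) :
    α - β ∈ Cyc.Zk X δ k := (ChowOps.zk X δ k).sub_mem hα hβ

theorem neg_mem {α : AlgebraicCycle X ℤ} (hα : α ∈ Cyc.Zk X δ k) :
    -α ∈ Cyc.Zk X δ k := (ChowOps.zk X δ k).neg_mem hα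

theorem zero_mem : (0 : AlgebraicCycle X ℤ) ∈ Cyc.Zk X δ k := (ChowOps.zk X δ k).zero_mem

theorem zsmul_mem {α : AlgebraicCycle X ℤ} (hα : α ∈ Cyc.Zk X δ k) (n : ℤ) :
    n • α ∈ Cyc.Zk X δ k := (ChowOps.zk X δ k).zsmul_mem hα n

theorem cl_add (α β : AlgebraicCycle X ℤ) (hα : α ∈ Cyc.Zk X δ k) (hβ : β ∈ Cyc.Zk X δ k) :
    ChowOps.cl (α + β) (add_mem hα hβ) = ChowOps.cl α hα + ChowOps.cl β hβ := rfl

theorem cl_sub (α β : AlgebraicCycle X ℤ) (hα : α ∈ Cyc.Zk X δ k)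
    (hβ : β ∈ Cyc.Zk X δ k) :
    ChowOps.cl (α - β) (sub_mem hα hβ) = ChowOps.cl α hα - ChowOps.cl β hβ := rfl

theorem cl_neg (α : AlgebraicCycle X ℤ) (hα : α ∈ Cyc.Zk X δ k) :
    ChowOps.cl (-α) (neg_mem hα) = - ChowOps.cl α hα := rfl

theorem cl_zero : ChowOps.cl (0 : AlgebraicCycle X ℤ) (zero_mem (X := X) (δ := δ) (k := k)) = 0 := rfl

theorem cl_zsmul (n : ℤ) (α : AlgebraicCycle X ℤ) (hα : α ∈ Cyc.Zk X δ k) :
    ChowOps.cl (n • α) (zsmul_mem hα n) = n • ChowOps.cl α hα := rfl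

theorem cl_eq_cl {α β : AlgebraicCycle X ℤ} (hα : α ∈ Cyc.Zk X δ k) (hβ : β ∈ Cyc.Zk X δ k) :
    ChowOps.cl α hα = ChowOps.cl β hβ ↔ Cyc.RatEquiv δ k α β := by
  rw [← sub_eq_zero, ← cl_sub, cl_eq_zero]
  rfl

/-- Rewriting a weight index in the class. -/
theorem mem_Zk_congr {α : AlgebraicCycle X ℤ} (hα : α ∈ Cyc.Zk X δ k) (e : k = l) :
    α ∈ Cyc.Zk X δ l := e ▸ hα

section mkHom

variable {Y : Scheme.{u}} {δY : Y → ℤ} {m : ℤ}

/-- A homomorphism of Chow groups from an operation on cycles which is additive up to rational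
equivalence and preserves rational equivalence to zero. -/
noncomputable def mkHom (F : (α : AlgebraicCycle X ℤ) → α ∈ Cyc.Zk X δ k → AlgebraicCycle Y ℤ)
    (hF : ∀ α hα, F α hα ∈ Cyc.Zk Y δY m)
    (hadd : ∀ α β hα hβ hαβ, Cyc.RatEquiv δY m (F (α + β) hαβ) (F α hα + F β hβ))
    (h0 : ∀ α hα, Cyc.RatEquivZero δ k α → Cyc.RatEquivZero δY m (F α hα)) :
    ChowOps.CH X δ k →+ ChowOps.CH Y δY m :=
  QuotientAddGroup.lift (ChowOps.ratTriv X δ k)
    (AddMonoidHom.mk' (fun a : ↥(ChowOps.zk X δ k) => ChowOps.cl (F a.1 a.2) (hF a.1 a.2))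
      (fun a b => (cl_eq_cl (hF (a + b).1 (a + b).2) (add_mem (hF a.1 a.2) (hF b.1 b.2))).2
        (hadd a.1 b.1 a.2 b.2 (a + b).2)))
    (fun a ha => by
      change ChowOps.cl (F a.1 a.2) (hF a.1 a.2) = 0
      rw [cl_eq_zero]
      exact h0 _ _ (mem_ratTriv.1 ha))

theorem mkHom_cl {F : (α : AlgebraicCycle X ℤ) → α ∈ Cyc.Zk X δ k → AlgebraicCycle Y ℤ}
    {hF : ∀ α hα, F α hα ∈ Cyc.Zk Y δY m}
    {hadd : ∀ α β hα hβ hαβ, Cyc.RatEquiv δY m (F (α + β) hαβ) (F α hα + F β hβ)}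
    {h0 : ∀ α hα, Cyc.RatEquivZero δ k α → Cyc.RatEquivZero δY m (F α hα)}
    (α : AlgebraicCycle X ℤ) (hα : α ∈ Cyc.Zk X δ k) :
    mkHom F hF hadd h0 (ChowOps.cl α hα) = ChowOps.cl (F α hα) (hF α hα) := rfl

/-- A homomorphism of Chow groups induced by a homomorphism on cycles. -/
noncomputable def mkHom' (F : ↥(ChowOps.zk X δ k) →+ ↥(ChowOps.zk Y δY m))
    (h0 : ∀ a : ↥(ChowOps.zk X δ k), Cyc.RatEquivZero δ k (a : AlgebraicCycle X ℤ) →
      Cyc.RatEquivZero δY m (F a : AlgebraicCycle Y ℤ)) :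
    ChowOps.CH X δ k →+ ChowOps.CH Y δY m :=
  QuotientAddGroup.map _ _ F (fun a ha => mem_ratTriv.2 (h0 a (mem_ratTriv.1 ha)))

/-- Two homomorphisms out of a Chow group agreeing on classes of cycles are equal. -/
theorem hom_ext {A : Type*} [AddGroup A] {φ ψ : ChowOps.CH X δ k →+ A}
    (h : ∀ (α : AlgebraicCycle X ℤ) (hα : α ∈ Cyc.Zk X δ k), φ (ChowOps.cl α hα) = ψ (ChowOps.cl α hα)) :
    φ = ψ := by
  refine AddMonoidHom.ext fun x => ?_
  obtain ⟨α, hα, rfl⟩ := Bivar.exists_rep x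
  exact h α hα

end mkHom

theorem chCast_trans {k l m : ℤ} (e : k = l) (e' : l = m) (x : ChowOps.CH X δ k) :
    Bivar.chCast X δ e' (Bivar.chCast X δ e x) = Bivar.chCast X δ (e.trans e') x := by
  subst e e'; rfl

@[simp] theorem chCast_self {k : ℤ} (e : k = k) (x : ChowOps.CH X δ k) : Bivar.chCast X δ e x = x := rfl

theorem chCast_symm_apply {k l : ℤ} (e : k = l) (x : ChowOps.CH X δ l) :
    (Bivar.chCast X δ e).symm x = Bivar.chCast X δ e.symm x := by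
  subst e; rfl

theorem chCast_injective {k l : ℤ} (e : k = l) : Function.Injective (Bivar.chCast X δ e) :=
  (Bivar.chCast X δ e).injective

/-- The class of a cycle, for a weight index equal to the given one. -/
theorem chCast_cl' {k l : ℤ} (e : k = l) (α : AlgebraicCycle X ℤ) (h : α ∈ Cyc.Zk X δ k)
    (h' : α ∈ Cyc.Zk X δ l) : Bivar.chCast X δ e (ChowOps.cl α h) = ChowOps.cl α h' := by
  subst e; rfl

end K930.Chow
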