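import Groth.Agent.Bivar.K930.RelDimBC

/-!
# The three compatibilities of bivariant and operational classes as equalities of maps
-/

set_option autoImplicit false
universe u v
open CategoryTheory AlgebraicGeometry CategoryTheory.Limits Opposite

namespace K930.ClOps

open Groth.Agent Groth.Agent.CycB K930.Chow K930.ModIso K930.PushPull K930.Gysin K930.ZeroSch
open K930.OpenImm K930.GysinComm K930.OKs K930.TestSch K930.RelDimBC Cyc

variable {X Y Z : Scheme.{u}} {δX : X → ℤ} {δY : Y → ℤ} {δZ : Z → ℤ}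

section Cl

variable {f : X ⟶ Y} {p : ℤ} (c : Bivar.Cl p f δX δY) (hX : IsSetup X δX) (hY : IsSetup Y δY)
variable {s t : Bivar.Sq f δX δY}

theorem cl_push {h : t.Y' ⟶ s.Y'} [IsProper h] {h' : t.X' ⟶ s.X'} [IsProper h']
    (w₁ : h ≫ s.g = t.g) (w₂ : h' ≫ s.f' = t.f' ≫ h) (w₃ : h' ≫ s.g' = t.g') {k : ℤ}
    (x : ChowOps.CH t.Y' t.δY' k) :
    c.op s k (pushCH h (setup_Y' s hY) (deltaCompat_h w₁) k x) =
      pushCH h' (setup_X' s hX) (deltaCompat_h' w₃) (k - p) (c.op t k x) :=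
  (pushOK_iff (setup_Y' s hY) (setup_X' s hX) h h' (deltaCompat_h w₁) (deltaCompat_h' w₃) _ _).1
    (c.push s t h h' w₁ w₂ w₃ k) x

theorem cl_pull {h : t.Y' ⟶ s.Y'} [Flat h] {h' : t.X' ⟶ s.X'} [Flat h'] {r : ℕ}
    (hr : HasRelDim h r) (hr' : HasRelDim h' r)
    (w₁ : h ≫ s.g = t.g) (w₂ : h' ≫ s.f' = t.f' ≫ h) (w₃ : h' ≫ s.g' = t.g') {k k' : ℤ}
    (hk : k' = k + r) (hk' : k' - p = k - p + r) (x : ChowOps.CH s.Y' s.δY' k) :
    c.op t k' (pullCH h (setup_Y' t hY) (setup_Y' s hY) (shift_h w₁ hr) hk x) =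
      pullCH h' (setup_X' t hX) (setup_X' s hX) (shift_h' w₃ hr') hk' (c.op s k x) := by
  subst hk
  exact (pullOK_iff (setup_Y' s hY) (setup_X' s hX) (setup_Y' t hY) (setup_X' t hX) h h'
    (shift_h w₁ hr) (shift_h' w₃ hr') rfl hk' _ _).1 (c.pull s t h h' r hr hr' w₁ w₂ w₃ k) x

theorem cl_gysin {i : t.Y' ⟶ s.Y'} [IsClosedImmersion i] {j : t.X' ⟶ s.X'} [IsClosedImmersion j]
    (w₁ : i ≫ s.g = t.g) (w₂ : j ≫ s.f' = t.f' ≫ i) (w₃ : j ≫ s.g' = t.g')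
    {L : s.Y'.Modules} (hL : PicF.IsInvertible L) {σ : L.presheaf.obj (op ⊤)}
    (hσ : IsZeroSchemeOf i L σ) {N : s.X'.Modules} (hN : PicF.IsInvertible N)
    {τ : N.presheaf.obj (op ⊤)} (hτ : IsZeroSchemeOf j N τ)
    (e : (Scheme.Modules.pullback s.f').obj L ≅ N) {k l : ℤ} (hk : k = l + 1)
    (hk' : k - p = l - p + 1) (x : ChowOps.CH s.Y' s.δY' k) :
    c.op t l (gysCH i (setup_Y' s hY) (deltaCompat_h w₁) hL hσ hk x) =
      gysCH j (setup_X' s hX) (deltaCompat_h' w₃) hN hτ hk' (c.op s k x) := by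
  obtain rfl : l = k - 1 := by omega
  have hLf := CycB.C1Pull.isInvertible_pullback s.f' hL
  have hτ' := isZeroSchemeOf_of_iso e.symm hτ
  rw [gysCH_indep (setup_X' s hX) (deltaCompat_h' w₃) hN hτ hLf hτ'
    ((Scheme.Modules.pullback j).mapIso e.symm) hk']
  exact (gysinOK_iff (setup_Y' s hY) (setup_X' s hX) i j (deltaCompat_h w₁) (deltaCompat_h' w₃)
    hL hLf hσ hτ' hk hk' _ _).1 (c.gysin s t i j w₁ w₂ w₃ L hL σ hσ _ hτ' k) x

/-- Changing the fibre product in a square. -/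
theorem cl_change {u : Bivar.Sq f δX δY} {v : Bivar.Sq f δX δY} (h : v.Y' ⟶ u.Y') [IsIso h]
    (h' : v.X' ⟶ u.X') [IsIso h'] (w₁ : h ≫ u.g = v.g) (w₂ : h' ≫ u.f' = v.f' ≫ h)
    (w₃ : h' ≫ u.g' = v.g') {k : ℤ} (x : ChowOps.CH v.Y' v.δY' k) :
    c.op u k (pushCH h (setup_Y' u hY) (deltaCompat_h w₁) k x) =
      pushCH h' (setup_X' u hX) (deltaCompat_h' w₃) (k - p) (c.op v k x) :=
  cl_push c hX hY w₁ w₂ w₃ x

end Cl

section OpCl

variable {p : ℤ} (c : Bivar.OpCl p X δX) (hX : IsSetup X δX)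
variable {s t : Bivar.OSq X δX}

theorem opCl_push {h : t.Y ⟶ s.Y} [IsProper h] (w : h ≫ s.g = t.g) {k : ℤ}
    (x : ChowOps.CH t.Y t.δ k) :
    c.op s k (pushCH h (setup_OSq hX s) (deltaCompat_OSq w) k x) =
      pushCH h (setup_OSq hX s) (deltaCompat_OSq w) (k - p) (c.op t k x) :=
  (pushOK_iff (setup_OSq hX s) (setup_OSq hX s) h h (deltaCompat_OSq w) (deltaCompat_OSq w) _ _).1
    (c.push s t h w k) x

theorem opCl_pull {h : t.Y ⟶ s.Y} [Flat h] {r : ℕ} (hr : HasRelDim h r)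
    (w : h ≫ s.g = t.g) {k k' : ℤ}
    (hk : k' = k + r) (hk' : k' - p = k - p + r) (x : ChowOps.CH s.Y s.δ k) :
    c.op t k' (pullCH h (setup_OSq hX t) (setup_OSq hX s) (shift_OSq w hr) hk x) =
      pullCH h (setup_OSq hX t) (setup_OSq hX s) (shift_OSq w hr) hk' (c.op s k x) := by
  subst hk
  exact (pullOK_iff (setup_OSq hX s) (setup_OSq hX s) (setup_OSq hX t) (setup_OSq hX t) h h
    (shift_OSq w hr) (shift_OSq w hr) rfl hk' _ _).1 (c.pull s t h r hr w k) x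

theorem opCl_gysin {i : t.Y ⟶ s.Y} [IsClosedImmersion i]
    (w : i ≫ s.g = t.g)
    {L : s.Y.Modules} (hL : PicF.IsInvertible L) {σ : L.presheaf.obj (op ⊤)}
    (hσ : IsZeroSchemeOf i L σ) {k l : ℤ} (hk : k = l + 1)
    (hk' : k - p = l - p + 1) (x : ChowOps.CH s.Y s.δ k) :
    c.op t l (gysCH i (setup_OSq hX s) (deltaCompat_OSq w) hL hσ hk x) =
      gysCH i (setup_OSq hX s) (deltaCompat_OSq w) hL hσ hk' (c.op s k x) := by
  obtain rfl : l = k - 1 := by omega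
  exact (gysinOK₁_iff (setup_OSq hX s) i (deltaCompat_OSq w)
    hL hσ hk hk' _ _).1 (c.gysin s t i w L hL σ hσ k) x

end OpCl

end K930.ClOps
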