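import Groth.Agent.Bivar.K930.ClOps
import Groth.Agent.CycB.RatTransport

/-!
# Restriction to opens, and Chow groups of disjoint unions
-/

set_option autoImplicit false
universe u v
open CategoryTheory AlgebraicGeometry CategoryTheory.Limits Opposite

namespace K930.Clopen

open Groth.Agent Groth.Agent.CycB K930.Chow K930.ModIso K930.PushPull K930.Gysin K930.ZeroSch
open K930.OpenImm K930.GysinComm K930.OKs K930.TestSch K930.RelDimBC K930.ClOps Cyc

section Res

variable {U V X Y : Scheme.{u}} {δU : U → ℤ} {δV : V → ℤ} {δX : X → ℤ} {δY : Y → ℤ}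

/-- Restriction of Chow groups to an open subscheme. -/
noncomputable def resCH (j : U ⟶ X) [IsOpenImmersion j] (hX : IsSetup X δX)
    (h : DeltaCompat j δU δX) (k : ℤ) : ChowOps.CH X δX k →+ ChowOps.CH U δU k :=
  pullCH j (setup_of j hX h) hX (shift_open j h) (add_zero k).symm

theorem resCH_cl (j : U ⟶ X) [IsOpenImmersion j] (hX : IsSetup X δX)
    (h : DeltaCompat j δU δX) (k : ℤ) (α : AlgebraicCycle X ℤ) (hα : α ∈ Zk X δX k)
    (β : AlgebraicCycle U ℤ) (hβ : β ∈ Zk U δU k) (e : ∀ x, β x = α (j x)) :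
    resCH j hX h k (ChowOps.cl α hα) = ChowOps.cl β hβ := by
  apply pullCH_cl
  funext x
  rw [pullFun_open j h, e]

theorem pullCH_eq_resCH (j : U ⟶ X) [IsOpenImmersion j] (hU : IsSetup U δU) (hX : IsSetup X δX)
    (h : DeltaCompat j δU δX) {c : ℤ} (hc : c = 0) (hs : Shift j δU δX c) {k : ℤ}
    (e : k = k + c) : pullCH j hU hX hs e = resCH j hX h k := by
  subst hc; rfl

theorem resCH_congr {j j' : U ⟶ X} [IsOpenImmersion j] [IsOpenImmersion j'] (e : j = j')
    (hX : IsSetup X δX) (h : DeltaCompat j δU δX) (h' : DeltaCompat j' δU δX) (k : ℤ) :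
    resCH j hX h k = resCH j' hX h' k := by
  subst e; rfl

theorem resCH_comp (j : U ⟶ X) [IsOpenImmersion j] (i : X ⟶ Y) [IsOpenImmersion i]
    (hX : IsSetup X δX) (hY : IsSetup Y δY)
    (h : DeltaCompat j δU δX) (h' : DeltaCompat i δX δY) (h'' : DeltaCompat (j ≫ i) δU δY) {k : ℤ}
    (x : ChowOps.CH Y δY k) :
    resCH j hX h k (resCH i hY h' k x) = resCH (j ≫ i) hY h'' k x := by
  obtain ⟨α, hα, rfl⟩ := Bivar.exists_rep x
  have hXs := setup_of i hY h'
  rw [resCH, resCH, pullCH_cl', pullCH_cl']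
  symm
  refine resCH_cl _ _ _ _ _ _ _ _ fun x => ?_
  rw [pullCyc_open _ _ h, pullCyc_open _ _ h', Scheme.Hom.comp_apply]

theorem resCH_id (hX : IsSetup X δX) (h : DeltaCompat (𝟙 X) δX δX) {k : ℤ}
    (x : ChowOps.CH X δX k) : resCH (𝟙 X) hX h k x = x := pullCH_id _ _ _ _

/-- Restriction and proper pushforward. -/
theorem resCH_pushCH {U' X' : Scheme.{u}} {δU' : U' → ℤ} {δX' : X' → ℤ} {j' : U' ⟶ X'}
    {f' : U' ⟶ U} {f : X' ⟶ X} {j : U ⟶ X} (h : IsPullback f' j' j f) [IsOpenImmersion j]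
    [IsOpenImmersion j'] [IsProper f] [IsProper f']
    (hX : IsSetup X δX) (hX' : IsSetup X' δX') (hU : IsSetup U δU)
    (hj : DeltaCompat j δU δX) (hj' : DeltaCompat j' δU' δX') (hf : DeltaCompat f δX' δX)
    (hf' : DeltaCompat f' δU' δU) {k : ℤ} (x : ChowOps.CH X' δX' k) :
    resCH j hX hj k (pushCH f hX hf k x) = pushCH f' hU hf' k (resCH j' hX' hj' k x) :=
  pullCH_pushCH h hX' hX _ _ hf hf' _ _ _ x

theorem mult_comp_open {W : Scheme.{u}} (f : W ⟶ U) (j : U ⟶ X) [IsOpenImmersion j] (x : W) :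
    FlatLength.mult (f ≫ j) x = FlatLength.mult f x := by
  unfold FlatLength.mult
  have hb := ConcreteCategory.bijective_of_isIso (j.stalkMap (f x))
  have : Ideal.map ((f ≫ j).stalkMap x).hom
      (IsLocalRing.maximalIdeal (X.presheaf.stalk ((f ≫ j) x))) =
      Ideal.map (f.stalkMap x).hom (IsLocalRing.maximalIdeal (U.presheaf.stalk (f x))) := by
    have e1 : ((f ≫ j).stalkMap x).hom = (f.stalkMap x).hom.comp (j.stalkMap (f x)).hom := by
      rw [Scheme.Hom.stalkMap_comp]; rfl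
    rw [e1]
    refine (Ideal.map_map _ _).symm.trans ?_
    exact congrArg _ (IsLocalRing.map_maximalIdeal_of_surjective _ hb.2)
  rw [this]

/-- Flat pullback to an open subscheme of the target. -/
theorem pullFun_comp_open {W : Scheme.{u}} {δW : W → ℤ} (f : W ⟶ U) (j : U ⟶ X)
    [IsOpenImmersion j] (h : DeltaCompat j δU δX) (c : ℤ) (α : X → ℤ) (x : W) :
    pullFun (f ≫ j) δW δX c α x = pullFun f δW δU c (fun u => α (j u)) x := by
  obtain rfl := deltaCompat_eq j h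
  rw [FlatLength.pullFun_apply, FlatLength.pullFun_apply, mult_comp_open]
  rfl

/-- Restriction and flat pullback, in a commutative square. -/
theorem resCH_pullCH {U' X' : Scheme.{u}} {δU' : U' → ℤ} {δX' : X' → ℤ} {j' : U' ⟶ X'}
    {f' : U' ⟶ U} {f : X' ⟶ X} {j : U ⟶ X} (w : f' ≫ j = j' ≫ f) [IsOpenImmersion j]
    [IsOpenImmersion j'] [Flat f] [Flat f']
    (hX : IsSetup X δX) (hX' : IsSetup X' δX') (hU : IsSetup U δU) (hU' : IsSetup U' δU')
    (hj : DeltaCompat j δU δX) (hj' : DeltaCompat j' δU' δX') {c : ℤ} (hf : Shift f δX' δX c)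
    (hf' : Shift f' δU' δU c) {k l : ℤ} (hl : l = k + c) (x : ChowOps.CH X δX k) :
    resCH j' hX' hj' l (pullCH f hX' hX hf hl x) = pullCH f' hU' hU hf' hl (resCH j hX hj k x) := by
  obtain ⟨α, hα, rfl⟩ := Bivar.exists_rep x
  rw [pullCH_cl', resCH, resCH, pullCH_cl', pullCH_cl']
  symm
  apply pullCH_cl
  funext x
  rw [pullCyc_open _ _ hj', pullCyc_coe, ← pullFun_open_comp j' hj', ← w, pullFun_comp_open f' j hj]
  congr 1
  funext y
  rw [pullCyc_open _ _ hj]

/-- Restriction and Gysin maps. -/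
theorem resCH_gysCH {D D' : Scheme.{u}} {δD : D → ℤ} {δD' : D' → ℤ} {j : U ⟶ X}
    [IsOpenImmersion j] {i : D ⟶ X} [IsClosedImmersion i] {i' : D' ⟶ U}
    [IsClosedImmersion i'] {g : D' ⟶ D} [IsOpenImmersion g] (h : IsPullback i' g j i)
    (hX : IsSetup X δX) (hU : IsSetup U δU) (hD : IsSetup D δD)
    (hi : DeltaCompat i δD δX) (hi' : DeltaCompat i' δD' δU)
    (hj : DeltaCompat j δU δX) (hg : DeltaCompat g δD' δD)
    {L : X.Modules} {L' : U.Modules} (hL : PicF.IsInvertible L)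
    (hL' : PicF.IsInvertible L') {σ : L.presheaf.obj (op ⊤)} {σ' : L'.presheaf.obj (op ⊤)}
    (hσ : IsZeroSchemeOf i L σ) (hσ' : IsZeroSchemeOf i' L' σ')
    (e : (Scheme.Modules.pullback j).obj L ≅ L')
    {k l : ℤ} (hl : k = l + 1) (x : ChowOps.CH X δX k) :
    gysCH i' hU hi' hL' hσ' hl (resCH j hX hj k x) = resCH g hD hg l (gysCH i hX hi hL hσ hl x) :=
  gysCH_pullCH h hX _ hD _ hi hi' _ _ hL hL' hσ hσ' e hl _ _ hl x

end Res

section Clopen

variable {X : Scheme.{u}} {δ : X → ℤ} {k : ℤ} {J : Type u} {U : J → Scheme.{u}}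
  (j : ∀ a, U a ⟶ X) [∀ a, IsOpenImmersion (j a)]
  (hdisj : ∀ a b : J, ∀ (x : U a) (y : U b), j a x = j b y → a = b)
  (hcov : ∀ x : X, ∃ (a : J) (y : U a), j a y = x)

include hdisj hcov in
/-- Rational equivalence to zero can be checked on the pieces of a disjoint union. -/
theorem ratEquivZero_of_clopen (α : AlgebraicCycle X ℤ)
    (β : ∀ a, AlgebraicCycle (U a) ℤ) (hβ : ∀ a x, β a x = α (j a x))
    (h : ∀ a, RatEquivZero (fun x => δ (j a x)) k (β a)) : RatEquivZero δ k α := by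
  choose ι ξ f hξ hf hlf hα using h
  choose g hg hd using fun (a : J) (i : ι a) =>
    RatTransport.exists_extend (j a) δ (ξ a i) (f a i) (hf a i)
  refine DivFun.ratEquivZero_sigma (fun a i => j a (ξ a i)) g hξ hg ?_ α ?_
  · intro x
    obtain ⟨a, y, rfl⟩ := hcov x
    obtain ⟨V, hV, hy, hfin⟩ := (DivFun.locFin_iff _).2 (hlf a) y
    refine ⟨⇑(j a) '' V, (j a).isOpenEmbedding.isOpenMap V hV, ⟨y, hy, rfl⟩, ?_⟩
    refine (hfin.image (fun i => (⟨a, i⟩ : Σ a, ι a))).subset ?_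
    rintro ⟨b, i⟩ hbi
    obtain ⟨z', hz', e⟩ : ∃ z', z' ∈ V ∧ j a z' = j b (ξ b i) := hbi
    obtain rfl : b = a := hdisj b a (ξ b i) z' e.symm
    have h3 : z' = ξ b i := (j b).isOpenEmbedding.injective e
    have h4 : ξ b i ∈ V := h3 ▸ hz'
    exact ⟨i, h4, rfl⟩
  · intro x
    obtain ⟨a, y, rfl⟩ := hcov x
    rw [finsum_eq_single _ a]
    · rw [← hβ, hα]
      exact finsum_congr fun i => (hd a i y).symm
    · intro b hb
      rw [show (fun i => divFun δ (j b (ξ b i)) (g b i) (j a y)) = fun _ => 0 from ?_, finsum_zero]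
      funext i
      unfold divFun
      rw [dif_neg]
      rintro ⟨h1, -⟩
      obtain ⟨w, hw⟩ := h1.mem_open (j a).isOpenEmbedding.isOpen_range ⟨y, rfl⟩
      exact hb (hdisj _ _ _ _ hw.symm)

include hdisj hcov in
/-- Cycles on the pieces of a disjoint union glue. -/
theorem exists_glue (β : ∀ a, AlgebraicCycle (U a) ℤ) :
    ∃ α : AlgebraicCycle X ℤ, ∀ a x, α (j a x) = β a x := by
  choose a y hy using hcov
  have key' : ∀ (b c : J) (x : U b) (z : U c), j c z = j b x → β c z = β b x := by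
    intro b c x z h1
    obtain rfl := hdisj _ _ _ _ h1
    rw [(j c).isOpenEmbedding.injective h1]
  have key : ∀ b (x : U b), β (a (j b x)) (y (j b x)) = β b x :=
    fun b x => key' b _ x _ (hy (j b x))
  refine ⟨⟨fun x => β (a x) (y x), by simp, fun x _ => ?_⟩, key⟩
  obtain ⟨t, ht, hfin⟩ := (β (a x)).supportLocallyFiniteWithinDomain' (y x) (by trivial)
  refine ⟨⇑(j (a x)) '' t, ?_, ?_⟩
  · have := (j (a x)).isOpenEmbedding.image_mem_nhds.2 ht
    rwa [hy] at this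
  · refine (hfin.image ⇑(j (a x))).subset ?_
    rintro _ ⟨⟨z, hz, rfl⟩, hz'⟩
    refine ⟨z, ⟨hz, ?_⟩, rfl⟩
    exact fun h0 => hz' ((key _ z).trans h0)

variable (hX : IsSetup X δ) {δU : ∀ a, U a → ℤ} (hδ : ∀ a, DeltaCompat (j a) (δU a) δ)

include hdisj hcov in
theorem resCH_injective {x : ChowOps.CH X δ k} (h : ∀ a, resCH (j a) hX (hδ a) k x = 0) :
    x = 0 := by
  obtain ⟨α, hα, rfl⟩ := Bivar.exists_rep x
  rw [cl_eq_zero]
  have hcc : ∀ a (x : U a), RatTransport.comapCycle (j a) (j a).isOpenEmbedding.injective α x =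
    α (j a x) := fun a x => rfl
  refine ratEquivZero_of_clopen j hdisj hcov α _ hcc fun a => ?_
  have hδa := deltaCompat_eq (j a) (hδ a)
  have hm : RatTransport.comapCycle (j a) (j a).isOpenEmbedding.injective α ∈
    Zk (U a) (δU a) k := by rw [hδa]; exact RatTransport.comapCycle_mem_Zk _ _ _ _ _ hα
  have := h a
  rw [resCH_cl (j a) hX (hδ a) k α hα _ hm (hcc a), cl_eq_zero] at this
  rwa [hδa] at this

include hdisj hcov in
theorem resCH_ext {x y : ChowOps.CH X δ k}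
    (h : ∀ a, resCH (j a) hX (hδ a) k x = resCH (j a) hX (hδ a) k y) : x = y := by
  rw [← sub_eq_zero]
  refine resCH_injective j hdisj hcov hX hδ fun a => ?_
  rw [map_sub, h a, sub_self]

include hdisj hcov in
theorem resCH_surjective (y : ∀ a, ChowOps.CH (U a) (δU a) k) :
    ∃ x : ChowOps.CH X δ k, ∀ a, resCH (j a) hX (hδ a) k x = y a := by
  choose β hβ e using fun a => Bivar.exists_rep (y a)
  obtain ⟨α, hα⟩ := exists_glue j hdisj hcov β
  have hm : α ∈ Zk X δ k := by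
    intro x hx
    obtain ⟨a, z, rfl⟩ := hcov x
    rw [hα]
    apply hβ a
    rwa [deltaCompat_eq (j a) (hδ a)]
  refine ⟨ChowOps.cl α hm, fun a => ?_⟩
  rw [← e a]
  exact resCH_cl _ _ _ _ _ _ _ _ fun x => (hα a x).symm

end Clopen

section Ops

variable {X Y : Scheme.{u}} {δX : X → ℤ} {δY : Y → ℤ} {f : X ⟶ Y} {p : ℤ}
  (c : Bivar.Cl p f δX δY) (hX : IsSetup X δX) (hY : IsSetup Y δY) {s t : Bivar.Sq f δX δY}

theorem cl_res {h : t.Y' ⟶ s.Y'} [IsOpenImmersion h] {h' : t.X' ⟶ s.X'} [IsOpenImmersion h']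
    (w₁ : h ≫ s.g = t.g) (w₂ : h' ≫ s.f' = t.f' ≫ h) (w₃ : h' ≫ s.g' = t.g') {k : ℤ}
    (x : ChowOps.CH s.Y' s.δY' k) :
    c.op t k (resCH h (setup_Y' s hY) (deltaCompat_h w₁) k x) =
      resCH h' (setup_X' s hX) (deltaCompat_h' w₃) (k - p) (c.op s k x) := by
  have h1 := hasRelDim_open h
  have h2 := hasRelDim_open h'
  have := cl_pull c hX hY h1 h2 w₁ w₂ w₃ (k := k) (k' := k) (by simp) (by simp) x
  rw [pullCH_eq_resCH h _ _ (deltaCompat_h w₁) (by simp),
    pullCH_eq_resCH h' _ _ (deltaCompat_h' w₃) (by simp)] at this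
  exact this

end Ops

end K930.Clopen
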