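import Groth.Agent.Bivar.K930.ClOps

/-!
# Building squares
-/

set_option autoImplicit false
universe u v
open CategoryTheory AlgebraicGeometry CategoryTheory.Limits Opposite

namespace K930.Squares

open Groth.Agent Groth.Agent.CycB K930.Chow K930.ModIso K930.PushPull K930.Gysin K930.ZeroSch
open K930.OpenImm K930.GysinComm K930.OKs K930.TestSch K930.RelDimBC K930.ClOps Cyc

variable {X Y Z : Scheme.{u}} {δX : X → ℤ} {δY : Y → ℤ} {f : X ⟶ Y}

/-- A square over `f` with prescribed test scheme. -/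
noncomputable abbrev ofHom (δX : X → ℤ) {U : Scheme.{u}} (h : U ⟶ Y) [LocallyOfFiniteType h]
    {δU : U → ℤ} (hδ : DeltaCompat h δU δY) : Bivar.Sq f δX δY :=
  have e : ∃ δ', DeltaCompat (pullback.snd h f) δ' δX := SetupLft.exists_deltaCompat _ _
  ⟨U, pullback h f, h, pullback.fst h f, pullback.snd h f, IsPullback.of_hasPullback _ _, ‹_›, δU,
    e.choose, hδ, e.choose_spec⟩

/-- A map of test schemes induces a map of squares. -/
theorem exists_map (s t : Bivar.Sq f δX δY) (h : t.Y' ⟶ s.Y') (w : h ≫ s.g = t.g) :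
    ∃ h' : t.X' ⟶ s.X', h' ≫ s.f' = t.f' ≫ h ∧ h' ≫ s.g' = t.g' := by
  have w2 : (t.f' ≫ h) ≫ s.g = t.g' ≫ f := by rw [Category.assoc, w, t.isPullback.w]
  exact ⟨s.isPullback.lift (t.f' ≫ h) t.g' w2, s.isPullback.lift_fst _ _ w2,
    s.isPullback.lift_snd _ _ w2⟩

section

variable (hX : IsSetup X δX) (hY : IsSetup Y δY)
variable {p : ℤ} (c d : Bivar.Cl p f δX δY)

include hX hY in
/-- Two classes which agree on a test scheme agree on the image of the proper pushforward. -/
theorem op_eq_of_push {s t : Bivar.Sq f δX δY} (h : t.Y' ⟶ s.Y') [IsProper h]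
    (w : h ≫ s.g = t.g) {k : ℤ} (x : ChowOps.CH t.Y' t.δY' k)
    (e : c.op t k x = d.op t k x) :
    c.op s k (pushCH h (setup_Y' s hY) (deltaCompat_h w) k x) =
      d.op s k (pushCH h (setup_Y' s hY) (deltaCompat_h w) k x) := by
  obtain ⟨h', w₂, w₃⟩ := exists_map s t h w
  have : IsProper h' := MorphismProperty.of_isPullback (isPullback_h w w₂ w₃) ‹_›
  rw [cl_push c hX hY w w₂ w₃, cl_push d hX hY w w₂ w₃, e]

include hX hY in
theorem op_eq_zero_of_push {s t : Bivar.Sq f δX δY} (h : t.Y' ⟶ s.Y') [IsProper h]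
    (w : h ≫ s.g = t.g) {k : ℤ} (x : ChowOps.CH t.Y' t.δY' k)
    (e : c.op t k x = 0) :
    c.op s k (pushCH h (setup_Y' s hY) (deltaCompat_h w) k x) = 0 := by
  have := op_eq_of_push hX hY c 0 h w x (by rw [e]; rfl)
  rw [this]; rfl

include hX hY in
/-- Agreement on a test scheme does not depend on the presentation of the square. -/
theorem op_eq_of_eq {s t : Bivar.Sq f δX δY} (h : t.Y' ⟶ s.Y') [IsIso h]
    (w : h ≫ s.g = t.g)
    (e : ∀ (k : ℤ) (x : ChowOps.CH t.Y' t.δY' k), c.op t k x = d.op t k x) (k : ℤ)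
    (x : ChowOps.CH s.Y' s.δY' k) : c.op s k x = d.op s k x := by
  obtain ⟨y, rfl⟩ := (pushCH_iso_bijective h (setup_Y' t hY) (setup_Y' s hY) (deltaCompat_h w) k).2 x
  exact op_eq_of_push hX hY c d h w y (e k y)

end

end K930.Squares
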