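import Groth.Agent.Bivar.K930.Clopen
import Groth.Agent.Bivar.K930.Squares

/-!
# Bivariant classes over a disjoint union
-/

set_option autoImplicit false
universe u v
open CategoryTheory AlgebraicGeometry CategoryTheory.Limits Opposite

namespace K930.ClopenCl

open Groth.Agent Groth.Agent.CycB K930.Chow K930.ModIso K930.PushPull K930.Gysin K930.ZeroSch
open K930.OpenImm K930.GysinComm K930.OKs K930.TestSch K930.RelDimBC K930.ClOps Cyc K930.Clopen
open K930.Squares

variable {X Y : Scheme.{u}} {δX : X → ℤ} {δY : Y → ℤ} {f : X ⟶ Y}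

/-- A piece of a test square over one member of the decomposition. -/
structure Piece (s u : Bivar.Sq f δX δY) where
  r : Bivar.Sq s.f' s.δX' s.δY'
  i : r.Y' ⟶ u.Y'
  i' : r.X' ⟶ u.X'
  open_i : IsOpenImmersion i
  w₁ : i ≫ u.g = r.g ≫ s.g
  w₂ : i' ≫ u.f' = r.f' ≫ i
  w₃ : i' ≫ u.g' = r.g' ≫ s.g'

namespace Piece

variable {s u v : Bivar.Sq f δX δY} (P : Piece s u)

/-- The pasted square. -/
abbrev sq : Bivar.Sq f δX δY := s.paste P.r

theorem isPullback : IsPullback P.r.f' P.i' P.i u.f' := isPullback_h (t := P.sq) P.w₁ P.w₂ P.w₃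

theorem open_i' : IsOpenImmersion P.i' :=
  have := P.open_i
  MorphismProperty.of_isPullback P.isPullback ‹_›

theorem dc : DeltaCompat P.i P.r.δY' u.δY' := deltaCompat_h (s := u) (t := P.sq) P.w₁

theorem dc' : DeltaCompat P.i' P.r.δX' u.δX' := deltaCompat_h' (s := u) (t := P.sq) P.w₃

/-- A piece is full if it is the whole preimage. -/
def Full : Prop := IsPullback P.r.g P.i s.g u.g

/-- The restriction of classes to the piece. -/
noncomputable def res (hY : IsSetup Y δY) (k : ℤ) :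
    ChowOps.CH u.Y' u.δY' k →+ ChowOps.CH P.r.Y' P.r.δY' k :=
  have := P.open_i
  resCH P.i (setup_Y' u hY) P.dc k

noncomputable def res' (hX : IsSetup X δX) (k : ℤ) :
    ChowOps.CH u.X' u.δX' k →+ ChowOps.CH P.r.X' P.r.δX' k :=
  have := P.open_i'
  resCH P.i' (setup_X' u hX) P.dc' k

/-- The full piece. -/
theorem exists_full (s u : Bivar.Sq f δX δY) [IsOpenImmersion s.g] : ∃ P : Piece s u, P.Full := by
  have := u.lft
  have hop : IsOpenImmersion (pullback.snd s.g u.g) := inferInstance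
  have hd : DeltaCompat (pullback.snd s.g u.g) (fun v => u.δY' (pullback.snd s.g u.g v)) u.δY' :=
    deltaCompat_stalk _
  have hd2 : DeltaCompat (pullback.fst s.g u.g) (fun v => u.δY' (pullback.snd s.g u.g v)) s.δY' :=
    deltaCompat_of_comm pullback.condition.symm hd u.compatY s.compatY
  let r : Bivar.Sq s.f' s.δX' s.δY' := ofHom s.δX' (pullback.fst s.g u.g) hd2
  obtain ⟨i', w₂, w₃⟩ := exists_map u (s.paste r) (pullback.snd s.g u.g) pullback.condition.symm
  exact ⟨⟨r, pullback.snd s.g u.g, i', hop, pullback.condition.symm, w₂, w₃⟩,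
    IsPullback.of_hasPullback _ _⟩

variable {P} in
/-- Every piece factors through a full piece. -/
theorem factor (hP : P.Full) (Q : Piece s u) : ∃ (e : Q.r.Y' ⟶ P.r.Y') (e' : Q.r.X' ⟶ P.r.X'),
    IsOpenImmersion e ∧ e ≫ P.r.g = Q.r.g ∧ e' ≫ P.r.f' = Q.r.f' ≫ e ∧ e' ≫ P.r.g' = Q.r.g' ∧
    e ≫ P.i = Q.i ∧ e' ≫ P.i' = Q.i' := by
  have := Q.open_i
  have := P.open_i
  have h1 := hP.lift_fst Q.r.g Q.i Q.w₁.symm
  have h2 := hP.lift_snd Q.r.g Q.i Q.w₁.symm
  obtain ⟨e', w₂, w₃⟩ := exists_map P.r Q.r (hP.lift Q.r.g Q.i Q.w₁.symm) h1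
  refine ⟨_, e', ?_, h1, w₂, w₃, h2, ?_⟩
  · have : IsOpenImmersion (hP.lift Q.r.g Q.i Q.w₁.symm ≫ P.i) := by rw [h2]; infer_instance
    exact IsOpenImmersion.of_comp _ P.i
  · refine u.isPullback.hom_ext ?_ ?_
    · rw [Category.assoc, P.w₂, ← Category.assoc, w₂, Category.assoc, h2, Q.w₂]
    · rw [Category.assoc, P.w₃, ← Category.assoc, w₃, Q.w₃]

/-- Pulling back a piece along a map of squares. -/
theorem exists_pull {h : v.Y' ⟶ u.Y'} {h' : v.X' ⟶ u.X'}
    (w₁ : h ≫ u.g = v.g) (w₂ : h' ≫ u.f' = v.f' ≫ h) (w₃ : h' ≫ u.g' = v.g') :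
    ∃ (Q : Piece s v) (m : Q.r.Y' ⟶ P.r.Y') (m' : Q.r.X' ⟶ P.r.X'),
      IsPullback m Q.i P.i h ∧ IsPullback m' Q.i' P.i' h' ∧ m ≫ P.r.g = Q.r.g ∧
      m' ≫ P.r.f' = Q.r.f' ≫ m ∧ m' ≫ P.r.g' = Q.r.g' ∧ (P.Full → Q.Full) := by
  have := P.open_i
  have := lft_h w₁
  have := P.r.lft
  have hop : IsOpenImmersion (pullback.snd P.i h) := inferInstance
  have hd : DeltaCompat (pullback.snd P.i h) (fun y => v.δY' (pullback.snd P.i h y)) v.δY' :=
    deltaCompat_stalk _
  have hd2 : DeltaCompat (pullback.fst P.i h) (fun y => v.δY' (pullback.snd P.i h y)) P.r.δY' :=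
    deltaCompat_of_comm pullback.condition.symm hd (deltaCompat_h w₁) P.dc
  let r : Bivar.Sq s.f' s.δX' s.δY' := ofHom s.δX' (pullback.fst P.i h ≫ P.r.g)
    (Bivar.deltaCompat_comp _ _ _ _ _ hd2 P.r.compatY)
  have w₄ : pullback.snd P.i h ≫ v.g = (s.paste r).g := by
    change pullback.snd P.i h ≫ v.g = (pullback.fst P.i h ≫ P.r.g) ≫ s.g
    rw [Category.assoc, ← P.w₁, ← w₁, pullback.condition_assoc]
  obtain ⟨i', w₅, w₆⟩ := exists_map v (s.paste r) (pullback.snd P.i h) w₄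
  let Q : Piece s v := ⟨r, pullback.snd P.i h, i', hop, w₄, w₅, w₆⟩
  obtain ⟨m, hpb, hm⟩ : ∃ m : Q.r.Y' ⟶ P.r.Y', IsPullback m Q.i P.i h ∧ m ≫ P.r.g = Q.r.g :=
    ⟨pullback.fst P.i h, IsPullback.of_hasPullback _ _, rfl⟩
  obtain ⟨m', w₇, w₈⟩ := exists_map P.r Q.r m hm
  refine ⟨Q, m, m', hpb, ?_, hm, w₇, w₈, fun hP => ?_⟩
  · refine IsPullback.of_bot (h₃₁ := h) (v₂₁ := v.f') (v₂₂ := u.f') ?_ ?_
      (isPullback_h w₁ w₂ w₃).flip
    · rw [Q.w₂, P.w₂]
      exact (isPullback_h (s := P.r) (t := Q.r) hm w₇ w₈).flip.paste_vert hpb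
    · refine u.isPullback.hom_ext ?_ ?_
      · rw [Category.assoc, Category.assoc, P.w₂, w₂, ← Category.assoc, w₇, ← Category.assoc, Q.w₂,
          Category.assoc, Category.assoc, hpb.w]
      · rw [Category.assoc, Category.assoc, P.w₃, w₃, ← Category.assoc, w₈, Q.w₃]
  · have := hpb.paste_horiz hP
    rw [w₁, hm] at this
    exact this

section Glue

variable {s : Bivar.Sq f δX δY} (hX : IsSetup X δX) (hY : IsSetup Y δY) {p : ℤ}
  (c : Bivar.Cl p s.f' s.δX' s.δY') {u v : Bivar.Sq f δX δY}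

/-- `y` restricts to `c ∩ x` on every piece over `s`. -/
def Good {k : ℤ} (x : ChowOps.CH u.Y' u.δY' k) (y : ChowOps.CH u.X' u.δX' (k - p)) : Prop :=
  ∀ P : Piece s u, P.res' hX (k - p) y = c.op P.r k (P.res hY k x)

variable {hX hY c} {k : ℤ} {x : ChowOps.CH u.Y' u.δY' k} {y : ChowOps.CH u.X' u.δX' (k - p)}

/-- It is enough to look at one full piece. -/
theorem good_of_full {P : Piece s u} (hP : P.Full)
    (h : P.res' hX (k - p) y = c.op P.r k (P.res hY k x)) : Good hX hY c x y := by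
  intro Q
  obtain ⟨e, e', ho, h1, h2, h3, h4, h5⟩ := factor hP Q
  have := Q.open_i
  have := P.open_i
  have := Q.open_i'
  have := P.open_i'
  have ho' : IsOpenImmersion e' := by
    have : IsOpenImmersion (e' ≫ P.i') := by rw [h5]; infer_instance
    exact IsOpenImmersion.of_comp _ P.i'
  have key := cl_res c (setup_X' s hX) (setup_Y' s hY) (s := P.r) (t := Q.r) (h := e) (h' := e')
    h1 h2 h3 (P.res hY k x)
  rw [← h] at key
  rw [res, resCH_comp e P.i _ _ _ P.dc (deltaCompat_congr h4.symm Q.dc),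
    resCH_congr h4 _ _ Q.dc, res', resCH_comp e' P.i' _ _ _ P.dc' (deltaCompat_congr h5.symm Q.dc'),
    resCH_congr h5 _ _ Q.dc'] at key
  exact key.symm

theorem Good.add {x' : ChowOps.CH u.Y' u.δY' k} {y' : ChowOps.CH u.X' u.δX' (k - p)}
    (h : Good hX hY c x y) (h' : Good hX hY c x' y') : Good hX hY c (x + x') (y + y') := by
  intro P
  rw [map_add, map_add, map_add, h P, h' P]

theorem good_push {h : v.Y' ⟶ u.Y'} [IsProper h] {h' : v.X' ⟶ u.X'} [IsProper h']
    (w₁ : h ≫ u.g = v.g) (w₂ : h' ≫ u.f' = v.f' ≫ h) (w₃ : h' ≫ u.g' = v.g')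
    {x : ChowOps.CH v.Y' v.δY' k} {y : ChowOps.CH v.X' v.δX' (k - p)} (hg : Good hX hY c x y) :
    Good hX hY c (pushCH h (setup_Y' u hY) (deltaCompat_h w₁) k x)
      (pushCH h' (setup_X' u hX) (deltaCompat_h' w₃) (k - p) y) := by
  intro P
  obtain ⟨Q, m, m', h1, h2, h3, h4, h5, -⟩ := P.exists_pull w₁ w₂ w₃
  have := Q.open_i
  have := P.open_i
  have := Q.open_i'
  have := P.open_i'
  have hm : IsProper m := MorphismProperty.of_isPullback h1.flip ‹_›
  have hm' : IsProper m' := MorphismProperty.of_isPullback h2.flip ‹_›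
  rw [res', resCH_pushCH h2 _ (setup_X' v hX) (setup_X' P.r (setup_X' s hX)) _ Q.dc' _
    (deltaCompat_h' h5), res, resCH_pushCH h1 _ (setup_Y' v hY) (setup_Y' P.r (setup_Y' s hY)) _
    Q.dc _ (deltaCompat_h h3), cl_push c (setup_X' s hX) (setup_Y' s hY) (s := P.r) (t := Q.r)
    (h := m) (h' := m') h3 h4 h5]
  exact congrArg _ (hg Q)

theorem good_pull [IsOpenImmersion s.g] {h : v.Y' ⟶ u.Y'} [Flat h] {h' : v.X' ⟶ u.X'} [Flat h']
    {r : ℕ} (hr : HasRelDim h r) (hr' : HasRelDim h' r)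
    (w₁ : h ≫ u.g = v.g) (w₂ : h' ≫ u.f' = v.f' ≫ h) (w₃ : h' ≫ u.g' = v.g')
    {k' : ℤ} (hk : k' = k + r) (hk' : k' - p = k - p + r) (hg : Good hX hY c x y) :
    Good hX hY c (pullCH h (setup_Y' v hY) (setup_Y' u hY) (shift_h w₁ hr) hk x)
      (pullCH h' (setup_X' v hX) (setup_X' u hX) (shift_h' w₃ hr') hk' y) := by
  obtain ⟨P, hP⟩ := exists_full s u
  obtain ⟨Q, m, m', h1, h2, h3, h4, h5, h6⟩ := P.exists_pull w₁ w₂ w₃
  refine good_of_full (h6 hP) ?_
  have := Q.open_i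
  have := P.open_i
  have := Q.open_i'
  have := P.open_i'
  have hm : Flat m := flat_of_isPullback h1
  have hm' : Flat m' := flat_of_isPullback h2
  have := lft_h w₁
  have := lft_h' w₃
  have hmr : HasRelDim m r := hasRelDim_of_isPullback h1 hr
  have hmr' : HasRelDim m' r := hasRelDim_of_isPullback h2 hr'
  rw [res', resCH_pullCH h2.w _ (setup_X' v hX) (setup_X' P.r (setup_X' s hX))
    (setup_X' Q.r (setup_X' s hX)) P.dc' _ _ (shift_h' h5 hmr'),
    res, resCH_pullCH h1.w _ (setup_Y' v hY) (setup_Y' P.r (setup_Y' s hY))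
    (setup_Y' Q.r (setup_Y' s hY)) P.dc _ _ (shift_h h3 hmr),
    cl_pull c (setup_X' s hX) (setup_Y' s hY) (s := P.r) (t := Q.r)
    (h := m) (h' := m') hmr hmr' h3 h4 h5 hk hk']
  exact congrArg _ (hg P)

theorem good_gysin [IsOpenImmersion s.g] {i : v.Y' ⟶ u.Y'} [IsClosedImmersion i]
    {j : v.X' ⟶ u.X'} [IsClosedImmersion j]
    (w₁ : i ≫ u.g = v.g) (w₂ : j ≫ u.f' = v.f' ≫ i) (w₃ : j ≫ u.g' = v.g')
    {L : u.Y'.Modules} (hL : PicF.IsInvertible L) {σ : L.presheaf.obj (op ⊤)}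
    (hσ : IsZeroSchemeOf i L σ) {N : u.X'.Modules} (hN : PicF.IsInvertible N)
    {τ : N.presheaf.obj (op ⊤)} (hτ : IsZeroSchemeOf j N τ)
    (e : (Scheme.Modules.pullback u.f').obj L ≅ N) {l : ℤ} (hk : k = l + 1)
    (hk' : k - p = l - p + 1) (hg : Good hX hY c x y) :
    Good hX hY c (gysCH i (setup_Y' u hY) (deltaCompat_h w₁) hL hσ hk x)
      (gysCH j (setup_X' u hX) (deltaCompat_h' w₃) hN hτ hk' y) := by
  obtain ⟨P, hP⟩ := exists_full s u
  obtain ⟨Q, m, m', h1, h2, h3, h4, h5, h6⟩ := P.exists_pull w₁ w₂ w₃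
  refine good_of_full (h6 hP) ?_
  have := Q.open_i
  have := P.open_i
  have := Q.open_i'
  have := P.open_i'
  have hm : IsClosedImmersion m := MorphismProperty.of_isPullback h1.flip ‹_›
  have hm' : IsClosedImmersion m' := MorphismProperty.of_isPullback h2.flip ‹_›
  have hLr := CycB.C1Pull.isInvertible_pullback P.i hL
  have hNr := CycB.C1Pull.isInvertible_pullback P.i' hN
  have hσr := isZeroSchemeOf_pullSec h1 hL hσ
  have hτr := isZeroSchemeOf_pullSec h2 hN hτ
  have e' : (Scheme.Modules.pullback P.r.f').obj ((Scheme.Modules.pullback P.i).obj L) ≅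
      (Scheme.Modules.pullback P.i').obj N :=
    pbIso rfl L ≪≫ (pbIso P.w₂ L).symm ≪≫ (Scheme.Modules.pullback P.i').mapIso e
  rw [res', ← resCH_gysCH h2 _ (setup_X' P.r (setup_X' s hX)) _ _ (deltaCompat_h' h5) P.dc' Q.dc'
    hN hNr hτ hτr (Iso.refl _), res, ← resCH_gysCH h1 _ (setup_Y' P.r (setup_Y' s hY)) _ _
    (deltaCompat_h h3) P.dc Q.dc hL hLr hσ hσr (Iso.refl _),
    cl_gysin c (setup_X' s hX) (setup_Y' s hY) (s := P.r) (t := Q.r)
    (i := m) (j := m') h3 h4 h5 hLr hσr hNr hτr e' hk hk']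
  exact congrArg _ (hg P)

end Glue

end Piece

section Main

open Piece

variable (hX : IsSetup X δX) (hY : IsSetup Y δY) {p : ℤ} {J : Type u} (s : J → Bivar.Sq f δX δY)
  (hopen : ∀ j, IsOpenImmersion (s j).g)
  (hdisj : ∀ j j' : J, j ≠ j' → Disjoint (Set.range (s j).g.base) (Set.range (s j').g.base))
  (hcov : ∀ y : Y, ∃ j, y ∈ Set.range (s j).g.base)

include hdisj in
theorem disj {u : Bivar.Sq f δX δY} {a b : J} (P : Piece (s a) u) (Q : Piece (s b) u)
    {y : P.r.Y'} {z : Q.r.Y'} (h : P.i y = Q.i z) : a = b := by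
  by_contra hab
  have h1 : u.g (P.i y) ∈ Set.range (s a).g.base := ⟨P.r.g y, (congr($(P.w₁) y)).symm⟩
  have h2 : u.g (P.i y) ∈ Set.range (s b).g.base := by
    rw [h]; exact ⟨Q.r.g z, (congr($(Q.w₁) z)).symm⟩
  exact Set.disjoint_left.1 (hdisj a b hab) h1 h2

include hdisj in
theorem disj' {u : Bivar.Sq f δX δY} {a b : J} (P : Piece (s a) u) (Q : Piece (s b) u)
    {y : P.r.X'} {z : Q.r.X'} (h : P.i' y = Q.i' z) : a = b := by
  refine disj s hdisj P Q (y := P.r.f' y) (z := Q.r.f' z) ?_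
  have h1 : u.f' (P.i' y) = P.i (P.r.f' y) := congr($(P.w₂) y)
  have h2 : u.f' (Q.i' z) = Q.i (Q.r.f' z) := congr($(Q.w₂) z)
  rw [← h1, ← h2, h]

theorem cover {u : Bivar.Sq f δX δY} (P : ∀ a, Piece (s a) u) (hP : ∀ a, (P a).Full)
    (hcov : ∀ y : Y, ∃ j, y ∈ Set.range (s j).g.base) (y : u.Y') :
    ∃ (a : J) (z : (P a).r.Y'), (P a).i z = y := by
  obtain ⟨a, w, hw⟩ := hcov (u.g y)
  obtain ⟨z, -, hz⟩ := Scheme.exists_preimage_of_isPullback (hP a) w y hw
  exact ⟨a, z, hz⟩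

theorem cover' {u : Bivar.Sq f δX δY} (P : ∀ a, Piece (s a) u) (hP : ∀ a, (P a).Full)
    (hcov : ∀ y : Y, ∃ j, y ∈ Set.range (s j).g.base) (x : u.X') :
    ∃ (a : J) (z : (P a).r.X'), (P a).i' z = x := by
  obtain ⟨a, w, hw⟩ := cover s P hP hcov (u.f' x)
  obtain ⟨z, -, hz⟩ := Scheme.exists_preimage_of_isPullback (P a).isPullback w x hw
  exact ⟨a, z, hz⟩

/-- A class on the source which restricts to the prescribed one on all pieces. -/
def Glued (c : ∀ a, Bivar.Cl p (s a).f' (s a).δX' (s a).δY') {u : Bivar.Sq f δX δY} {k : ℤ}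
    (x : ChowOps.CH u.Y' u.δY' k) (y : ChowOps.CH u.X' u.δX' (k - p)) : Prop :=
  ∀ a, Good hX hY (c a) x y

include hopen hdisj hcov in
theorem glued_unique {c : ∀ a, Bivar.Cl p (s a).f' (s a).δX' (s a).δY'} {u : Bivar.Sq f δX δY}
    {k : ℤ} {x : ChowOps.CH u.Y' u.δY' k} {y y' : ChowOps.CH u.X' u.δX' (k - p)}
    (h : Glued hX hY s c x y) (h' : Glued hX hY s c x y') : y = y' := by
  choose P hP using fun a => have := hopen a; exists_full (s a) u
  have := fun a => (P a).open_i'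
  refine resCH_ext (fun a => (P a).i') (fun a b y z e => disj' s hdisj (P a) (P b) e)
    (cover' s P hP hcov) (setup_X' u hX) (fun a => (P a).dc') fun a => ?_
  exact (h a (P a)).trans (h' a (P a)).symm

include hopen hdisj hcov in
theorem exists_glued (c : ∀ a, Bivar.Cl p (s a).f' (s a).δX' (s a).δY') {u : Bivar.Sq f δX δY}
    {k : ℤ} (x : ChowOps.CH u.Y' u.δY' k) : ∃ y, Glued hX hY s c x y := by
  choose P hP using fun a => have := hopen a; exists_full (s a) u
  have := fun a => (P a).open_i'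
  obtain ⟨y, hy⟩ := resCH_surjective (fun a => (P a).i')
    (fun a b y z e => disj' s hdisj (P a) (P b) e)
    (cover' s P hP hcov) (setup_X' u hX) (fun a => (P a).dc') (k := k - p)
    (fun a => (c a).op (P a).r k ((P a).res hY k x))
  exact ⟨y, fun a => good_of_full (hP a) (hy a)⟩

include hX hY hopen hdisj hcov in
/-- Bivariant classes on the members of a disjoint union glue. -/
theorem exists_cl (c : ∀ a, Bivar.Cl p (s a).f' (s a).δX' (s a).δY') :
    ∃ d : Bivar.Cl p f δX δY, ∀ a, d.res (s a) = c a := by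
  choose F hF using fun (u : Bivar.Sq f δX δY) (k : ℤ) (x : ChowOps.CH u.Y' u.δY' k) =>
    exists_glued hX hY s hopen hdisj hcov c x
  let G : ∀ (u : Bivar.Sq f δX δY) (k : ℤ), ChowOps.CH u.Y' u.δY' k →+
      ChowOps.CH u.X' u.δX' (k - p) := fun u k => AddMonoidHom.mk' (F u k) fun x y =>
    glued_unique hX hY s hopen hdisj hcov (hF u k (x + y)) fun a => (hF u k x a).add (hF u k y a)
  have hG : ∀ u k x, Glued hX hY s c x (G u k x) := hF
  refine ⟨⟨G, ?_, ?_, ?_⟩, ?_⟩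
  · intro u v h _ h' _ w₁ w₂ w₃ k
    rw [pushOK_iff (setup_Y' u hY) (setup_X' u hX) h h' (deltaCompat_h w₁) (deltaCompat_h' w₃)]
    intro x
    exact glued_unique hX hY s hopen hdisj hcov (hG u k _)
      fun a => good_push w₁ w₂ w₃ (hG v k x a)
  · intro u v h _ h' _ q hq hq' w₁ w₂ w₃ k
    rw [pullOK_iff (setup_Y' u hY) (setup_X' u hX) (setup_Y' v hY) (setup_X' v hX) h h'
      (shift_h w₁ hq) (shift_h' w₃ hq') rfl (by ring)]
    intro x
    exact glued_unique hX hY s hopen hdisj hcov (hG v _ _)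
      fun a => have := hopen a; good_pull hq hq' w₁ w₂ w₃ _ _ (hG u k x a)
  · intro u v i _ j _ w₁ w₂ w₃ M hM σ hσ τ hτ k
    rw [gysinOK_iff (setup_Y' u hY) (setup_X' u hX) i j (deltaCompat_h w₁) (deltaCompat_h' w₃) hM
      (CycB.C1Pull.isInvertible_pullback u.f' hM) hσ hτ (by ring) (by ring)]
    intro x
    exact glued_unique hX hY s hopen hdisj hcov (hG v _ _)
      fun a => have := hopen a; good_gysin w₁ w₂ w₃ hM hσ _ hτ (Iso.refl _) _ _ (hG u k x a)
  · intro a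
    apply Bivar.Cl.ext
    funext r k
    refine AddMonoidHom.ext fun x => ?_
    change G ((s a).paste r) k x = (c a).op r k x
    let P : Piece (s a) ((s a).paste r) :=
      ⟨r, 𝟙 _, 𝟙 _, inferInstance, by simp, by simp, by simp⟩
    have := hG ((s a).paste r) k x a P
    have e1 : P.res hY k x = x := resCH_id (setup_Y' r (setup_Y' (s a) hY)) P.dc x
    have e2 : P.res' hX (k - p) (G ((s a).paste r) k x) = G ((s a).paste r) k x :=
      resCH_id (setup_X' r (setup_X' (s a) hX)) P.dc' _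
    rw [e1, e2] at this
    exact this

include hX hY hopen hdisj hcov in
/-- A bivariant class is determined by its restrictions to the members of a disjoint union. -/
theorem cl_ext {c d : Bivar.Cl p f δX δY} (h : ∀ a, c.res (s a) = d.res (s a)) : c = d := by
  apply Bivar.Cl.ext
  funext u k
  refine AddMonoidHom.ext fun x => ?_
  have key : ∀ e : Bivar.Cl p f δX δY, Glued hX hY s (fun a => e.res (s a)) x (e.op u k x) := by
    intro e a P
    have := P.open_i
    have := P.open_i'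
    exact (cl_res e hX hY (s := u) (t := P.sq) (h := P.i) (h' := P.i') P.w₁ P.w₂ P.w₃ x).symm
  refine glued_unique hX hY s hopen hdisj hcov (key c) ?_
  have := key d
  rwa [show (fun a => d.res (s a)) = fun a => c.res (s a) from funext fun a => (h a).symm] at this

end Main

end K930.ClopenCl
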