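import Mathlib.AlgebraicGeometry.Morphisms.Finite
import Mathlib.AlgebraicGeometry.Morphisms.Proper
import Mathlib.AlgebraicGeometry.Limits
import Mathlib.AlgebraicGeometry.PullbackCarrier

/-!
# Locally finite coproducts of finite morphisms are finite
-/

set_option autoImplicit false
set_option backward.isDefEq.respectTransparency false
open CategoryTheory CategoryTheory.Limits AlgebraicGeometry Opposite TopologicalSpace
universe u

namespace K930.SigmaLF

variable {ι : Type u} {X : ι → Scheme.{u}} {Y : Scheme.{u}} (f : ∀ i, X i ⟶ Y)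
  (hf : LocallyFinite fun i => Set.range ⇑(f i))

theorem preimage_eq (U : Y.Opens) :
    (Sigma.desc f) ⁻¹ᵁ U = ⨆ i : {i // (Set.range ⇑(f i) ∩ U).Nonempty},
      (Sigma.ι X i.1) ''ᵁ ((f i.1) ⁻¹ᵁ U) := by
  ext z
  simp only [TopologicalSpace.Opens.coe_iSup, Set.mem_iUnion]
  constructor
  · intro hz
    obtain ⟨i, x, rfl⟩ := (sigmaOpenCover X).exists_eq z
    have : (f i) x ∈ U := by
      have h1 : (Sigma.ι X i ≫ Sigma.desc f) x ∈ U := by
        rw [Scheme.Hom.comp_apply]; exact hz
      rwa [Sigma.ι_desc] at h1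
    exact ⟨⟨i, _, ⟨x, rfl⟩, this⟩, x, this, rfl⟩
  · rintro ⟨i, x, hx, rfl⟩
    change (Sigma.desc f) ((Sigma.ι X i) x) ∈ U
    rw [← Scheme.Hom.comp_apply, Sigma.ι_desc]
    exact hx

include hf in
theorem isAffineHom_sigmaDesc [∀ i, IsAffineHom (f i)] : IsAffineHom (Sigma.desc f) := by
  refine ⟨fun U hU => ?_⟩
  rw [preimage_eq]
  have hfin : {i | (Set.range ⇑(f i) ∩ U).Nonempty}.Finite :=
    hf.finite_nonempty_inter_compact hU.isCompact
  have : Finite {i // (Set.range ⇑(f i) ∩ U).Nonempty} := hfin.to_subtype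
  refine IsAffineOpen.iSup_of_disjoint
    (fun i => (hU.preimage (f i)).image_of_isOpenImmersion _) ?_
  intro i j hij
  have hd := (TopologicalSpace.Opens.coe_disjoint).2
    (disjoint_opensRange_sigmaι X i j (fun e => hij (Subtype.ext e)))
  rw [Function.onFun, ← TopologicalSpace.Opens.coe_disjoint]
  refine Set.disjoint_left.2 ?_
  rintro _ ⟨x, -, rfl⟩ ⟨y, -, hy⟩
  exact Set.disjoint_left.1 hd ⟨x, rfl⟩ ⟨y, hy⟩

include hf in
theorem universallyClosed_sigmaDesc [∀ i, UniversallyClosed (f i)] :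
    UniversallyClosed (Sigma.desc f) := by
  refine ⟨MorphismProperty.universally_mk' _ _ fun {T} t _ Z hZ => ?_⟩
  have h1 : (pullback.fst t (Sigma.desc f)) '' Z =
      ⋃ i, (pullback.fst t (f i)) '' ((pullback.map t (f i) t (Sigma.desc f) (𝟙 _)
        (Sigma.ι X i) (𝟙 _) (by simp) (by simp)) ⁻¹' Z) := by
    ext y
    simp only [Set.mem_iUnion]
    constructor
    · rintro ⟨z, hz, rfl⟩
      obtain ⟨i, x, hx⟩ : ∃ (i : ι) (x : X i), (Sigma.ι X i) x =
          (pullback.snd t (Sigma.desc f)) z :=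
        (sigmaOpenCover X).exists_eq ((pullback.snd t (Sigma.desc f)) z)
      have sq : IsPullback (pullback.map t (f i) t (Sigma.desc f) (𝟙 _)
        (Sigma.ι X i) (𝟙 _) (by simp) (by simp)) (pullback.snd t (f i))
        (pullback.snd t (Sigma.desc f)) (Sigma.ι X i) := by
        refine (IsPullback.of_right (h₁₂ := pullback.fst t (Sigma.desc f)) (v₁₃ := t)
          (h₂₂ := Sigma.desc f) ?_ (by simp) (IsPullback.of_hasPullback _ _))
        have e1 : pullback.map t (f i) t (Sigma.desc f) (𝟙 _) (Sigma.ι X i) (𝟙 _) (by simp)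
          (by simp) ≫ pullback.fst t (Sigma.desc f) = pullback.fst t (f i) := by simp
        rw [e1, Sigma.ι_desc]
        exact IsPullback.of_hasPullback _ _
      obtain ⟨w, hw1, hw2⟩ := Scheme.exists_preimage_of_isPullback sq z x hx.symm
      refine ⟨i, w, ?_, ?_⟩
      · rw [Set.mem_preimage, hw1]; exact hz
      · rw [← hw1]
        change (pullback.fst t (f i)) w = (pullback.fst t (Sigma.desc f))
          ((pullback.map t (f i) t (Sigma.desc f) (𝟙 _) (Sigma.ι X i) (𝟙 _) _ _) w)
        rw [← Scheme.Hom.comp_apply]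
        simp
    · rintro ⟨i, w, hw, rfl⟩
      refine ⟨_, hw, ?_⟩
      change (pullback.fst t (Sigma.desc f))
          ((pullback.map t (f i) t (Sigma.desc f) (𝟙 _) (Sigma.ι X i) (𝟙 _) _ _) w) =
          (pullback.fst t (f i)) w
      rw [← Scheme.Hom.comp_apply]
      simp
  change IsClosed ((pullback.fst t (Sigma.desc f)) '' Z)
  rw [h1]
  refine LocallyFinite.isClosed_iUnion ?_ fun i => ?_
  · refine (hf.preimage_continuous t.continuous).subset fun i => ?_
    rintro _ ⟨w, -, rfl⟩
    refine ⟨(pullback.snd t (f i)) w, ?_⟩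
    rw [← Scheme.Hom.comp_apply, ← Scheme.Hom.comp_apply, pullback.condition]
  · exact (pullback.fst t (f i)).isClosedMap _ (hZ.preimage (Scheme.Hom.continuous _))

include hf in
theorem isFinite_sigmaDesc [∀ i, IsFinite (f i)] : IsFinite (Sigma.desc f) := by
  have h1 : IsAffineHom (Sigma.desc f) := isAffineHom_sigmaDesc f hf
  have h2 : UniversallyClosed (Sigma.desc f) := universallyClosed_sigmaDesc f hf
  have h3 : LocallyOfFiniteType (Sigma.desc f) :=
    IsZariskiLocalAtSource.sigmaDesc (P := @LocallyOfFiniteType) (fun i => inferInstance)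
  exact IsFinite.iff_isProper_and_isAffineHom.2 ⟨⟨⟩, h1⟩

end K930.SigmaLF
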