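import Groth.Agent.Bivar.K930.Clopen
import Groth.Agent.Bivar.K930.Squares
import Groth.Agent.Bivar.K930.SigmaLF
import Groth.Agent.CycB.PtClosure

/-!
# Decomposing a cycle into the classes of integral closed subschemes
-/

set_option autoImplicit false
universe u v
open CategoryTheory AlgebraicGeometry CategoryTheory.Limits Opposite

namespace K930.Decomp

open Groth.Agent Groth.Agent.CycB K930.Chow K930.ModIso K930.PushPull K930.Gysin K930.ZeroSch
open K930.OpenImm K930.GysinComm K930.OKs K930.TestSch K930.RelDimBC K930.ClOps Cyc K930.Clopen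
open K930.Squares PtClosure

section PtCyc

variable {X Y : Scheme.{u}} {δX : X → ℤ} {δY : Y → ℤ}

theorem finsum_mem_single {ι : Type*} {s : Set ι} {f : ι → ℤ} {i : ι} (hi : i ∈ s)
    (h : ∀ z ∈ s, z ≠ i → f z = 0) : ∑ᶠ x ∈ s, f x = f i := by
  classical
  rw [finsum_eq_single _ i, finsum_eq_if, if_pos hi]
  intro z hz
  rw [finsum_eq_if]
  split_ifs with hs
  · exact h z hs hz
  · rfl

open Classical in
/-- The cycle with coefficient `n` at a point. -/
noncomputable def ptCyc (y : Y) (n : ℤ) : AlgebraicCycle Y ℤ := Function.locallyFinsuppWithin.single y n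

open Classical in
theorem ptCyc_apply (y : Y) (n : ℤ) (z : Y) : ptCyc y n z = if z = y then n else 0 :=
  Function.locallyFinsuppWithin.single_apply

theorem ptCyc_self (y : Y) (n : ℤ) : ptCyc y n y = n := by rw [ptCyc_apply, if_pos rfl]

theorem ptCyc_ne {y z : Y} (n : ℤ) (h : z ≠ y) : ptCyc y n z = 0 := by rw [ptCyc_apply, if_neg h]

theorem ptCyc_mem {y : Y} {k : ℤ} (h : δY y = k) (n : ℤ) : ptCyc y n ∈ Zk Y δY k := by
  intro z hz
  exact ptCyc_ne n fun e => hz (e ▸ h)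

theorem eq_ptCyc {α : AlgebraicCycle Y ℤ} {y : Y} {n : ℤ} (h : α y = n)
    (h' : ∀ z, z ≠ y → α z = 0) : α = ptCyc y n := by
  apply DFunLike.coe_injective
  funext z
  by_cases hz : z = y
  · rw [hz, ptCyc_self, h]
  · rw [ptCyc_ne n hz, h' z hz]

theorem map_ptCyc (f : X ⟶ Y) [QuasiCompact f] (x : X) (n : ℤ) :
    AlgebraicCycle.map f δX δY (ptCyc x n) =
      ptCyc (f x) (n * (AlgebraicCycle.mapCoeff f δX δY x : ℤ)) := by
  refine eq_ptCyc ?_ fun z hz => ?_
  · rw [Push.map_apply, finsum_mem_single (i := x)]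
    · rw [ptCyc_self]
    · rfl
    · intro z _ hz
      rw [ptCyc_ne n hz, zero_mul]
  · rw [Push.map_apply]
    refine finsum_mem_eq_zero_of_forall_eq_zero fun w hw => ?_
    rw [ptCyc_ne n (fun e => hz ?_), zero_mul]
    rw [← show f w = z from hw, e]

theorem mapCoeff_eq_one {f : X ⟶ Y} {x : X} (h : δX x = δY (f x)) (h' : f.residueDegree x = 1) :
    AlgebraicCycle.mapCoeff f δX δY x = 1 := by
  unfold AlgebraicCycle.mapCoeff
  rw [if_pos (by exact h), h']

end PtCyc

section Decomp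

variable {Y : Scheme.{u}} {δ : Y → ℤ}

theorem locallyFinite_closure (α : AlgebraicCycle Y ℤ) :
    LocallyFinite fun a : {y : Y // α y ≠ 0} => closure {a.1} := by
  intro x
  obtain ⟨t, ht, hfin⟩ := α.supportLocallyFiniteWithinDomain' x (by trivial)
  obtain ⟨U, hU, hUo, hx⟩ := mem_nhds_iff.1 ht
  refine ⟨U, hUo.mem_nhds hx, ?_⟩
  refine (hfin.preimage (f := fun a : {y : Y // α y ≠ 0} => a.1)
    Subtype.val_injective.injOn).subset ?_
  rintro a ⟨z, hz, hzU⟩
  obtain ⟨w, hw, hw'⟩ := mem_closure_iff.1 hz U hUo hzU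
  rw [Set.mem_singleton_iff] at hw'
  subst hw'
  exact ⟨hU hw, a.2⟩

theorem sigma_disj {J : Type u} (W : J → Scheme.{u}) (a b : J) (x : W a) (y : W b)
    (h : (Sigma.ι W a) x = (Sigma.ι W b) y) : a = b := by
  by_contra hab
  have hd := (TopologicalSpace.Opens.coe_disjoint).2 (disjoint_opensRange_sigmaι W a b hab)
  exact Set.disjoint_left.1 hd ⟨x, rfl⟩ ⟨y, h.symm⟩

theorem sigma_cov {J : Type u} (W : J → Scheme.{u}) (x : (∐ W : Scheme.{u})) :
    ∃ (a : J) (y : W a), (Sigma.ι W a) y = x := (sigmaOpenCover W).exists_eq x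

/-- The disjoint union of the closures of the points of the support of a cycle. -/
noncomputable def dT (α : AlgebraicCycle Y ℤ) : Scheme.{u} :=
  ∐ (fun a : {y : Y // α y ≠ 0} => ptCl a.1)

/-- The inclusion of a member. -/
noncomputable def dJ (α : AlgebraicCycle Y ℤ) (a : {y : Y // α y ≠ 0}) : ptCl a.1 ⟶ dT α :=
  Sigma.ι (fun a : {y : Y // α y ≠ 0} => ptCl a.1) a

/-- The map to `Y`. -/
noncomputable def dH (α : AlgebraicCycle Y ℤ) : dT α ⟶ Y :=
  Sigma.desc fun a : {y : Y // α y ≠ 0} => ptClι a.1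

variable (α : AlgebraicCycle Y ℤ)

theorem dJ_dH (a : {y : Y // α y ≠ 0}) : dJ α a ≫ dH α = ptClι a.1 := Sigma.ι_desc _ _

theorem dJ_disj (a b : {y : Y // α y ≠ 0}) (x : ptCl a.1) (y : ptCl b.1)
    (h : dJ α a x = dJ α b y) : a = b :=
  sigma_disj (fun a : {y : Y // α y ≠ 0} => ptCl a.1) a b x y h

theorem dJ_cov (x : dT α) : ∃ a y, dJ α a y = x :=
  sigma_cov (fun a : {y : Y // α y ≠ 0} => ptCl a.1) x

instance (a : {y : Y // α y ≠ 0}) : IsOpenImmersion (dJ α a) :=
  inferInstanceAs (IsOpenImmersion (Sigma.ι (fun a : {y : Y // α y ≠ 0} => ptCl a.1) a))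

instance isProper_dH : IsProper (dH α) := by
  have : IsFinite (dH α) := by
    refine SigmaLF.isFinite_sigmaDesc _ ?_
    simp only [range_ptClι]
    exact locallyFinite_closure α
  infer_instance

theorem dJ_dH_apply (a : {y : Y // α y ≠ 0}) (x : ptCl a.1) : dH α (dJ α a x) = ptClι a.1 x := by
  rw [← Scheme.Hom.comp_apply, dJ_dH]

/-- The lift of the cycle. -/
theorem exists_lift {k : ℤ} (hα : α ∈ Zk Y δ k) {δT : dT α → ℤ} (hδ : DeltaCompat (dH α) δT δ) :
    ∃ β : AlgebraicCycle (dT α) ℤ, β ∈ Zk (dT α) δT k ∧ AlgebraicCycle.map (dH α) δT δ β = α ∧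
      ∀ (a : {y : Y // α y ≠ 0}) x, β (dJ α a x) = ptCyc (genericPoint (ptCl a.1)) (α a.1) x := by
  obtain ⟨β, hβ⟩ := exists_glue (dJ α) (dJ_disj α) (dJ_cov α)
    (fun a => ptCyc (genericPoint (ptCl a.1)) (α a.1))
  have hδT : ∀ (a : {y : Y // α y ≠ 0}) x, δT (dJ α a x) = δ (dH α (dJ α a x)) := by
    intro a x
    have h1 : DeltaCompat (dJ α a) (fun x => δT (dJ α a x)) δT := deltaCompat_stalk _
    have h2 : DeltaCompat (ptClι a.1) (fun x => δT (dJ α a x)) δ :=
      deltaCompat_congr (dJ_dH α a) (Bivar.deltaCompat_comp _ _ _ _ _ h1 hδ)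
    have := congrFun (deltaCompat_eq_comp _ h2) x
    rw [dJ_dH_apply]
    exact this
  have hgen : ∀ a : {y : Y // α y ≠ 0}, dH α (dJ α a (genericPoint (ptCl a.1))) = a.1 := by
    intro a
    rw [dJ_dH_apply, ptClι_genericPoint]
  refine ⟨β, ?_, ?_, hβ⟩
  · intro x hx
    obtain ⟨a, y, rfl⟩ := dJ_cov α x
    rw [hβ]
    refine ptCyc_ne _ fun e => hx ?_
    rw [e, hδT, hgen]
    by_contra h
    exact a.2 (hα _ h)
  · apply DFunLike.coe_injective
    funext y
    rw [Push.map_apply]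
    by_cases hy : α y = 0
    · rw [hy]
      refine finsum_mem_eq_zero_of_forall_eq_zero fun w hw => ?_
      obtain ⟨a, z, rfl⟩ := dJ_cov α w
      rw [hβ, ptCyc_ne, zero_mul]
      rintro rfl
      have := hgen a
      rw [show dH α (dJ α a (genericPoint (ptCl a.1))) = y from hw] at this
      exact a.2 (this ▸ hy)
    · rw [finsum_mem_single (i := dJ α ⟨y, hy⟩ (genericPoint (ptCl y)))]
      · rw [hβ, ptCyc_self, mapCoeff_eq_one (hδT _ _)]
        · simp
        · have h1 := Push.residueDegree_comp (dJ α ⟨y, hy⟩) (dH α) (genericPoint (ptCl y))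
          rw [DivNat.residueDegree_eq_one (dJ α ⟨y, hy⟩), mul_one] at h1
          rw [← h1, dJ_dH]
          exact DivNat.residueDegree_eq_one _ _
      · exact hgen ⟨y, hy⟩
      · intro w hw hne
        obtain ⟨a, z, rfl⟩ := dJ_cov α w
        rw [hβ, ptCyc_ne, zero_mul]
        rintro rfl
        have h1 := hgen a
        rw [show dH α (dJ α a (genericPoint (ptCl a.1))) = y from hw] at h1
        subst h1
        exact hne rfl

end Decomp

section Cl

variable {X Y : Scheme.{u}} {δX : X → ℤ} {δY : Y → ℤ} {f : X ⟶ Y} {p : ℤ}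
  (hX : IsSetup X δX) (hY : IsSetup Y δY) (c : Bivar.Cl p f δX δY)

include hX in
/-- Vanishing can be checked on the pieces of a disjoint union. -/
theorem op_eq_zero_of_clopen {J : Type u} {t : Bivar.Sq f δX δY} (r : J → Bivar.Sq f δX δY)
    (i : ∀ a, (r a).Y' ⟶ t.Y') (ho : ∀ a, IsOpenImmersion (i a)) (w : ∀ a, i a ≫ t.g = (r a).g)
    (hd : ∀ a b (x : (r a).Y') (y : (r b).Y'), i a x = i b y → a = b)
    (hc : ∀ x : t.Y', ∃ (a : J) (y : (r a).Y'), i a y = x) {k : ℤ} (x : ChowOps.CH t.Y' t.δY' k)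
    (H : ∀ a, c.op (r a) k (resCH (i a) (setup_Y' t hY) (deltaCompat_h (w a)) k x) = 0) :
    c.op t k x = 0 := by
  choose i' w₂ w₃ using fun a => exists_map t (r a) (i a) (w a)
  have hp : ∀ a, IsPullback (r a).f' (i' a) (i a) t.f' := fun a => isPullback_h (w a) (w₂ a) (w₃ a)
  have ho' : ∀ a, IsOpenImmersion (i' a) := fun a => MorphismProperty.of_isPullback (hp a) (ho a)
  refine resCH_injective i' ?_ ?_ (setup_X' t hX) (fun a => deltaCompat_h' (w₃ a)) fun a => ?_
  · intro a b x y h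
    refine hd a b ((r a).f' x) ((r b).f' y) ?_
    rw [← Scheme.Hom.comp_apply, ← Scheme.Hom.comp_apply, ← w₂, ← w₂, Scheme.Hom.comp_apply,
      Scheme.Hom.comp_apply, h]
  · intro x
    obtain ⟨a, y, hy⟩ := hc (t.f' x)
    obtain ⟨z, -, hz⟩ := Scheme.exists_preimage_of_isPullback (hp a) y x hy
    exact ⟨a, z, hz⟩
  · rw [← cl_res c hX hY (w a) (w₂ a) (w₃ a), H a]

theorem op_ptCyc (H : ∀ (s : Bivar.Sq f δX δY) [IsIntegral s.Y'],
    ∃ (α : AlgebraicCycle s.Y' ℤ) (hα : α ∈ Zk s.Y' s.δY' (s.δY' (genericPoint s.Y'))),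
      α (genericPoint s.Y') = 1 ∧ (∀ y : s.Y', y ≠ genericPoint s.Y' → α y = 0) ∧
      c.op s _ (ChowOps.cl α hα) = 0) (s : Bivar.Sq f δX δY) [IsIntegral s.Y'] {k : ℤ}
    (hk : s.δY' (genericPoint s.Y') = k) (n : ℤ) :
    c.op s k (ChowOps.cl (ptCyc (genericPoint s.Y') n) (ptCyc_mem hk n)) = 0 := by
  subst hk
  obtain ⟨α, hα, h1, h2, h3⟩ := H s
  have e : ptCyc (genericPoint s.Y') n = n • α := by
    apply DFunLike.coe_injective
    funext z
    rw [Function.locallyFinsuppWithin.coe_zsmul, Pi.smul_apply]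
    by_cases hz : z = genericPoint s.Y'
    · rw [hz, ptCyc_self, h1]; simp
    · rw [ptCyc_ne n hz, h2 z hz]; simp
  rw [Bivar.cl_congr e _ (zsmul_mem hα n), cl_zsmul _ _ hα, map_zsmul, h3, smul_zero]

include hX hY in
/-- A bivariant class vanishes when it kills the classes of all integral test schemes. -/
theorem cl_eq_zero_of_integral (H : ∀ (s : Bivar.Sq f δX δY) [IsIntegral s.Y'],
    ∃ (α : AlgebraicCycle s.Y' ℤ) (hα : α ∈ Zk s.Y' s.δY' (s.δY' (genericPoint s.Y'))),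
      α (genericPoint s.Y') = 1 ∧ (∀ y : s.Y', y ≠ genericPoint s.Y' → α y = 0) ∧
      c.op s _ (ChowOps.cl α hα) = 0) : c = 0 := by
  apply Bivar.Cl.ext
  funext s k
  refine AddMonoidHom.ext fun x => ?_
  change c.op s k x = 0
  obtain ⟨α, hα, rfl⟩ := Bivar.exists_rep x
  have := s.lft
  obtain ⟨δT, hδT⟩ := SetupLft.exists_deltaCompat (dH α) s.δY'
  obtain ⟨β, hβ, hαβ, hgen⟩ := exists_lift α hα hδT
  let t : Bivar.Sq f δX δY := ofHom δX (dH α ≫ s.g)
    (Bivar.deltaCompat_comp _ _ _ _ _ hδT s.compatY)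
  have hda : ∀ a, DeltaCompat (ptClι a.1 ≫ s.g) (fun x => δT (dJ α a x)) δY := fun a =>
    deltaCompat_congr (by rw [← Category.assoc, dJ_dH])
      (Bivar.deltaCompat_comp _ _ _ _ _ (deltaCompat_stalk (dJ α a)) t.compatY)
  let r : {y : s.Y' // α y ≠ 0} → Bivar.Sq f δX δY := fun a => ofHom δX (ptClι a.1 ≫ s.g) (hda a)
  have key : c.op t k (ChowOps.cl β hβ) = 0 := by
    refine op_eq_zero_of_clopen hX hY c (t := t) r (fun a => dJ α a) (fun a => inferInstance)
      (fun a => ?_) (dJ_disj α) (dJ_cov α) _ fun a => ?_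
    · change dJ α a ≫ dH α ≫ s.g = ptClι a.1 ≫ s.g
      rw [← Category.assoc, dJ_dH]
    · have hint : IsIntegral (r a).Y' := isIntegral_ptCl a.1
      have hk : (r a).δY' (genericPoint (r a).Y') = k := by
        by_contra hne
        have h1 := hβ _ hne
        have h2 := (hgen a (genericPoint (ptCl a.1))).symm.trans h1
        rw [ptCyc_self] at h2
        exact a.2 h2
      refine (congrArg _ (resCH_cl (dJ α a) _ _ k β hβ _ (ptCyc_mem hk (α a.1)) ?_)).trans
        (op_ptCyc c H (r a) hk (α a.1))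
      exact fun x => (hgen a x).symm
  have := @op_eq_zero_of_push _ _ _ _ _ hX hY _ c s t (dH α) (isProper_dH α) rfl _
    (ChowOps.cl β hβ) key
  rw [← this]
  congr 1
  exact (pushCH_cl' (dH α) _ _ _ _ _ _ _ hαβ).symm

end Cl

end K930.Decomp
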