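import Groth.Agent.Bivar.K930.DefoBase
import Groth.Agent.Cyc.K305.StructCap

/-!
# The deformation to a principal Gysin map
-/

set_option autoImplicit false
universe u v
open CategoryTheory AlgebraicGeometry CategoryTheory.Limits Opposite

namespace K930

open Groth.Agent Groth.Agent.CycB K930.Chow K930.ModIso K930.PushPull K930.Gysin K930.ZeroSch
open K930.OpenImm K930.GysinComm K930.OKs K930.TestSch K930.RelDimBC K930.RelCart Cyc
open Groth.Agent.CycB.GysinCl Groth.Agent.CycB.C1Pull CycB.RelDim K930.Defo K930.ZeroUniv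

/-- The deformation data: `V` the line bundle, `A = V × 𝔸¹`, `W = {t τ = σ} ⊂ A`, `D' = V_D`. -/
structure DefoS {X D : Scheme.{u}} (i : D ⟶ X) (L : X.Modules) where
  /-- the line bundle -/
  V : Scheme.{u}
  /-- the product with the affine line -/
  A : Scheme.{u}
  /-- the deformation -/
  W : Scheme.{u}
  /-- its special fibre -/
  D' : Scheme.{u}
  /-- structure map -/
  π : V ⟶ X
  /-- structure map -/
  q : A ⟶ X
  /-- zero section -/
  e : V ⟶ A
  /-- inclusion -/
  w : W ⟶ A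
  /-- inclusion -/
  v : D' ⟶ V
  /-- inclusion -/
  i' : D' ⟶ W
  /-- projection -/
  p : D' ⟶ D
  /-- the module of `u` -/
  N : A.Modules
  /-- `t τ - σ` -/
  u : N.presheaf.obj (op ⊤)
  /-- the module of `t` -/
  M : A.Modules
  /-- the coordinate of the affine line -/
  t : M.presheaf.obj (op ⊤)
  /-- the module of `τ` -/
  K : V.Modules
  /-- the tautological section -/
  τ : K.presheaf.obj (op ⊤)
  /-- the zero section -/
  s₀ : X ⟶ V
  smπ : SmoothOfRelativeDimension 1 π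
  smq : SmoothOfRelativeDimension 2 q
  qcπ : QuasiCompact π
  qcq : QuasiCompact q
  e_q : e ≫ q = π
  s₀π : s₀ ≫ π = 𝟙 X
  ce : IsClosedImmersion e
  cw : IsClosedImmersion w
  cs₀ : IsClosedImmersion s₀
  ze : IsZeroSchemeOf e M t
  zw : IsZeroSchemeOf w N u
  zs₀ : IsZeroSchemeOf s₀ K τ
  isoN : Nonempty ((Scheme.Modules.pullback q).obj L ≅ N)
  isoM : Nonempty ((Scheme.Modules.pullback q).obj (Coh.structureModule X) ≅ M)
  invK : PicF.IsInvertible K
  nzu : FibNZ q N u
  sq1 : IsPullback v i' e w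
  sq2 : IsPullback v p π i

namespace DefoS

variable {X D : Scheme.{u}} {i : D ⟶ X} {L : X.Modules} (d : DefoS i L)

attribute [instance] smπ smq qcπ qcq ce cw cs₀

instance : Smooth d.π := SmoothOfRelativeDimension.smooth 1 d.π
instance : Smooth d.q := SmoothOfRelativeDimension.smooth 2 d.q

/-- The map from the deformation to the base. -/
abbrev g : d.W ⟶ X := d.w ≫ d.q

instance : IsClosedImmersion d.i' :=
  MorphismProperty.of_isPullback d.sq1 d.ce

instance [IsClosedImmersion i] : IsClosedImmersion d.v :=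
  MorphismProperty.of_isPullback d.sq2.flip ‹_›

instance : Smooth d.p := MorphismProperty.of_isPullback d.sq2 inferInstance

instance : QuasiCompact d.p := MorphismProperty.of_isPullback d.sq2 inferInstance

theorem comm : d.i' ≫ d.g = d.p ≫ i := by
  rw [g, ← d.sq2.w, ← d.sq1.w_assoc, d.e_q]

theorem hrπ : HasRelDim d.π 1 := K308.PB.hasRelDim_of_smooth d.π

theorem hrq : HasRelDim d.q 2 := K308.PB.hasRelDim_of_smooth d.q

theorem hrp : HasRelDim d.p 1 := hasRelDim_of_isPullback d.sq2.flip d.hrπ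

variable {δ : X → ℤ}

theorem invN (hL : PicF.IsInvertible L) : PicF.IsInvertible d.N :=
  ModIso.isInvertible_of_iso d.isoN.some (isInvertible_pullback d.q hL)

theorem invM : PicF.IsInvertible d.M :=
  ModIso.isInvertible_of_iso d.isoM.some (isInvertible_pullback d.q
    (K305.StructCap.isInvertible_structureModule X))

theorem flat_g (hX : IsSetup X δ) (hL : PicF.IsInvertible L) : Flat d.g := by
  have := hX.1
  exact RelCart.flat d.q (d.invN hL) d.nzu d.zw

theorem hrg (hX : IsSetup X δ) (hL : PicF.IsInvertible L) : HasRelDim d.g 1 :=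
  RelCart.hasRelDim d.q hX (d.invN hL) d.nzu d.zw d.hrq

theorem flat_p : Flat d.p := inferInstance

/-- The zero section of `p`. -/
theorem exists_z [IsClosedImmersion i] : ∃ (z : D ⟶ d.D') (_ : IsClosedImmersion z),
    z ≫ d.p = 𝟙 D ∧ IsZeroSchemeOf z ((Scheme.Modules.pullback d.v).obj d.K) (pullSec d.v d.K d.τ) := by
  let z : D ⟶ d.D' := d.sq2.lift (i ≫ d.s₀) (𝟙 D) (by simp [d.s₀π])
  have hz1 : z ≫ d.v = i ≫ d.s₀ := d.sq2.lift_fst _ _ _
  have hz2 : z ≫ d.p = 𝟙 D := d.sq2.lift_snd _ _ _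
  have sq : IsPullback z i d.v d.s₀ := by
    have h1 : IsPullback (z ≫ d.p) i i (d.s₀ ≫ d.π) := by
      rw [hz2, d.s₀π]
      exact IsPullback.of_id_fst
    exact IsPullback.of_right h1 hz1 d.sq2.flip
  exact ⟨z, MorphismProperty.of_isPullback sq.flip d.cs₀, hz2, isZeroSchemeOf_pullSec sq d.invK d.zs₀⟩

/-- Flat pullback along `p` is injective. -/
theorem pull_injective [IsClosedImmersion i] {δD : D → ℤ} {δD' : d.D' → ℤ} (hD : IsSetup D δD)
    (hp : DeltaCompat d.p δD' δD) (hD' : IsSetup d.D' δD') {k l : ℤ} (hl : l = k + 1) :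
    Function.Injective (pullCH d.p hD' hD (shift_of_hasRelDim d.hrp hp) hl) := by
  have := hD.1
  obtain ⟨z, hz, hzp, hzs⟩ := d.exists_z
  have hzδ : DeltaCompat z δD δD' :=
    deltaCompat_of_comp z d.p (deltaCompat_congr hzp.symm (Bivar.deltaCompat_id δD)) hp
  have hKv := isInvertible_pullback d.v d.invK
  have hr0 : HasRelDim (𝟙 D) 0 := hasRelDim_open (𝟙 D)
  have hr1 : HasRelDim d.p (0 + 1) := d.hrp
  have hNZ : FibNZ d.p ((Scheme.Modules.pullback d.v).obj d.K) (pullSec d.v d.K d.τ) :=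
    fibNZ_of_hasRelDim hr1 hzs hzp hr0
  have h0 : Shift (𝟙 D) δD δD 0 := shift_open _ (Bivar.deltaCompat_id δD)
  intro x y hxy
  have key : ∀ x : ChowOps.CH D δD k, gysCH z hD' hzδ hKv hzs (by omega : l = k + 1)
      (pullCH d.p hD' hD (shift_of_hasRelDim d.hrp hp) hl x) = x := by
    intro x
    have h2 := gysCH_pullCH_zero (c' := 0) (m := k) d.p hr1 hD' hD hD hp hzδ hKv
      (RelCart.regular d.p hKv hNZ) hzs hzp hr0 (shift_of_hasRelDim d.hrp hp) h0 (by norm_num)
      (by norm_num) hl (by omega) hl x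
    rw [h2, pullCH_id]
  rw [← key x, hxy, key]

/-- **Deformation to the principal Gysin map.** -/
theorem gys [IsClosedImmersion i] (hX : IsSetup X δ) {δD : D → ℤ} {δW : d.W → ℤ} {δD' : d.D' → ℤ}
    (hD : IsSetup D δD) (hW : IsSetup d.W δW) (hD' : IsSetup d.D' δD')
    (hi : DeltaCompat i δD δ) (hg : DeltaCompat d.g δW δ) (hp : DeltaCompat d.p δD' δD)
    (hi' : DeltaCompat d.i' δD' δW)
    (hL : PicF.IsInvertible L) {σ : L.presheaf.obj (op ⊤)} (hσ : IsZeroSchemeOf i L σ)
    [Flat d.g]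
    {M' : d.W.Modules} (hM' : PicF.IsInvertible M') {t' : M'.presheaf.obj (op ⊤)}
    (ht' : IsZeroSchemeOf d.i' M' t') (eM : (Scheme.Modules.pullback d.w).obj d.M ≅ M')
    {k l m n : ℤ} (hl : k = l + 1) (hm : m = k + 1) (hn : n = l + 1) (hmn : m = n + 1)
    (x : ChowOps.CH X δ k) :
    gysCH d.i' hW hi' hM' ht' hmn (pullCH d.g hW hX (shift_of_hasRelDim (d.hrg hX hL) hg) hm x) =
      pullCH d.p hD' hD (shift_of_hasRelDim d.hrp hp) hn (gysCH i hX hi hL hσ hl x) := by
  have := hX.1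
  have hN := d.invN hL
  have hM := d.invM
  obtain ⟨δA, hqδ⟩ := CycB.SetupLft.exists_deltaCompat d.q δ
  have hA : IsSetup d.A δA := setup_of d.q hX hqδ
  obtain ⟨δV, hπδ⟩ := CycB.SetupLft.exists_deltaCompat d.π δ
  have hV : IsSetup d.V δV := setup_of d.π hX hπδ
  have heδ : DeltaCompat d.e δV δA :=
    deltaCompat_of_comp d.e d.q (deltaCompat_congr d.e_q.symm hπδ) hqδ
  have hwδ : DeltaCompat d.w δW δA := deltaCompat_of_comp d.w d.q hg hqδ
  have hvδ : DeltaCompat d.v δD' δV :=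
    deltaCompat_of_comm (f := i) (g := d.π) d.sq2.w.symm hp hi hπδ
  have hW2 : HasRelDim d.q (1 + 1) := d.hrq
  have hV0 : HasRelDim d.π 1 := d.hrπ
  have hsq : Shift d.q δA δ (1 + 1) := by
    have h := shift_of_hasRelDim d.hrq hqδ
    exact_mod_cast h
  have hsg := shift_of_hasRelDim (d.hrg hX hL) hg
  have hsπ := shift_of_hasRelDim d.hrπ hπδ
  have hNZt : FibNZ d.q d.M d.t := fibNZ_of_hasRelDim (r := 1) hW2 d.ze d.e_q hV0
  have hq := d.q
  -- first
  have h1 : gysCH d.w hA hwδ hN d.zw (by omega : k + 2 = k + 1 + 1)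
      (pullCH d.q hA hX hsq (by omega : k + 2 = k + (1 + 1)) x) =
      pullCH d.g hW hX (shift_of_hasRelDim (d.hrg hX hL) hg) (by omega : k + 1 = k + 1) x :=
    gysCH_pullCH_zero (r := 1) d.q hW2 hA hX hW hqδ hwδ hN
      (RelCart.regular d.q hN d.nzu) d.zw rfl (d.hrg hX hL) hsq hsg (by norm_num) (by norm_num)
      _ _ _ x
  have h2 : gysCH d.e hA heδ hM d.ze (by omega : k + 2 = k + 1 + 1)
      (pullCH d.q hA hX hsq (by omega : k + 2 = k + (1 + 1)) x) =
      pullCH d.π hV hX hsπ (by omega : k + 1 = k + 1) x :=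
    gysCH_pullCH_zero (r := 1) d.q hW2 hA hX hV hqδ heδ hM
      (RelCart.regular d.q hM hNZt) d.ze d.e_q hV0 hsq hsπ (by norm_num) (by norm_num)
      _ _ _ x
  subst hl hn hm
  have hv1 := isZeroSchemeOf_pullSec d.sq1 hN d.zw
  have hv2 := isZeroSchemeOf_pullSec d.sq2 hL hσ
  have hNe := isInvertible_pullback d.e hN
  have hLπ := isInvertible_pullback d.π hL
  have h3 := gysCH_gysCH d.sq1 hA hV hW heδ hwδ hvδ hi' hM hN hNe hM' d.ze d.zw hv1 ht'
    (Iso.refl _) eM (k := l + 1 + 2) (l := l + 1 + 1) (l' := l + 1 + 1) (m := l + 1)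
    (by omega) (by omega) rfl hmn (pullCH d.q hA hX hsq (by omega : l + 1 + 2 = l + 1 + (1 + 1)) x)
  rw [h1, h2] at h3
  rw [← h3]
  let eI : (Scheme.Modules.pullback d.e).obj d.N ≅ (Scheme.Modules.pullback d.π).obj L :=
    (Scheme.Modules.pullback d.e).mapIso d.isoN.some.symm ≪≫ pbIso d.e_q L
  rw [gysCH_indep hV hvδ hNe hv1 hLπ hv2 ((Scheme.Modules.pullback d.v).mapIso eI)]
  exact gysCH_pullCH d.sq2 hX hV hD hD' hi hvδ hsπ (shift_of_hasRelDim d.hrp hp) hL hLπ hσ hv2
    (Iso.refl _) rfl rfl rfl rfl x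

end DefoS

end K930
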