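import Groth.Agent.Bivar.K930.Defo
import Groth.Agent.Fga.UnitRestrict

/-!
# Base change of the deformation to a principal Gysin map
-/

set_option autoImplicit false
universe u v
open CategoryTheory AlgebraicGeometry CategoryTheory.Limits Opposite

namespace K930

open Groth.Agent Groth.Agent.CycB K930.Chow K930.ModIso K930.PushPull K930.Gysin K930.ZeroSch
open K930.OpenImm K930.GysinComm K930.OKs K930.TestSch K930.RelDimBC K930.RelCart Cyc
open Groth.Agent.CycB.GysinCl Groth.Agent.CycB.C1Pull CycB.RelDim K930.Defo K930.ZeroUniv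

namespace DefoBC

variable {X X₁ P Q : Scheme.{u}}

/-- Base change of a morphism over `X`. -/
noncomputable def bcm (f : X₁ ⟶ X) {a : P ⟶ X} {b : Q ⟶ X} {m : P ⟶ Q} (h : m ≫ b = a) :
    pullback f a ⟶ pullback f b :=
  pullback.lift (pullback.fst f a) (pullback.snd f a ≫ m) (by
    rw [Category.assoc, h, pullback.condition])

@[reassoc (attr := simp)]
theorem bcm_fst (f : X₁ ⟶ X) {a : P ⟶ X} {b : Q ⟶ X} {m : P ⟶ Q} (h : m ≫ b = a) :
    bcm f h ≫ pullback.fst f b = pullback.fst f a := pullback.lift_fst _ _ _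

@[reassoc (attr := simp)]
theorem bcm_snd (f : X₁ ⟶ X) {a : P ⟶ X} {b : Q ⟶ X} {m : P ⟶ Q} (h : m ≫ b = a) :
    bcm f h ≫ pullback.snd f b = pullback.snd f a ≫ m := pullback.lift_snd _ _ _

theorem isPullback_bcm (f : X₁ ⟶ X) {a : P ⟶ X} {b : Q ⟶ X} {m : P ⟶ Q} (h : m ≫ b = a) :
    IsPullback (bcm f h) (pullback.snd f a) (pullback.snd f b) m := by
  refine IsPullback.of_right (h₁₂ := pullback.fst f b) (v₁₃ := f) (h₂₂ := b) ?_ (bcm_snd f h)
    (IsPullback.of_hasPullback f b)
  rw [bcm_fst, h]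
  exact IsPullback.of_hasPullback f a

end DefoBC

open DefoBC

namespace DefoS

variable {X D X₁ D₁ : Scheme.{u}} {i : D ⟶ X} {L : X.Modules}

section

variable (d : DefoS i L) (f : X₁ ⟶ X)

/-- The base change of the zero section. -/
noncomputable def bcs : X₁ ⟶ pullback f d.π :=
  pullback.lift (𝟙 X₁) (f ≫ d.s₀) (by
    rw [Category.id_comp, Category.assoc, d.s₀π, Category.comp_id])

theorem isPullback_bcs : IsPullback (d.bcs f) f (pullback.snd f d.π) d.s₀ := by
  refine IsPullback.of_right (h₁₂ := pullback.fst f d.π) (v₁₃ := f) (h₂₂ := d.π) ?_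
    (pullback.lift_snd _ _ _) (IsPullback.of_hasPullback f d.π)
  rw [bcs, pullback.lift_fst, d.s₀π]
  exact IsPullback.of_id_fst

theorem isPullback_bc1 : IsPullback (bcm f d.sq2.w) (bcm f d.comm) (bcm f d.e_q)
    (bcm f (rfl : d.w ≫ d.q = d.g)) := by
  refine IsPullback.of_right (h₁₂ := pullback.snd f d.π) (v₁₃ := d.e)
    (h₂₂ := pullback.snd f d.q) ?_ ?_ (isPullback_bcm f d.e_q).flip
  · rw [bcm_snd, bcm_snd]
    exact (isPullback_bcm f d.comm).flip.paste_horiz d.sq1
  · apply pullback.hom_ext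
    · simp
    · simp [d.sq1.w]

variable {i₁ : D₁ ⟶ X₁} {fD : D₁ ⟶ D} (h : IsPullback i₁ fD f i)

/-- The base change of the projection. -/
noncomputable def bcp : pullback f (d.p ≫ i) ⟶ D₁ :=
  h.lift (pullback.fst f (d.p ≫ i)) (pullback.snd f (d.p ≫ i) ≫ d.p) (by
    rw [pullback.condition, Category.assoc])

@[reassoc (attr := simp)]
theorem bcp_i : d.bcp f h ≫ i₁ = pullback.fst f (d.p ≫ i) := h.lift_fst _ _ _

@[reassoc (attr := simp)]
theorem bcp_f : d.bcp f h ≫ fD = pullback.snd f (d.p ≫ i) ≫ d.p := h.lift_snd _ _ _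

theorem isPullback_bcp : IsPullback (pullback.snd f (d.p ≫ i)) (d.bcp f h) d.p fD := by
  refine (IsPullback.of_right (h₁₂ := i₁) (v₁₃ := f) (h₂₂ := i) ?_ (d.bcp_f f h) h).flip
  rw [bcp_i]
  exact IsPullback.of_hasPullback f (d.p ≫ i)

theorem isPullback_bc2 : IsPullback (bcm f d.sq2.w) (d.bcp f h) (pullback.fst f d.π) i₁ := by
  refine IsPullback.of_right (h₁₂ := pullback.snd f d.π) (v₁₃ := d.π)
    (h₂₂ := f) ?_ ?_ (IsPullback.of_hasPullback f d.π).flip
  · rw [bcm_snd, h.w]
    exact (d.isPullback_bcp f h).paste_horiz d.sq2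
  · rw [bcm_fst, bcp_i]

/-- Base change of the deformation. -/
noncomputable def bc (hL : PicF.IsInvertible L) : DefoS i₁ ((Scheme.Modules.pullback f).obj L) where
  V := pullback f d.π
  A := pullback f d.q
  W := pullback f d.g
  D' := pullback f (d.p ≫ i)
  π := pullback.fst f d.π
  q := pullback.fst f d.q
  e := bcm f d.e_q
  w := bcm f rfl
  v := bcm f d.sq2.w
  i' := bcm f d.comm
  p := d.bcp f h
  N := (Scheme.Modules.pullback (pullback.snd f d.q)).obj d.N
  u := pullSec (pullback.snd f d.q) d.N d.u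
  M := (Scheme.Modules.pullback (pullback.snd f d.q)).obj d.M
  t := pullSec (pullback.snd f d.q) d.M d.t
  K := (Scheme.Modules.pullback (pullback.snd f d.π)).obj d.K
  τ := pullSec (pullback.snd f d.π) d.K d.τ
  s₀ := d.bcs f
  smπ := (smoothOfRelativeDimension_isStableUnderBaseChange 1).of_isPullback
    (IsPullback.of_hasPullback f d.π).flip d.smπ
  smq := (smoothOfRelativeDimension_isStableUnderBaseChange 2).of_isPullback
    (IsPullback.of_hasPullback f d.q).flip d.smq
  qcπ := inferInstance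
  qcq := inferInstance
  e_q := bcm_fst f _
  s₀π := pullback.lift_fst _ _ _
  ce := MorphismProperty.of_isPullback (isPullback_bcm f d.e_q).flip inferInstance
  cw := MorphismProperty.of_isPullback (isPullback_bcm f rfl).flip inferInstance
  cs₀ := MorphismProperty.of_isPullback (d.isPullback_bcs f).flip inferInstance
  ze := isZeroSchemeOf_pullSec (isPullback_bcm f d.e_q) d.invM d.ze
  zw := isZeroSchemeOf_pullSec (isPullback_bcm f rfl) (d.invN hL) d.zw
  zs₀ := isZeroSchemeOf_pullSec (d.isPullback_bcs f) d.invK d.zs₀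
  isoN := ⟨pbIso rfl L ≪≫ (pbIso pullback.condition.symm L).symm ≪≫
    (Scheme.Modules.pullback (pullback.snd f d.q)).mapIso d.isoN.some⟩
  isoM := ⟨(Scheme.Modules.pullback (pullback.fst f d.q)).mapIso (Fga.UnitRestrict.pullbackUnitIso f).symm ≪≫ pbIso rfl _ ≪≫ (pbIso pullback.condition.symm _).symm ≪≫
    (Scheme.Modules.pullback (pullback.snd f d.q)).mapIso d.isoM.some⟩
  invK := isInvertible_pullback _ d.invK
  nzu := fibNZ_bc (IsPullback.of_hasPullback f d.q) (d.invN hL) d.nzu
  sq1 := d.isPullback_bc1 f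
  sq2 := d.isPullback_bc2 f h

end

end DefoS

end K930
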