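import Groth.Agent.Bivar.K930.TotNZ
import Groth.Agent.S1945

/-!
# Gysin maps of relative effective Cartier divisors and flat pullback
-/

set_option autoImplicit false
universe u v
open CategoryTheory AlgebraicGeometry CategoryTheory.Limits Opposite

namespace K930.Defo

open Groth.Agent Groth.Agent.CycB K930.Chow K930.ModIso K930.PushPull K930.Gysin K930.ZeroSch
open K930.OpenImm K930.GysinComm K930.OKs K930.TestSch K930.RelDimBC K930.RelCart Cyc
open Groth.Agent.CycB.GysinCl Groth.Agent.CycB.C1Pull CycB.RelDim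

variable {X Y Z D : Scheme.{u}} {δX : X → ℤ} {δY : Y → ℤ} {δZ : Z → ℤ} {δD : D → ℤ}

/-- The Gysin map of a regular section composed with a flat pullback is the flat pullback. -/
theorem gysCH_pullCH_zero (p : X ⟶ Y) [Flat p] [LocallyOfFiniteType p] {r : ℕ}
    (hr : HasRelDim p (r + 1)) (hX : IsSetup X δX) (hY : IsSetup Y δY) (hD : IsSetup D δD)
    (hδ : DeltaCompat p δX δY) {i : D ⟶ X} [IsClosedImmersion i] (hi : DeltaCompat i δD δX)
    {L : X.Modules} (hL : PicF.IsInvertible L) {σ : L.presheaf.obj (op ⊤)}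
    (hreg : ∀ x : X, Function.Injective (fun a : X.presheaf.stalk x =>
      a • (L.presheaf.germ ⊤ x trivial) σ))
    (hσ : IsZeroSchemeOf i L σ) {g : D ⟶ Y} (hg : i ≫ p = g) [Flat g] (hrD : HasRelDim g r)
    {c c' : ℤ} (hc : Shift p δX δY c) (hc' : Shift g δD δY c') (hcr : c = (r : ℤ) + 1)
    (hcr' : c' = r) {k l m : ℤ} (hl : l = k + c) (hm : m = k + c') (hlm : l = m + 1)
    (x : ChowOps.CH Y δY k) :
    gysCH i hX hi hL hσ hlm (pullCH p hX hY hc hl x) = pullCH g hD hY hc' hm x := by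
  subst hg
  subst hcr hcr' hl hm
  obtain rfl := deltaCompat_eq_comp i hi
  obtain ⟨α, hα, rfl⟩ := Bivar.exists_rep x
  rw [pullCH_cl', gysCH_cl', pullCH_cl', cl_eq_cl]
  have hk : k - 1 + (r : ℤ) + 1 = k + r := by ring
  have h := S1945.result X Y D δX δY hX hY p r hr hδ L hL σ hreg i hσ hrD (k - 1) α
    (by rwa [sub_add_cancel]) (nz hL) (nz_ne_zero hL)
    (gysCyc i hX hL σ (pullCyc p hX hc α)) (pullCyc (i ≫ p) hD hc' α)
    (fun d => by rw [gysCyc_apply, pullCyc_coe]) (pullCyc_coe _ _ _ _)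
  rw [hk] at h
  exact h

/-- If the zero scheme has smaller relative dimension then the section does not vanish at the
generic points of the fibres. -/
theorem fibNZ_of_hasRelDim {p : X ⟶ Y} [LocallyOfFiniteType p] {r : ℕ} (hr : HasRelDim p (r + 1))
    {i : D ⟶ X} {L : X.Modules} {σ : L.presheaf.obj (op ⊤)}
    (hσ : IsZeroSchemeOf i L σ) {g : D ⟶ Y} (hg : i ≫ p = g) [LocallyOfFiniteType g]
    (hrD : HasRelDim g r) : FibNZ p L σ := by
  intro η hη hv
  obtain ⟨d, rfl⟩ := (mem_range_iff hσ η).2 hv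
  rw [fibGeneric_iff hr] at hη
  have h1 := rtd_le hrD d
  rw [← hg, rtd_comp, hη] at h1
  have h2 : ((r + 1 : ℕ) : Cardinal.{u}) ≤ r := le_trans (le_add_of_nonneg_right zero_le) h1
  norm_cast at h2
  omega

/-- Not vanishing at the generic points of the fibres is stable under base change. -/
theorem fibNZ_bc {X' Y' : Scheme.{u}} {p : X ⟶ Y} {p' : X' ⟶ Y'} {f' : X' ⟶ X} {f : Y' ⟶ Y}
    (h : IsPullback p' f' f p) {L : X.Modules} (hL : PicF.IsInvertible L)
    {σ : L.presheaf.obj (op ⊤)} (hσ : FibNZ p L σ) :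
    FibNZ p' ((Scheme.Modules.pullback f').obj L) (pullSec f' L σ) := by
  intro η hη
  rw [← fib_val]
  apply fib_ne_zero f' hL
  apply hσ
  let e := h.isoPullback
  have he1 : e.hom ≫ pullback.fst f p = p' := h.isoPullback_hom_fst
  have he2 : e.hom ≫ pullback.snd f p = f' := h.isoPullback_hom_snd
  have h1 : FibGeneric (pullback.fst f p) (e.hom η) := by
    intro y hy hs
    obtain ⟨y', rfl⟩ := e.hom.surjective y
    have h2 : y' = η := by
      refine hη y' ?_ ((e.hom.isOpenEmbedding.isInducing.specializes_iff).1 hs)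
      rw [← he1]; exact hy
    rw [h2]
  have h2 := h1.snd
  rw [← he2]
  exact h2

end K930.Defo
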