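import Groth.Agent.Bivar.K930.DefoBC

/-!
# Existence of the deformation to a principal Gysin map
-/

set_option autoImplicit false
set_option backward.isDefEq.respectTransparency false
universe u v
open CategoryTheory AlgebraicGeometry CategoryTheory.Limits Opposite

namespace K930

open Groth.Agent Groth.Agent.CycB K930.Chow K930.ModIso K930.PushPull K930.Gysin K930.ZeroSch
open K930.OpenImm K930.GysinComm K930.OKs K930.TestSch K930.RelDimBC K930.RelCart Cyc
open Groth.Agent.CycB.GysinCl Groth.Agent.CycB.C1Pull CycB.RelDim K930.Defo K930.ZeroUniv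
open K930.Tot K930.LineTot Groth.Agent.Krr.H490.NrmSub
open Groth.Agent.CycB.ModStalk Groth.Agent.CycB.C1Basic

namespace DefoExists

variable {X : Scheme.{u}} {L : X.Modules}

theorem isZeroSchemeOf_neg {D : Scheme.{u}} {i : D ⟶ X} {σ : L.presheaf.obj (op ⊤)}
    (h : IsZeroSchemeOf i L σ) : IsZeroSchemeOf i L (-σ) := by
  refine ⟨?_, fun d => ?_⟩
  · rw [h.1]
    ext x
    change val L σ x = 0 ↔ val L (-σ) x = 0
    rw [val_eq, val_eq, map_neg, map_neg, neg_eq_zero]
  · obtain ⟨t, f, ht, hf, hk⟩ := h.2 d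
    refine ⟨t, -f, ht, ?_, ?_⟩
    · rw [map_neg, hf, neg_smul]
    · rw [hk, Ideal.span_singleton_neg]

/-- The unit section of the structure module. -/
noncomputable abbrev one (X : Scheme.{u}) : Γ(Coh.structureModule X, ⊤) :=
  Fdesc.LocGen.one ⊤

theorem isGen_gs_one (T : Over X) : Fdesc.LocGen.IsGen (gs T (one X)) :=
  isGen_sec (L := Coh.structureModule X) (U := ⊤) (V := ⊤) T.hom (fun _ _ => trivial)
    (Fdesc.LocGen.isGen_one ⊤)

/-- The coordinate of the affine line. -/
theorem exists_coord {H₁ : Over X} (τ₁ : Γ(ET (Coh.structureModule X) H₁, ⊤)) :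
    ∃ t : Γ(H₁.left, ⊤), t • gs H₁ (one X) = τ₁ := by
  obtain ⟨t, ht⟩ := (isGen_gs_one H₁).exists_eq τ₁
  exact ⟨t, ht.symm⟩

theorem mem_basicOpen {Y : Scheme.{u}} {M : Y.Modules} (t : Γ(Y, ⊤)) (s : Γ(M, ⊤)) {z : Y}
    (h : val M (t • s : Γ(M, ⊤)) z ≠ 0) : z ∈ Y.basicOpen t := by
  by_contra hz
  apply h
  rw [Scheme.mem_basicOpen_top] at hz
  have h1 : Y.presheaf.germ ⊤ z trivial t ∈ IsLocalRing.maximalIdeal (Y.presheaf.stalk z) :=
    (IsLocalRing.mem_maximalIdeal _).2 hz
  rw [val_eq, ModStalk.germ_smul, cl, Submodule.mkQ_apply, Submodule.Quotient.mk_eq_zero]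
  exact Submodule.smul_mem_smul h1 trivial

theorem appTop_zero {H₁ : Over X} {τ₁ : Γ(ET (Coh.structureModule X) H₁, ⊤)} {t : Γ(H₁.left, ⊤)}
    (ht : t • gs H₁ (one X) = τ₁) {T : Over X} (g : T ⟶ H₁) (h : trT _ g τ₁ = 0) :
    g.left.appTop t = 0 := by
  rw [← ht, trT_smul, trT_gs] at h
  exact (isGen_gs_one T).ext (by rw [h, zero_smul])

theorem exists_defo {D : Scheme.{u}} {i : D ⟶ X} [IsClosedImmersion i] (hL : PicF.IsInvertible L)
    {σ : L.presheaf.obj (op ⊤)} (hσ : IsZeroSchemeOf i L σ) : Nonempty (DefoS i L) := by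
  have hO : PicF.IsInvertible (Coh.structureModule X) := K305.StructCap.isInvertible_structureModule X
  obtain ⟨H, τ, huniv, hsm, haff⟩ := exists_tot hL
  obtain ⟨H₁, τ₁, huniv₁, hsm₁, haff₁⟩ := exists_tot hO
  obtain ⟨s₀, hs₀, hs₀π, zs₀⟩ := exists_zero hL huniv
  obtain ⟨s₁, hs₁, hs₁π, zs₁⟩ := exists_zero hO huniv₁
  obtain ⟨t, ht⟩ := exists_coord τ₁
  have hsm' : Smooth H.hom := SmoothOfRelativeDimension.smooth 1 H.hom
  have hNZ := fibNZ hL huniv hs₁π t (fun z hz => mem_basicOpen t (gs H₁ (one X)) (by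
    rw [ht]
    exact fun h0 => hz ((mem_range_iff zs₁ z).2 h0))) σ
  -- the zero section of the affine line over `V`
  let eM : H.left ⟶ pullback H.hom H₁.hom := pullback.lift (𝟙 _) (H.hom ≫ s₁) (by
    rw [Category.assoc, hs₁π, Category.id_comp, Category.comp_id])
  have he1 : eM ≫ pullback.fst H.hom H₁.hom = 𝟙 _ := pullback.lift_fst _ _ _
  have he2 : eM ≫ pullback.snd H.hom H₁.hom = H.hom ≫ s₁ := pullback.lift_snd _ _ _
  have sqe : IsPullback eM H.hom (pullback.snd H.hom H₁.hom) s₁ := by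
    refine IsPullback.of_right (h₁₂ := pullback.fst H.hom H₁.hom) (v₁₃ := H.hom)
      (h₂₂ := H₁.hom) ?_ he2 (IsPullback.of_hasPullback H.hom H₁.hom)
    rw [he1, hs₁π]
    exact IsPullback.of_id_fst
  let eO : H ⟶ AO H H₁ := Over.homMk eM (by
    change eM ≫ pullback.fst H.hom H₁.hom ≫ H.hom = H.hom
    rw [← Category.assoc, he1, Category.id_comp])
  have heP : eO ≫ P₁ H H₁ = 𝟙 H := by
    ext
    exact he1
  have hce : IsClosedImmersion eM := MorphismProperty.of_isPullback sqe.flip hs₁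
  let N : (AO H H₁).left.Modules := ET L (AO H H₁)
  have hN : PicF.IsInvertible N := isInvertible_pullback _ hL
  obtain ⟨W, w, hw, zw⟩ := ZeroExists.exists_zeroScheme hN (uu τ t σ)
  -- restriction of `u`
  have ht0 : s₁.appTop t = 0 := by
    let s₁O : Over.mk (𝟙 X) ⟶ H₁ := Over.homMk s₁ hs₁π
    exact appTop_zero ht s₁O ((trT_eq_zero_iff s₁O τ₁).2 (pullSec_eq_zero zs₁))
  have ht1 : eO.left.appTop ((P₂ H H₁).left.appTop t) = 0 := by
    have h1 : eO.left.appTop ((P₂ H H₁).left.appTop t) =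
        (eM ≫ pullback.snd H.hom H₁.hom).appTop t := by
      rw [Scheme.Hom.comp_appTop]; rfl
    rw [h1, he2, Scheme.Hom.comp_appTop]
    change H.hom.appTop (s₁.appTop t) = 0
    rw [ht0, map_zero]
  have hu0 : trT L eO (uu τ t σ) = gs H (-σ) := by
    rw [uu, map_sub, trT_smul, trT_gs, ht1, zero_smul, zero_sub, gs_eq, gs_eq]
    exact (map_neg _ _).symm
  have hv : IsZeroSchemeOf (pullback.fst H.hom i) ((Scheme.Modules.pullback eM).obj N)
      (ZeroSch.pullSec eM N (uu τ t σ)) := by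
    have h1 := isZeroSchemeOf_pullSec (IsPullback.of_hasPullback H.hom i) hL (isZeroSchemeOf_neg hσ)
    rw [← gs_eq, ← hu0, trT_eq] at h1
    have h2 := isZeroSchemeOf_of_iso (eti L eO).symm h1
    have h3 : (eti L eO).symm.hom.app ⊤ ((eti L eO).hom.app ⊤
        (ZeroSch.pullSec eO.left (ET L (AO H H₁)) (uu τ t σ))) =
        ZeroSch.pullSec eO.left (ET L (AO H H₁)) (uu τ t σ) := by
      change ((eti L eO).hom ≫ (eti L eO).symm.hom).app ⊤ _ = _
      rw [Iso.symm_hom, Iso.hom_inv_id]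
      rfl
    rw [h3] at h2
    exact h2
  obtain ⟨i', sq1⟩ := exists_isPullback eM hN zw hv
  exact ⟨{
    V := H.left
    A := (AO H H₁).left
    W := W
    D' := pullback H.hom i
    π := H.hom
    q := (AO H H₁).hom
    e := eM
    w := w
    v := pullback.fst H.hom i
    i' := i'
    p := pullback.snd H.hom i
    N := N
    u := uu τ t σ
    M := ET (Coh.structureModule X) (AO H H₁)
    t := trT _ (P₂ H H₁) τ₁
    K := ET L H
    τ := τ
    s₀ := s₀
    smπ := hsm
    smq := by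
      have : SmoothOfRelativeDimension 1 (pullback.fst H.hom H₁.hom) :=
        (smoothOfRelativeDimension_isStableUnderBaseChange 1).of_isPullback
          (IsPullback.of_hasPullback H.hom H₁.hom).flip hsm₁
      exact inferInstanceAs (SmoothOfRelativeDimension (1 + 1)
        (pullback.fst H.hom H₁.hom ≫ H.hom))
    qcπ := inferInstance
    qcq := inferInstanceAs (QuasiCompact (pullback.fst H.hom H₁.hom ≫ H.hom))
    e_q := by
      change eM ≫ pullback.fst H.hom H₁.hom ≫ H.hom = H.hom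
      rw [← Category.assoc, he1, Category.id_comp]
    s₀π := hs₀π
    ce := hce
    cw := hw
    cs₀ := hs₀
    ze := by
      have h1 := isZeroSchemeOf_of_iso (eti _ (P₂ H H₁))
        (isZeroSchemeOf_pullSec sqe (isInvertible_pullback H₁.hom hO) zs₁)
      rw [trT_eq]
      exact h1
    zw := zw
    zs₀ := zs₀
    isoN := ⟨Iso.refl _⟩
    isoM := ⟨Iso.refl _⟩
    invK := isInvertible_pullback _ hL
    nzu := hNZ
    sq1 := sq1
    sq2 := IsPullback.of_hasPullback H.hom i }⟩

end DefoExists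

end K930
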