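import Groth.Agent.Bivar.K930.DefoExists

/-!
# The special fibre of the deformation is a principal divisor
-/

set_option autoImplicit false
universe u v
open CategoryTheory AlgebraicGeometry CategoryTheory.Limits Opposite

namespace K930

open Groth.Agent Groth.Agent.CycB K930.Chow K930.ModIso K930.PushPull K930.Gysin K930.ZeroSch
open K930.OpenImm K930.GysinComm K930.OKs K930.TestSch K930.RelDimBC K930.RelCart Cyc
open Groth.Agent.CycB.GysinCl Groth.Agent.CycB.C1Pull CycB.RelDim K930.Defo K930.ZeroUniv

namespace DefoS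

variable {X D : Scheme.{u}} {i : D ⟶ X} {L : X.Modules} (d : DefoS i L)

theorem nonempty_struct : Nonempty ((Scheme.Modules.pullback d.w).obj d.M ≅
    Coh.structureModule d.W) :=
  ⟨(Scheme.Modules.pullback d.w).mapIso d.isoM.some.symm ≪≫ pbIso rfl _ ≪≫
    Fga.UnitRestrict.pullbackUnitIso d.g⟩

theorem exists_struct : ∃ s' : (Coh.structureModule d.W).presheaf.obj (op ⊤),
    IsZeroSchemeOf d.i' (Coh.structureModule d.W) s' :=
  ⟨_, isZeroSchemeOf_of_iso d.nonempty_struct.some
    (isZeroSchemeOf_pullSec d.sq1.flip d.invM d.ze)⟩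

end DefoS

end K930
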