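import Groth.Agent.Bivar.K930.C1Class
import Groth.Agent.CycB.KeySec
import Groth.Agent.CycB.GenPts

/-!
# Products of first Chern classes vanish for dimension reasons
-/

set_option autoImplicit false
universe u v
open CategoryTheory AlgebraicGeometry CategoryTheory.Limits Opposite TopologicalSpace

namespace K930.DimVanish

open Groth.Agent Groth.Agent.CycB K930.Chow K930.ModIso K930.PushPull K930.Gysin K930.ZeroSch
open K930.OpenImm K930.GysinComm K930.OKs K930.TestSch Cyc
open Groth.Agent.CycB.C1Pull Groth.Agent.CycB.ModStalk Groth.Agent.CycB.C1Basic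

section Topology

/-- The closure of `x` has dimension less than `m`. -/
def B {X : Type*} [TopologicalSpace X] : ℕ → X → Prop
  | 0, _ => False
  | m + 1, x => ∀ y, x ⤳ y → y ≠ x → B m y

variable {X : Type*} [TopologicalSpace X]

theorem B_of_inducing {Z : Type*} [TopologicalSpace Z] {i : Z → X} (hi : Topology.IsInducing i)
    (hinj : Function.Injective i) (m : ℕ) : ∀ (z : Z), B m (i z) → B m z := by
  induction m with
  | zero => exact fun _ h => h
  | succ m ih =>
    intro z h y hy hne
    exact ih y (h (i y) (hy.map hi.continuous) fun e => hne (hinj e))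

/-- The closure of a point as an irreducible closed set. -/
def cl' (x : X) : IrreducibleCloseds X :=
  ⟨closure {x}, isIrreducible_singleton.closure, isClosed_closure⟩

theorem exists_series [T0Space X] (m : ℕ) : ∀ x : X, ¬ B m x →
    ∃ s : LTSeries (IrreducibleCloseds X), s.length = m ∧ RelSeries.last s = cl' x := by
  induction m with
  | zero => exact fun x _ => ⟨RelSeries.singleton _ (cl' x), rfl, rfl⟩
  | succ m ih =>
    intro x h
    rw [B] at h
    push Not at h
    obtain ⟨y, h1, h2, h3⟩ := h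
    obtain ⟨s, hs, hl⟩ := ih y h3
    have hlt : RelSeries.last s < cl' x := by
      rw [hl]
      refine lt_of_le_of_ne ?_ ?_
      · exact closure_minimal (Set.singleton_subset_iff.2 (specializes_iff_mem_closure.1 h1))
          isClosed_closure
      · intro e
        have h4 : closure ({y} : Set X) = closure {x} := congrArg IrreducibleCloseds.carrier e
        refine h2 (Specializes.antisymm ?_ h1).eq
        rw [specializes_iff_mem_closure, h4]
        exact subset_closure rfl
    exact ⟨s.snoc (cl' x) hlt, by simp [hs], by simp⟩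

theorem B_of_topologicalKrullDim_le [T0Space X] {d : ℕ} (h : topologicalKrullDim X ≤ d) (x : X) :
    B (d + 1) x := by
  by_contra hx
  obtain ⟨s, hs, -⟩ := exists_series (d + 1) x hx
  have h1 : (s.length : WithBot ℕ∞) ≤ topologicalKrullDim X := Order.LTSeries.length_le_krullDim s
  have h2 := h1.trans h
  rw [hs] at h2
  have h3 : d + 1 ≤ d := by exact_mod_cast h2
  omega

/-- Every point of a sober space is a specialization of a generic point. -/
theorem exists_generic [QuasiSober X] [T0Space X] (x : X) :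
    ∃ z : X, z ⤳ x ∧ ∀ y, y ⤳ z → y = z := by
  obtain ⟨z, hz⟩ := QuasiSober.sober (isIrreducible_irreducibleComponent (x := x))
    (isClosed_irreducibleComponent (x := x))
  refine ⟨z, hz.specializes mem_irreducibleComponent, fun y hy => ?_⟩
  have h1 : irreducibleComponent x ⊆ closure {y} := by
    rw [← hz.def]
    exact closure_minimal (Set.singleton_subset_iff.2 (specializes_iff_mem_closure.1 hy))
      isClosed_closure
  have h2 := eq_irreducibleComponent (isIrreducible_singleton (x := y)).closure.isPreirreducible h1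
  refine (Specializes.antisymm hy ?_).eq
  rw [specializes_iff_mem_closure, hz.def, ← h2]
  exact subset_closure rfl

end Topology

section Triv

variable {X : Scheme.{u}}

/-- A generic point of a locally Noetherian scheme has an irreducible neighbourhood. -/
theorem exists_nhds [IsLocallyNoetherian X] {η : X} (hη : ∀ y, y ⤳ η → y = η) :
    ∃ U : X.Opens, η ∈ U ∧ ∀ y ∈ U, η ⤳ y := by
  obtain ⟨U, hU, hfin⟩ := GenPts.exists_finite_generic (X := X) Set.univ isClosed_univ η
  let F : Set X := {ξ | ξ ∈ U ∧ ξ ∈ Set.univ ∧ ∀ ζ ∈ Set.univ, ζ ⤳ ξ → ζ = ξ} \ {η}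
  have hF : F.Finite := hfin.subset Set.sdiff_subset
  have hcl : IsClosed (⋃ ζ ∈ F, closure ({ζ} : Set X)) :=
    hF.isClosed_biUnion fun _ _ => isClosed_closure
  refine ⟨⟨U ∩ (⋃ ζ ∈ F, closure ({ζ} : Set X))ᶜ, U.isOpen.inter hcl.isOpen_compl⟩, ⟨hU, ?_⟩, ?_⟩
  · intro h
    simp only [Set.mem_iUnion] at h
    obtain ⟨ζ, hζ, h1⟩ := h
    exact hζ.2 (hη ζ (specializes_iff_mem_closure.2 h1))
  · rintro y ⟨hyU, hy⟩
    obtain ⟨z, hz, hgen⟩ := exists_generic y
    by_cases he : z = η
    · exact he ▸ hz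
    · exfalso
      refine hy (Set.mem_biUnion (x := z) ⟨⟨?_, trivial, fun ζ _ h => hgen ζ h⟩, he⟩
        (specializes_iff_mem_closure.1 hz))
      exact hz.mem_open U.isOpen hyU

/-- An invertible module is trivial on a disjoint union of opens meeting every component. -/
theorem exists_triv [IsLocallyNoetherian X] {L : X.Modules} (hL : PicF.IsInvertible L) :
    ∃ (A : Type u) (U : A → X.Opens) (t : ∀ a, Γ(L, U a)), (∀ a, IsGenOn L (U a) (t a)) ∧
      (∀ a b x, x ∈ U a → x ∈ U b → a = b) ∧
      ∀ x : X, (∀ a, x ∉ U a) → ∃ y : X, y ⤳ x ∧ y ≠ x := by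
  choose V hV hV' using fun η : {η : X // ∀ y, y ⤳ η → y = η} => exists_nhds η.2
  choose W hW t ht using fun η : {η : X // ∀ y, y ⤳ η → y = η} => exists_isGenOn hL η.1
  refine ⟨{η : X // ∀ y, y ⤳ η → y = η}, fun η => V η ⊓ W η,
    fun η => L.presheaf.map (homOfLE inf_le_right).op (t η), fun η => (ht η).mono _, ?_, ?_⟩
  · intro η ζ x hx hx'
    have h1 : η.1 ⤳ x := hV' η x hx.1
    have h2 : ζ.1 ⤳ η.1 := hV' ζ _ (h1.mem_open (V ζ).isOpen hx'.1)
    exact Subtype.ext (η.2 _ h2).symm
  · intro x hx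
    by_contra h
    push Not at h
    exact hx ⟨x, h⟩ ⟨hV _, hW _⟩

end Triv

section Supp

variable {Y D : Scheme.{u}} {δ : Y → ℤ} {δD : D → ℤ}

/-- If `M` is trivialized off a closed subset then `c_1(M) ∩ -` factors through it. -/
theorem exists_c1_supp (hY : IsSetup Y δ) {M : Y.Modules} (hM : PicF.IsInvertible M) {A : Type*}
    (V : A → Y.Opens) (t : ∀ a, Γ(M, V a)) (ht : ∀ a, IsGenOn M (V a) (t a))
    (hdisj : ∀ a b y, y ∈ V a → y ∈ V b → a = b) (i : D ⟶ Y) [IsClosedImmersion i]
    (hi : ∀ y, (∀ a, y ∉ V a) → y ∈ Set.range i) (hδ : DeltaCompat i δD δ) {k l : ℤ}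
    (hk : k = l + 1) (x : ChowOps.CH Y δ k) :
    ∃ y : ChowOps.CH D δD l, pushCH i hY hδ l y = c1CH hY hM hk x := by
  classical
  obtain ⟨α, hα, rfl⟩ := Bivar.exists_rep x
  let v : (ξ : Y) → secFibre M ξ := fun ξ =>
    if h : ∃ a, ξ ∈ V a then cl M ξ (M.presheaf.germ (V h.choose) ξ h.choose_spec (t h.choose))
    else nz hM ξ
  have hv : ∀ ξ, v ξ ≠ 0 := by
    intro ξ
    by_cases h : ∃ a, ξ ∈ V a
    · simp only [v, dif_pos h]
      exact cl_ne_zero ((ht _).isGen ξ h.choose_spec)
    · simp only [v, dif_neg h]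
      exact nz_ne_zero hM ξ
  obtain ⟨γ, hγ⟩ := exists_c1 hY hM α hv
  have hm : γ ∈ Zk Y δ l := c1_mem hk hα hγ
  rw [c1CH_cl hY hM hk α hα v hv γ hγ hm]
  have hzero : ∀ a y, y ∈ V a → γ y = 0 := by
    intro a y hy
    rw [hγ]
    unfold c1CapFun
    rw [show (fun ξ => α ξ * secDivFun δ M ξ (v ξ) y) = fun _ => 0 from ?_, finsum_zero]
    funext ξ
    by_cases hs : ξ ⤳ y
    · have hξ : ξ ∈ V a := hs.mem_open (V a).isOpen hy
      have h : ∃ a, ξ ∈ V a := ⟨a, hξ⟩
      have hva : v ξ = (1 : Y.presheaf.stalk ξ) • cl M ξ (M.presheaf.germ (V a) ξ hξ (t a)) := by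
        simp only [v, dif_pos h, one_smul]
        have hc : h.choose = a := hdisj _ _ ξ h.choose_spec hξ
        have : ∀ (b : A) (hb : ξ ∈ V b), b = a →
            cl M ξ (M.presheaf.germ (V b) ξ hb (t b)) = cl M ξ (M.presheaf.germ (V a) ξ hξ (t a)) := by
          intro b hb e
          subst e
          rfl
        exact this _ h.choose_spec hc
      rw [hva, KeySec.secDivFun_eq_of_isGenOn hM δ (ht a) hξ (by rw [map_one]; exact one_ne_zero) hy,
        map_one]
      have : divFun δ ξ (1 : Y.residueField ξ) y = 0 := by rw [divFun_one]; rfl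
      rw [this, mul_zero]
    · have : secDivFun δ M ξ (v ξ) y = 0 := by
        unfold secDivFun
        rw [dif_neg fun h' => hs h'.1]
      rw [this, mul_zero]
  have hδD := deltaCompat_eq_comp i hδ
  have hinj := i.isClosedEmbedding.injective
  have hm' : RatTransport.comapCycle i hinj γ ∈ Zk D δD l := by
    rw [hδD]; exact RatTransport.comapCycle_mem_Zk _ _ _ _ _ hm
  refine ⟨ChowOps.cl (RatTransport.comapCycle i hinj γ) hm', pushCH_cl' i hY hδ l _ _ _ _ ?_⟩
  apply DFunLike.coe_injective
  funext y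
  by_cases hy : y ∈ Set.range ⇑i
  · obtain ⟨d, rfl⟩ := hy
    rw [DivNat.map_apply_of_isPreimmersion i δD δ _ d (congrFun hδD d)]
    rfl
  · rw [DivNat.map_apply_notMem_range i δD δ _ y hy]
    by_contra h
    refine hy (hi y fun a ha => h (hzero a y ha).symm)

end Supp

section Main

/-- The reduced closed subscheme on a closed subset. -/
theorem exists_closed {X : Scheme.{u}} (S : Set X) (hS : IsClosed S) :
    ∃ (Z : Scheme.{u}) (i : Z ⟶ X) (_ : IsClosedImmersion i), Set.range ⇑i = S := by
  refine ⟨(Scheme.IdealSheafData.vanishingIdeal ⟨S, hS⟩).subscheme,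
    (Scheme.IdealSheafData.vanishingIdeal ⟨S, hS⟩).subschemeι, inferInstance, ?_⟩
  rw [Scheme.IdealSheafData.range_subschemeι, Scheme.IdealSheafData.coe_support_vanishingIdeal]
  rfl

theorem chain_zero (m : ℕ) : ∀ (X Y : Scheme.{u}) [IsLocallyNoetherian X] (_ : ∀ x : X, B m x)
    (g : Y ⟶ X) (δ : Y → ℤ) (hY : IsSetup Y δ) (L : ℕ → X.Modules)
    (hL : ∀ j, j < m → PicF.IsInvertible (L j)) (κ : ℕ → ℤ) (hκ : ∀ j, κ j = κ (j + 1) + 1)
    (x : ∀ j, ChowOps.CH Y δ (κ j))
    (_ : ∀ j (h : j < m), c1CH hY (isInvertible_pullback g (hL j h)) (hκ j) (x j) = x (j + 1)),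
    x m = 0 := by
  induction m with
  | zero =>
    intro X Y _ hB g δ hY L hL κ hκ x hx
    obtain ⟨α, hα, e⟩ := Bivar.exists_rep (x 0)
    rw [← e, cl_eq_zero]
    have : α = 0 := by
      apply DFunLike.coe_injective
      funext y
      exact (hB (g y)).elim
    rw [this]
    exact DivFun.ratEquivZero_zero
  | succ m ih =>
    intro X Y _ hB g δ hY L hL κ hκ x hx
    obtain ⟨A, U, t, ht, hdisj, hgen⟩ := exists_triv (hL 0 (Nat.succ_pos m))
    obtain ⟨Z, i, hi, hr⟩ := exists_closed (X := X) {x | ∀ a, x ∉ U a} (by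
      have : {x : X | ∀ a, x ∉ U a} = (⋃ a, (U a : Set X))ᶜ := by
        ext x; simp
      rw [this]
      exact (isOpen_iUnion fun a => (U a).isOpen).isClosed_compl)
    have hZ : IsLocallyNoetherian Z := LocallyOfFiniteType.isLocallyNoetherian i
    let W := pullback g i
    let iW : W ⟶ Y := pullback.fst g i
    have hδW : DeltaCompat iW (fun w => δ (iW w)) δ := deltaCompat_closed iW
    have hW := setup_of iW hY hδW
    obtain ⟨y₁, hy₁⟩ := exists_c1_supp hY (isInvertible_pullback g (hL 0 (Nat.succ_pos m)))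
      (fun a => g ⁻¹ᵁ U a) _ (fun a => isGenOn_unit g (ht a)) (fun a b y h h' => hdisj a b (g y) h h')
      iW (by
        intro y hy
        have : g y ∈ Set.range ⇑i := by rw [hr]; exact hy
        obtain ⟨z, hz⟩ := this
        obtain ⟨w, hw, -⟩ := Scheme.exists_preimage_of_isPullback (IsPullback.of_hasPullback g i) y z
          hz.symm
        exact ⟨w, hw⟩) hδW (hκ 0) (x 0)
    have hLi : ∀ j, j < m → PicF.IsInvertible ((Scheme.Modules.pullback i).obj (L (j + 1))) :=
      fun j hj => isInvertible_pullback i (hL (j + 1) (Nat.succ_lt_succ hj))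
    have hLW : ∀ j, j < m → PicF.IsInvertible ((Scheme.Modules.pullback (pullback.snd g i)).obj
      ((Scheme.Modules.pullback i).obj (L (j + 1)))) :=
      fun j hj => isInvertible_pullback _ (hLi j hj)
    have hLY : ∀ j, j < m + 1 → PicF.IsInvertible ((Scheme.Modules.pullback g).obj (L j)) :=
      fun j hj => isInvertible_pullback _ (hL j hj)
    let y : ∀ j, ChowOps.CH W (fun w => δ (iW w)) (κ (j + 1)) := fun j =>
      Nat.rec y₁ (fun j yj => if h : j < m then c1CH hW (hLW j h) (hκ (j + 1)) yj else 0) j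
    have hys : ∀ j (h : j < m), y (j + 1) = c1CH hW (hLW j h) (hκ (j + 1)) (y j) := by
      intro j h
      change (if h : j < m then c1CH hW (hLW j h) (hκ (j + 1)) (y j) else 0) = _
      rw [dif_pos h]
    have hpush : ∀ j, j ≤ m → pushCH iW hY hδW (κ (j + 1)) (y j) = x (j + 1) := by
      intro j
      induction j with
      | zero => exact fun _ => hy₁.trans (hx 0 (Nat.succ_pos m))
      | succ j ihj =>
        intro hj
        rw [hys j hj, ← hx (j + 1) (Nat.succ_lt_succ hj), ← ihj (Nat.le_of_succ_le hj)]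
        exact (c1CH_pushCH iW hW hY hδW (hLY (j + 1) (Nat.succ_lt_succ hj)) (hLW j hj)
          (pbIso pullback.condition (L (j + 1)) ≪≫ (pbIso rfl (L (j + 1))).symm) _ _).symm
    have hy := ih Z W (fun z => by
        obtain ⟨x', hx', hne⟩ := hgen (i z) (by
          have : i z ∈ Set.range ⇑i := ⟨z, rfl⟩
          rw [hr] at this; exact this)
        exact B_of_inducing i.isClosedEmbedding.isInducing i.isClosedEmbedding.injective m z
          (hB x' (i z) hx' (Ne.symm hne)))
      (pullback.snd g i) _ hW (fun j => (Scheme.Modules.pullback i).obj (L (j + 1))) hLi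
      (fun j => κ (j + 1)) (fun j => hκ (j + 1)) y (fun j h => (hys j h).symm)
    rw [← hpush m le_rfl, hy, map_zero]

end Main

end K930.DimVanish
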