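import Groth.Agent.Bivar.K930.ExtT
import Groth.Agent.CycB.GysinFlat

/-!
# The multiplicities of exterior products
-/

set_option autoImplicit false
universe u v
open CategoryTheory AlgebraicGeometry CategoryTheory.Limits Opposite

namespace K930.ExtT

open Groth.Agent Groth.Agent.CycB K930.Chow K930.ModIso K930.PushPull K930.Gysin K930.ZeroSch
open K930.OpenImm K930.GysinComm K930.OKs K930.TestSch K930.RelDimBC K930.ClOps Cyc K930.Clopen
open K930.Squares PtClosure K930.Decomp Groth.Agent.CycB.RelDim Groth.Agent.Divis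

variable {X Y P V Q : Scheme.{u}}

/-- The length in the definition of the exterior product. -/
noncomputable def len2 (q₁ : P ⟶ X) (q₂ : P ⟶ Y) (t : P) : ℕ∞ :=
  Module.length (P.presheaf.stalk t) (P.presheaf.stalk t ⧸
    (Ideal.map (q₁.stalkMap t).hom (IsLocalRing.maximalIdeal (X.presheaf.stalk (q₁ t))) ⊔
      Ideal.map (q₂.stalkMap t).hom (IsLocalRing.maximalIdeal (Y.presheaf.stalk (q₂ t)))))

theorem ker_stalkMap_le {q₂ : P ⟶ Y} {ι : V ⟶ Y} [IsClosedImmersion ι] {c : Q ⟶ P} {v : Q ⟶ V}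
    (sq : IsPullback c v q₂ ι) (w : Q) :
    RingHom.ker (c.stalkMap w).hom ≤
      Ideal.map (q₂.stalkMap (c w)).hom (IsLocalRing.maximalIdeal (Y.presheaf.stalk (q₂ (c w)))) := by
  have : IsClosedImmersion c := MorphismProperty.of_isPullback sq.flip ‹_›
  have hk : c.ker = ι.ker.comap q₂ := by
    rw [← Scheme.IdealSheafData.ker_fst_of_isClosedImmersion, ← Scheme.Hom.ker_comp_of_isIso
      sq.isoPullback.hom, sq.isoPullback_hom_fst]
  rw [CartierStalk.ker_stalkMap, hk, CartierStalk.stalkIdeal_comap]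
  refine Ideal.map_mono ?_
  have h1 : ∀ (y : Y) (z : V), y = ι z →
      CartierBasic.stalkIdeal ι.ker y ≤ IsLocalRing.maximalIdeal (Y.presheaf.stalk y) := by
    rintro _ z rfl
    rw [← CartierStalk.ker_stalkMap]
    exact IsLocalRing.le_maximalIdeal (RingHom.ker_ne_top _)
  exact h1 _ (v w) (by rw [← Scheme.Hom.comp_apply, sq.w, Scheme.Hom.comp_apply])

theorem map_map_eq_bot {q₂ : P ⟶ Y} {ι : V ⟶ Y} {c : Q ⟶ P} {v : Q ⟶ V}
    (e : c ≫ q₂ = v ≫ ι) (w : Q)
    (hw : IsLocalRing.maximalIdeal (V.presheaf.stalk (v w)) = ⊥) :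
    Ideal.map (c.stalkMap w).hom (Ideal.map (q₂.stalkMap (c w)).hom
      (IsLocalRing.maximalIdeal (Y.presheaf.stalk (q₂ (c w))))) = ⊥ := by
  have h1 := GysinFlat.map_max_comp c q₂ w
  have h2 := GysinFlat.map_max_comp v ι w
  rw [GysinFlat.map_max_congr e w] at h1
  rw [← h1, h2]
  have h3 : Ideal.map (ι.stalkMap (v w)).hom
      (IsLocalRing.maximalIdeal (Y.presheaf.stalk (ι (v w)))) = ⊥ := by
    rw [← le_bot_iff, ← hw, Ideal.map_le_iff_le_comap]
    have hloc : IsLocalHom (ι.stalkMap (v w)).hom := inferInstance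
    exact ((IsLocalRing.local_hom_TFAE (ι.stalkMap (v w)).hom).out 0 3).1 hloc
  rw [h3, Ideal.map_bot]

theorem mult_piece {q₂ : P ⟶ Y} {ι : V ⟶ Y} [IsClosedImmersion ι] {c : Q ⟶ P} {v : Q ⟶ V}
    (sq : IsPullback c v q₂ ι) (q₁ : P ⟶ X) (w : Q)
    (hw : IsLocalRing.maximalIdeal (V.presheaf.stalk (v w)) = ⊥) :
    FlatLength.mult (c ≫ q₁) w = len2 q₁ q₂ (c w) := by
  have hc : IsClosedImmersion c := MorphismProperty.of_isPullback sq.flip ‹_›
  unfold FlatLength.mult len2
  rw [← GysinFlat.length_quot_map_of_surjective (c.stalkMap w).hom (c.stalkMap_surjective w) _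
    ((ker_stalkMap_le sq w).trans le_sup_right), Ideal.map_sup, map_map_eq_bot sq.w w hw, sup_bot_eq,
    GysinFlat.map_max_comp]

end K930.ExtT
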