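import Groth.Agent.Bivar.K930.ExtPush
import Groth.Agent.CycB.SetupDVR

/-!
# Operational classes and exterior products
-/

set_option autoImplicit false
universe u v
open CategoryTheory AlgebraicGeometry CategoryTheory.Limits Opposite

namespace K930.ExtT

open Groth.Agent Groth.Agent.CycB K930.Chow K930.ModIso K930.PushPull K930.Gysin K930.ZeroSch
open K930.OpenImm K930.GysinComm K930.OKs K930.TestSch K930.RelDimBC K930.ClOps Cyc K930.Clopen
open K930.Squares PtClosure K930.Decomp Groth.Agent.CycB.RelDim Groth.Agent.Divis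

variable {X Y P : Scheme.{u}} {k : Type u} [Field k] {pX : X ⟶ Spec (.of k)}
  {pY : Y ⟶ Spec (.of k)} [LocallyOfFiniteType pY]
  {q₁ : P ⟶ X} {q₂ : P ⟶ Y} {δX : X → ℤ} {δY : Y → ℤ} {δP : P → ℤ}

omit [LocallyOfFiniteType pY] in
theorem len2_id (t : Y) : len2 pY (𝟙 Y) t = 1 := by
  have h1 := mult_open (𝟙 Y) t
  rw [← h1]
  unfold len2 FlatLength.mult
  have h2 : Ideal.map (pY.stalkMap t).hom (IsLocalRing.maximalIdeal
      ((Spec (CommRingCat.of k)).presheaf.stalk (pY t))) ≤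
      Ideal.map ((𝟙 Y : Y ⟶ Y).stalkMap t).hom
        (IsLocalRing.maximalIdeal (Y.presheaf.stalk ((𝟙 Y : Y ⟶ Y) t))) := by
    have hl1 : IsLocalHom (pY.stalkMap t).hom := inferInstance
    have hl2 : IsLocalHom ((𝟙 Y : Y ⟶ Y).stalkMap t).hom := inferInstance
    have h3 := ((IsLocalRing.local_hom_TFAE (pY.stalkMap t).hom).out 0 3).1 hl1
    have h4 := ((IsLocalRing.local_hom_TFAE ((𝟙 Y : Y ⟶ Y).stalkMap t).hom).out 0 4).1 hl2
    have hs : Function.Surjective ((𝟙 Y : Y ⟶ Y).stalkMap t).hom :=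
      (ConcreteCategory.bijective_of_isIso ((𝟙 Y : Y ⟶ Y).stalkMap t)).2
    rw [← h4, Ideal.map_comap_of_surjective _ hs, Ideal.map_le_iff_le_comap]
    exact h3
  rw [sup_eq_right.2 h2]

/-- The positive part of a cycle is the pushforward of the fundamental cycle. -/
theorem map_h (α : AlgebraicCycle Y ℤ) (hδY : DeltaCompat pY δY (fun _ => 0)) {δT : T α → ℤ}
    (hδT : DeltaCompat (h α) δT δY) {b : ℕ} (hα : α ∈ Zk Y δY b)
    (w : AlgebraicCycle (Spec (CommRingCat.of k)) ℤ) (ρ : AlgebraicCycle (T α) ℤ)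
    (hρ : ⇑ρ = pullFun (h α ≫ pY) δT (fun _ => 0) b ⇑w) (t : Y) :
    AlgebraicCycle.map (h α) δT δY ρ t = w (pY t) * ((α t).toNat : ℤ) := by
  have sq : IsPullback (h α) (𝟙 _) (𝟙 Y) (h α) := IsPullback.of_vert_isIso ⟨by simp⟩
  have hP : IsPullback pY (𝟙 Y) (𝟙 _) pY := IsPullback.of_vert_isIso ⟨by simp⟩
  rw [map_pull α sq hP hδY (δX := fun _ => 0) hδY hδT hα w ρ hρ t]
  have h1 : δY t = 0 + δY ((𝟙 Y : Y ⟶ Y) t) := by simp
  rw [if_pos h1, len2_id]
  simp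

/-- An operational class applied to the exterior product with the positive part of a cycle. -/
theorem push_op_pos {p : ℤ} (c : Bivar.OpCl p X δX) [IsProper pX] [IsProper q₂]
    (hP : IsPullback q₁ q₂ pX pY) (hX : IsSetup X δX) (hY : IsSetup Y δY) (hPs : IsSetup P δP)
    (hδX : DeltaCompat pX δX (fun _ => 0))
    (hδY : DeltaCompat pY δY (fun _ => 0)) (hl : LocallyOfFiniteType q₁)
    (hδ₁ : DeltaCompat q₁ δP δX) (hδ₂ : DeltaCompat q₂ δP δY) {a m m' : ℤ}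
    (α : AlgebraicCycle Y ℤ) {b : ℕ}
    (hα : α ∈ Zk Y δY b) (hm : m = a + b) (hm' : m - p = m')
    (u : AlgebraicCycle X ℤ) (hu : u ∈ Zk X δX a)
    (ζ : AlgebraicCycle P ℤ) (hζm : ζ ∈ Zk P δP m)
    (hζ : ∀ t, ζ t = if δP t = δX (q₁ t) + δY (q₂ t) then
        u (q₁ t) * ((α (q₂ t)).toNat : ℤ) * ((len2 q₁ q₂ t).toNat : ℤ) else 0)
    (β : AlgebraicCycle X ℤ) (hβ : β ∈ Zk X δX (a - p))
    (hcβ : c.cap a (ChowOps.cl u hu) = ChowOps.cl β hβ)
    (γ : AlgebraicCycle Y ℤ) (hγ : ∀ t, γ t = ChowOps.deg pX δX β * ((α t).toNat : ℤ))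
    (hγm : γ ∈ Zk Y δY (m - p)) :
    pushCH q₂ hY hδ₂ (m - p) (c.op ⟨P, q₁, hl, δP, hδ₁⟩ m (ChowOps.cl ζ hζm)) =
      ChowOps.cl γ hγm := by
  subst hm
  have hS := SetupDVR.isSetup_spec_field k
  -- the auxiliary scheme
  obtain ⟨δT, hδT⟩ := SetupLft.exists_deltaCompat (h α) δY
  have hT : IsSetup (T α) δT := setup_of (h α) hY hδT
  let P' := pullback q₂ (h α)
  let h' : P' ⟶ P := pullback.fst q₂ (h α)
  let r : P' ⟶ T α := pullback.snd q₂ (h α)
  have sq : IsPullback h' r q₂ (h α) := IsPullback.of_hasPullback q₂ (h α)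
  obtain ⟨δP', hδ'⟩ := SetupLft.exists_deltaCompat h' δP
  have hP' : IsSetup P' δP' := setup_of h' hPs hδ'
  have sqT := isPullback_T α sq hP
  have hfl : Flat (h' ≫ q₁) := MorphismProperty.of_isPullback (P := @Flat) sqT.flip inferInstance
  have hr' : HasRelDim (h' ≫ q₁) b := hasRelDim_T' α sq hP hδY hα
  have hrT : HasRelDim (h α ≫ pY) b := hasRelDim_T α pY hδY hα
  have hδ1 : DeltaCompat (h' ≫ q₁) δP' δX := Bivar.deltaCompat_comp _ _ _ _ _ hδ' hδ₁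
  have hδ2 : DeltaCompat (h α ≫ pY) δT (fun _ => 0) := Bivar.deltaCompat_comp _ _ _ _ _ hδT hδY
  have hδr : DeltaCompat r δP' δT := deltaCompat_of_comm sq.w hδ' hδ₂ hδT
  have hs1 := shift_of_hasRelDim hr' hδ1
  have hs2 := shift_of_hasRelDim hrT hδ2
  -- the exterior product as a pushforward
  have hζ1 : AlgebraicCycle.map h' δP' δP (pullCyc (h' ≫ q₁) hP' hs1 u) = ζ := by
    apply DFunLike.coe_injective
    funext t
    rw [hζ]
    exact map_pull α sq hP hδY hδ₁ hδ' hα u _ (pullCyc_coe _ _ _ _) t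
  have hζ2 : ChowOps.cl ζ hζm = pushCH h' hPs hδ' (a + b)
      (pullCH (h' ≫ q₁) hP' hX hs1 rfl (ChowOps.cl u hu)) := by
    rw [pullCH_cl']
    exact (pushCH_cl' h' _ _ _ _ _ _ _ hζ1).symm
  -- the test schemes
  have hlT : LocallyOfFiniteType (h' ≫ q₁) := inferInstance
  let sP : Bivar.OSq X δX := ⟨P, q₁, hl, δP, hδ₁⟩
  let sP' : Bivar.OSq X δX := ⟨P', h' ≫ q₁, hlT, δP', hδ1⟩
  have h1 := opCl_push c hX (s := sP) (t := sP') (h := h') rfl
    (pullCH (h' ≫ q₁) hP' hX hs1 rfl (ChowOps.cl u hu))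
  have h2 := opCl_pull c hX (s := Bivar.OSq.self X δX) (t := sP') (h := h' ≫ q₁) hr'
    (Category.comp_id _) (k := a) (k' := a + b) rfl (by ring) (ChowOps.cl u hu)
  have h3 : c.op sP (a + b) (ChowOps.cl ζ hζm) = pushCH h' hPs hδ' (a + b - p)
      (pullCH (h' ≫ q₁) hP' hX hs1 (by ring) (ChowOps.cl β hβ)) := by
    rw [hζ2]
    refine h1.trans (congrArg _ (h2.trans ?_))
    exact congrArg _ hcβ
  refine (congrArg _ h3).trans ?_
  have hprr : IsProper r := MorphismProperty.of_isPullback sq inferInstance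
  rw [pushCH_comp h' q₂ hPs hY hδ' hδ₂ (Bivar.deltaCompat_comp _ _ _ _ _ hδ' hδ₂)]
  rw [pushCH_congr sq.w hY _ (Bivar.deltaCompat_comp _ _ _ _ _ hδr hδT),
    ← pushCH_comp r (h α) hT hY hδr hδT]
  have h4 := pullCH_pushCH sqT.flip hX hS hP' hT hδX hδr hs2 hs1
    (by ring : a + b - p = a - p + b) (ChowOps.cl β hβ)
  rw [← h4, pushCH_cl, pullCH_cl']
  apply pushCH_cl'
  apply DFunLike.coe_injective
  funext t
  have hsub : Subsingleton (Spec (CommRingCat.of k)) :=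
    inferInstanceAs (Subsingleton (PrimeSpectrum k))
  rw [map_h α hδY hδT hα _ _ (pullCyc_coe _ _ _ _) t, hγ, ChowOps.deg,
    Subsingleton.elim (pY t) (IsLocalRing.closedPoint k)]

theorem exists_zeta (hP : IsPullback q₁ q₂ pX pY)
    (hPs : IsSetup P δP) (hδY : DeltaCompat pY δY (fun _ => 0))
    (hδ₁ : DeltaCompat q₁ δP δX) {a m : ℤ} (α : AlgebraicCycle Y ℤ) {b : ℕ}
    (hα : α ∈ Zk Y δY b) (hm : m = a + b)
    (u : AlgebraicCycle X ℤ) (hu : u ∈ Zk X δX a) :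
    ∃ ζ ∈ Zk P δP m, ∀ t, ζ t = if δP t = δX (q₁ t) + δY (q₂ t) then
        u (q₁ t) * ((α (q₂ t)).toNat : ℤ) * ((len2 q₁ q₂ t).toNat : ℤ) else 0 := by
  subst hm
  have hl : LocallyOfFiniteType q₁ := MorphismProperty.of_isPullback hP.flip inferInstance
  obtain ⟨δT, hδT⟩ := SetupLft.exists_deltaCompat (h α) δY
  have sq : IsPullback (pullback.fst q₂ (h α)) (pullback.snd q₂ (h α)) q₂ (h α) :=
    IsPullback.of_hasPullback q₂ (h α)
  obtain ⟨δP', hδ'⟩ := SetupLft.exists_deltaCompat (pullback.fst q₂ (h α)) δP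
  have hP' : IsSetup _ δP' := setup_of _ hPs hδ'
  have sqT := isPullback_T α sq hP
  have hfl : Flat (pullback.fst q₂ (h α) ≫ q₁) :=
    MorphismProperty.of_isPullback (P := @Flat) sqT.flip inferInstance
  have hr' := hasRelDim_T' α sq hP hδY hα
  have hδ1 := Bivar.deltaCompat_comp _ _ _ _ _ hδ' hδ₁
  have hs1 := shift_of_hasRelDim hr' hδ1
  refine ⟨AlgebraicCycle.map (pullback.fst q₂ (h α)) δP' δP
    (pullCyc (pullback.fst q₂ (h α) ≫ q₁) hP' hs1 u), ?_, fun t => ?_⟩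
  · exact Bivar.cycMap_mem_Zk _ _ _ _ (pullCyc_mem _ _ _ rfl hu)
  · exact map_pull α sq hP hδY hδ₁ hδ' hα u _ (pullCyc_coe _ _ _ _) t

/-- The degree vanishes on cycles of nonzero dimension. -/
theorem deg_eq_zero [IsProper pX] {a : ℤ} (ha : a ≠ 0) (β : AlgebraicCycle X ℤ)
    (hβ : β ∈ Zk X δX a) : ChowOps.deg pX δX β = 0 := by
  refine (Push.map_apply pX δX (fun _ => (0 : ℤ)) β _).trans ?_
  refine finsum_mem_eq_zero_of_forall_eq_zero fun x _ => ?_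
  by_cases hx : δX x = a
  · have : AlgebraicCycle.mapCoeff pX δX (fun _ => 0) x = 0 := by
      unfold AlgebraicCycle.mapCoeff
      rw [if_neg]
      rw [hx]; exact ha
    rw [this]; simp
  · rw [hβ x hx, zero_mul]

/-- The positive part of a cycle. -/
theorem exists_pos (α : AlgebraicCycle Y ℤ) : ∃ γ : AlgebraicCycle Y ℤ, ∀ t, γ t = ((α t).toNat : ℤ) := by
  refine ⟨α⁺, fun t => ?_⟩
  rw [Int.ofNat_toNat]
  rfl

/-- An operational class applied to an exterior product. -/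
theorem push_op {p : ℤ} (c : Bivar.OpCl p X δX) [IsProper pX] [IsProper q₂]
    (hP : IsPullback q₁ q₂ pX pY) (hX : IsSetup X δX) (hY : IsSetup Y δY) (hPs : IsSetup P δP)
    (hδX : DeltaCompat pX δX (fun _ => 0))
    (hδY : DeltaCompat pY δY (fun _ => 0)) (hl : LocallyOfFiniteType q₁)
    (hδ₁ : DeltaCompat q₁ δP δX) (hδ₂ : DeltaCompat q₂ δP δY) {a m : ℤ}
    (α : AlgebraicCycle Y ℤ) (hα : α ∈ Zk Y δY (m - a))
    (u : AlgebraicCycle X ℤ) (hu : u ∈ Zk X δX a)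
    (ζ : AlgebraicCycle P ℤ) (hζm : ζ ∈ Zk P δP m)
    (hζ : ∀ t, ζ t = if δP t = δX (q₁ t) + δY (q₂ t) then
        u (q₁ t) * α (q₂ t) * ((len2 q₁ q₂ t).toNat : ℤ) else 0)
    (β : AlgebraicCycle X ℤ) (hβ : β ∈ Zk X δX (a - p))
    (hcβ : c.cap a (ChowOps.cl u hu) = ChowOps.cl β hβ) :
    ∃ hγm : ChowOps.deg pX δX β • α ∈ Zk Y δY (m - p),
    pushCH q₂ hY hδ₂ (m - p) (c.op ⟨P, q₁, hl, δP, hδ₁⟩ m (ChowOps.cl ζ hζm)) =
      ChowOps.cl (ChowOps.deg pX δX β • α) hγm := by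
  have hmem : ∀ γ : AlgebraicCycle Y ℤ, γ ∈ Zk Y δY (m - a) →
      ChowOps.deg pX δX β • γ ∈ Zk Y δY (m - p) := by
    intro γ hγ
    by_cases hap : a = p
    · subst hap
      exact zsmul_mem hγ _
    · rw [deg_eq_zero (by omega) β hβ, zero_smul]
      exact zero_mem
  refine ⟨hmem α hα, ?_⟩
  by_cases hb : 0 ≤ m - a
  · obtain ⟨b, hb⟩ := Int.eq_ofNat_of_zero_le hb
    have hα' : α ∈ Zk Y δY (b : ℤ) := by rw [← hb]; exact hα
    have hm : m = a + b := by omega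
    have hnα : (-α) ∈ Zk Y δY (b : ℤ) := neg_mem hα'
    obtain ⟨ζ₁, hζ₁m, hζ₁⟩ := exists_zeta hP hPs hδY hδ₁ α hα' hm u hu
    obtain ⟨ζ₂, hζ₂m, hζ₂⟩ := exists_zeta hP hPs hδY hδ₁ (-α) hnα hm u hu
    obtain ⟨γ₁, hγ₁⟩ := exists_pos α
    obtain ⟨γ₂, hγ₂⟩ := exists_pos (-α)
    have hγ₁m : γ₁ ∈ Zk Y δY (m - a) := fun t ht => by rw [hγ₁, hα t ht]; rfl
    have hγ₂m : γ₂ ∈ Zk Y δY (m - a) := fun t ht => by
      rw [hγ₂, Function.locallyFinsuppWithin.coe_neg, Pi.neg_apply, hα t ht]; rfl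
    have hdecα : γ₁ - γ₂ = α := by
      apply DFunLike.coe_injective
      funext t
      rw [Function.locallyFinsuppWithin.coe_sub, Pi.sub_apply, hγ₁, hγ₂,
        Function.locallyFinsuppWithin.coe_neg, Pi.neg_apply]
      omega
    have hdecζ : ζ₁ - ζ₂ = ζ := by
      apply DFunLike.coe_injective
      funext t
      rw [Function.locallyFinsuppWithin.coe_sub, Pi.sub_apply, hζ, hζ₁, hζ₂,
        Function.locallyFinsuppWithin.coe_neg, Pi.neg_apply]
      split_ifs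
      · have h1 : ((α (q₂ t)).toNat : ℤ) - ((-α (q₂ t)).toNat : ℤ) = α (q₂ t) := by omega
        linear_combination (u (q₁ t) * ((len2 q₁ q₂ t).toNat : ℤ)) * h1
      · ring
    have h1 := push_op_pos c hP hX hY hPs hδX hδY hl hδ₁ hδ₂ α hα' hm rfl u hu ζ₁ hζ₁m hζ₁ β hβ hcβ
      (ChowOps.deg pX δX β • γ₁) (fun t => by
        rw [Function.locallyFinsuppWithin.coe_zsmul, Pi.smul_apply, hγ₁, smul_eq_mul])
      (hmem γ₁ hγ₁m)
    have h2 := push_op_pos c hP hX hY hPs hδX hδY hl hδ₁ hδ₂ (-α) hnα hm rfl u hu ζ₂ hζ₂m hζ₂ β hβ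
      hcβ (ChowOps.deg pX δX β • γ₂) (fun t => by
        rw [Function.locallyFinsuppWithin.coe_zsmul, Pi.smul_apply, hγ₂, smul_eq_mul])
      (hmem γ₂ hγ₂m)
    have h3 : ChowOps.cl ζ hζm = ChowOps.cl ζ₁ hζ₁m - ChowOps.cl ζ₂ hζ₂m := by
      rw [← cl_sub]
      exact Bivar.cl_congr hdecζ.symm _ _
    rw [h3, map_sub, map_sub, h1, h2, ← cl_sub]
    refine Bivar.cl_congr ?_ _ _
    rw [← smul_sub, hdecα]
  · have hα0 : α = 0 := by
      apply DFunLike.coe_injective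
      funext t
      refine hα t ?_
      obtain ⟨n, -, hn⟩ := hδY t
      dsimp only at hn
      omega
    subst hα0
    have hζ0 : ζ = 0 := by
      apply DFunLike.coe_injective
      funext t
      rw [hζ]
      simp
    subst hζ0
    have h1 : ChowOps.cl (0 : AlgebraicCycle P ℤ) hζm = 0 := rfl
    rw [h1, map_zero, map_zero]
    exact (Bivar.cl_congr (smul_zero _) _ zero_mem).symm

theorem sum_cl {ι : Type*} (s : Finset ι) (f : ι → AlgebraicCycle Y ℤ) {m : ℤ}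
    (hf : ∀ i, f i ∈ Zk Y δY m) (H : (∑ i ∈ s, f i) ∈ Zk Y δY m) :
    ∑ i ∈ s, ChowOps.cl (f i) (hf i) = ChowOps.cl (∑ i ∈ s, f i) H := by
  classical
  induction s using Finset.induction_on with
  | empty =>
    rw [Finset.sum_empty]
    exact (Bivar.cl_congr (Finset.sum_empty) _ zero_mem).symm
  | insert i s hi ih =>
    have h1 : (∑ i ∈ s, f i) ∈ Zk Y δY m := (ChowOps.zk Y δY m).sum_mem fun i _ => hf i
    rw [Finset.sum_insert hi, ih h1, ← cl_add]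
    exact Bivar.cl_congr (Finset.sum_insert hi).symm _ _

end K930.ExtT
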