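import Groth.Agent.Bivar.K930.ExtLen
import Groth.Agent.Bivar.K930.DefoBase

/-!
# Exterior products as pushforwards of flat pullbacks
-/

set_option autoImplicit false
universe u v
open CategoryTheory AlgebraicGeometry CategoryTheory.Limits Opposite

namespace K930.ExtT

open Groth.Agent Groth.Agent.CycB K930.Chow K930.ModIso K930.PushPull K930.Gysin K930.ZeroSch
open K930.OpenImm K930.GysinComm K930.OKs K930.TestSch K930.RelDimBC K930.ClOps Cyc K930.Clopen
open K930.Squares PtClosure K930.Decomp Groth.Agent.CycB.RelDim Groth.Agent.Divis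

/-- Points generic in their fibres map to such points in a cartesian square. -/
theorem fibGeneric_of_isPullback {X Y X' Y' : Scheme.{u}} {p : X ⟶ Y} {p' : X' ⟶ Y'} {f' : X' ⟶ X}
    {f : Y' ⟶ Y} (h : IsPullback p' f' f p) {η : X'} (hη : FibGeneric p' η) :
    FibGeneric p (f' η) := by
  let e := h.isoPullback
  have he1 : e.hom ≫ pullback.fst f p = p' := h.isoPullback_hom_fst
  have he2 : e.hom ≫ pullback.snd f p = f' := h.isoPullback_hom_snd
  have h1 : FibGeneric (pullback.fst f p) (e.hom η) := by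
    intro y hy hs
    obtain ⟨y', rfl⟩ := e.hom.surjective y
    have h2 : y' = η := by
      refine hη y' ?_ ((e.hom.isOpenEmbedding.isInducing.specializes_iff).1 hs)
      rw [← he1]; exact hy
    rw [h2]
  have h2 := h1.snd
  rw [← he2]
  exact h2

theorem maximalIdeal_genericPoint (V : Scheme.{u}) [IsIntegral V] {x : V} (hx : x = genericPoint V) :
    IsLocalRing.maximalIdeal (V.presheaf.stalk x) = ⊥ := by
  subst hx
  have : IsField (V.presheaf.stalk (genericPoint V)) := by
    let _ : Field (V.presheaf.stalk (genericPoint V)) := inferInstanceAs (Field V.functionField)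
    exact Field.toIsField _
  exact IsLocalRing.isField_iff_maximalIdeal_eq.1 this

variable {X Y P P' : Scheme.{u}} (α : AlgebraicCycle Y ℤ) {q₂ : P ⟶ Y} {h' : P' ⟶ P} {r : P' ⟶ T α}
  (sq : IsPullback h' r q₂ (h α))

include sq in
theorem sq_piece (j : J α) : IsPullback (pullback.fst r (o α j) ≫ h') (pullback.snd r (o α j)) q₂
    (ptClι j.1) := by
  rw [← o_h]
  exact (IsPullback.of_hasPullback r (o α j)).paste_horiz sq

include sq in
theorem isClosedImmersion_piece (j : J α) : IsClosedImmersion (pullback.fst r (o α j) ≫ h') :=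
  MorphismProperty.of_isPullback (sq_piece α sq j).flip inferInstance

theorem exists_piece (z : P') {j : J α} {y : ptCl j.1} (hz : r z = o α j y) :
    ∃ w, pullback.fst r (o α j) w = z ∧ pullback.snd r (o α j) w = y :=
  Scheme.exists_preimage_of_isPullback (IsPullback.of_hasPullback r (o α j)) z y hz

include sq in
theorem delta_h' {δP : P → ℤ} {δP' : P' → ℤ} (hδ : DeltaCompat h' δP' δP) (z : P') :
    δP' z = δP (h' z) := by
  obtain ⟨j, y, hy⟩ := o_cov α (r z)
  obtain ⟨w, hw, -⟩ := exists_piece α z hy.symm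
  have := isClosedImmersion_piece α sq j
  obtain ⟨n, hn, hn'⟩ := hδ z
  have h1 : rtd (pullback.fst r (o α j) ≫ h') w = 0 := rtd_eq_zero_of_isPreimmersion _ _
  rw [rtd_comp, hw] at h1
  have h2 : rtd h' z = 0 := by
    have := le_trans (self_le_add_right (rtd h' z) _) h1.le
    exact le_antisymm this zero_le
  have h3 : rtd h' z = n := hn
  rw [h2] at h3
  have h4 : n = 0 := by exact_mod_cast h3.symm
  rw [hn', h4]; simp

include sq in
theorem mapCoeff_h' {δP : P → ℤ} {δP' : P' → ℤ} (hδ : DeltaCompat h' δP' δP) (z : P') :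
    AlgebraicCycle.mapCoeff h' δP' δP z = 1 := by
  refine mapCoeff_eq_one (delta_h' α sq hδ z) ?_
  obtain ⟨j, y, hy⟩ := o_cov α (r z)
  obtain ⟨w, hw, -⟩ := exists_piece α z hy.symm
  have := isClosedImmersion_piece α sq j
  have h1 := Push.residueDegree_comp (pullback.fst r (o α j)) h' w
  rw [DivNat.residueDegree_eq_one (pullback.fst r (o α j)), mul_one, hw] at h1
  rw [← h1]
  exact DivNat.residueDegree_eq_one _ _

include sq in
theorem mult_h' (q₁ : P ⟶ X) (z : P') {j : J α}
    (hz : r z = o α j (genericPoint (ptCl j.1))) :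
    FlatLength.mult (h' ≫ q₁) z = len2 q₁ q₂ (h' z) := by
  obtain ⟨w, hw, hw'⟩ := exists_piece α z hz
  have h1 := mult_piece (sq_piece α sq j) q₁ w (maximalIdeal_genericPoint _ hw')
  rw [Category.assoc, FlatLength.mult_comp, mult_open (pullback.fst r (o α j)) w, mul_one, hw] at h1
  rw [h1, Scheme.Hom.comp_apply, hw]

include sq in
theorem exists_pt (t : P) (j : J α) (hj : j.1 = q₂ t) :
    ∃ z : P', h' z = t ∧ r z = o α j (genericPoint (ptCl j.1)) :=
  Scheme.exists_preimage_of_isPullback sq t _ (by rw [o_gen, hj])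

include sq in
theorem pt_unique {z z' : P'} (e : h' z = h' z') {j : J α} {y y' : ptCl j.1}
    (hz : r z = o α j y) (hz' : r z' = o α j y') : z = z' := by
  obtain ⟨w, hw, -⟩ := exists_piece α z hz
  obtain ⟨w', hw', -⟩ := exists_piece α z' hz'
  have := isClosedImmersion_piece α sq j
  have h1 : (pullback.fst r (o α j) ≫ h') w = (pullback.fst r (o α j) ≫ h') w' := by
    rw [Scheme.Hom.comp_apply, Scheme.Hom.comp_apply, hw, hw', e]
  rw [← hw, ← hw', (pullback.fst r (o α j) ≫ h').isClosedEmbedding.injective h1]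

section Field

variable {k : Type u} [Field k] {pX : X ⟶ Spec (.of k)} {pY : Y ⟶ Spec (.of k)} {q₁ : P ⟶ X}
  [LocallyOfFiniteType pY] {δX : X → ℤ} {δY : Y → ℤ} {δP : P → ℤ} {δP' : P' → ℤ}

include sq in
theorem isPullback_T (hP : IsPullback q₁ q₂ pX pY) : IsPullback (h' ≫ q₁) r pX (h α ≫ pY) :=
  sq.paste_horiz hP

include sq in
theorem hasRelDim_T' (hP : IsPullback q₁ q₂ pX pY) (hδY : DeltaCompat pY δY (fun _ => 0)) {b : ℕ}
    (hα : α ∈ Zk Y δY b) : HasRelDim (h' ≫ q₁) b :=
  hasRelDim_of_isPullback (isPullback_T α sq hP) (hasRelDim_T α pY hδY hα)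

include sq in
/-- The pushforward of the flat pullback is the exterior product with the positive part. -/
theorem map_pull (hP : IsPullback q₁ q₂ pX pY) (hδY : DeltaCompat pY δY (fun _ => 0))
    (hδ₁ : DeltaCompat q₁ δP δX) [LocallyOfFiniteType q₁]
    (hδ' : DeltaCompat h' δP' δP) [QuasiCompact h'] [LocallyOfFiniteType h'] {b : ℕ}
    (hα : α ∈ Zk Y δY b) (u : AlgebraicCycle X ℤ) (ρ : AlgebraicCycle P' ℤ)
    (hρ : ⇑ρ = pullFun (h' ≫ q₁) δP' δX b ⇑u) (t : P) :
    AlgebraicCycle.map h' δP' δP ρ t =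
      if δP t = δX (q₁ t) + δY (q₂ t) then
        u (q₁ t) * ((α (q₂ t)).toNat : ℤ) * ((len2 q₁ q₂ t).toNat : ℤ) else 0 := by
  have hsub : Subsingleton (Spec (CommRingCat.of k)) :=
    inferInstanceAs (Subsingleton (PrimeSpectrum k))
  rw [Push.map_apply]
  choose e he he' using fun i : ULift.{u} (Fin (α (q₂ t)).toNat) => exists_pt α sq t ⟨q₂ t, i⟩ rfl
  have hinj : Function.Injective e := by
    intro i i' hii
    have h1 := he' i
    rw [hii, he' i'] at h1
    have h2 := o_disj α _ _ _ _ h1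
    exact (eq_of_heq (Sigma.mk.inj h2).2).symm
  have h1 : ∑ᶠ z ∈ {z : P' | h' z = t}, ρ z * (AlgebraicCycle.mapCoeff h' δP' δP z : ℤ) =
      ∑ᶠ z ∈ Set.range e, ρ z * (AlgebraicCycle.mapCoeff h' δP' δP z : ℤ) := by
    apply finsum_mem_inter_support_eq
    ext z
    constructor
    · rintro ⟨hz, hz'⟩
      refine ⟨?_, hz'⟩
      have h3 : ρ z ≠ 0 := left_ne_zero_of_mul hz'
      rw [hρ] at h3
      have h4 : δP' z = δX ((h' ≫ q₁) z) + b := by
        by_contra hne
        exact h3 (if_neg hne)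
      have h5 : FibGeneric (h' ≫ q₁) z :=
        (fibGeneric_iff_delta (hasRelDim_T' α sq hP hδY hα)
          (Bivar.deltaCompat_comp _ _ _ _ _ hδ' hδ₁) z).2 h4
      have h6 := fibGeneric_of_isPullback (isPullback_T α sq hP) h5
      obtain ⟨j, y, hy⟩ := o_cov α (r z)
      obtain rfl := eq_gen α h6 hy
      have h7 : j.1 = q₂ t := by
        rw [← o_gen α j, hy, ← hz, ← Scheme.Hom.comp_apply, ← Scheme.Hom.comp_apply, sq.w]
      obtain ⟨j1, j2⟩ := j
      dsimp only at h7
      subst h7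
      exact ⟨j2, pt_unique α sq ((he j2).trans hz.symm) (he' j2) hy.symm⟩
    · rintro ⟨⟨i, rfl⟩, hz'⟩
      exact ⟨he i, hz'⟩
  rw [h1, finsum_mem_range hinj]
  have h2 : ∀ i, ρ (e i) * (AlgebraicCycle.mapCoeff h' δP' δP (e i) : ℤ) =
      if δP t = δX (q₁ t) + δY (q₂ t) then u (q₁ t) * ((len2 q₁ q₂ t).toNat : ℤ) else 0 := by
    intro i
    have hb : δY (q₂ t) = b := by
      by_contra hne
      exact J_ne_zero α ⟨q₂ t, i⟩ (hα _ hne)
    rw [mapCoeff_h' α sq hδ', hρ, FlatLength.pullFun_apply, mult_h' α sq q₁ (e i) (he' i),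
      delta_h' α sq hδ', Scheme.Hom.comp_apply, he, hb]
    simp
  rw [finsum_congr h2, finsum_eq_sum_of_fintype, Finset.sum_const, Finset.card_univ,
    Fintype.card_ulift, Fintype.card_fin, nsmul_eq_mul]
  split_ifs
  · ring
  · ring

end Field

end K930.ExtT
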