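import Groth.Agent.Bivar.K930.Decomp

/-!
# The positive part of a cycle as the pushforward of a fundamental cycle
-/

set_option autoImplicit false
universe u v
open CategoryTheory AlgebraicGeometry CategoryTheory.Limits Opposite

namespace K930.ExtT

open Groth.Agent Groth.Agent.CycB K930.Chow K930.ModIso K930.PushPull K930.Gysin K930.ZeroSch
open K930.OpenImm K930.GysinComm K930.OKs K930.TestSch K930.RelDimBC K930.ClOps Cyc K930.Clopen
open K930.Squares PtClosure K930.Decomp Groth.Agent.CycB.RelDim

variable {Y : Scheme.{u}} {δ : Y → ℤ} (α : AlgebraicCycle Y ℤ)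

/-- Every point with positive coefficient, repeated according to its coefficient. -/
abbrev J : Type u := Σ y : Y, ULift.{u} (Fin (α y).toNat)

theorem J_ne_zero (j : J α) : α j.1 ≠ 0 := by
  intro h
  have h1 : (α j.1).toNat = 0 := by rw [h]; rfl
  have h2 := j.2.down.2
  omega

theorem locallyFinite_J : LocallyFinite fun j : J α => closure {j.1} := by
  intro x
  obtain ⟨t, ht, hfin⟩ := α.supportLocallyFiniteWithinDomain' x (by trivial)
  obtain ⟨U, hU, hUo, hx⟩ := mem_nhds_iff.1 ht
  refine ⟨U, hUo.mem_nhds hx, ?_⟩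
  refine (hfin.preimage' (f := fun j : J α => j.1) fun y _ => ?_).subset ?_
  · refine (Set.finite_range (fun i : ULift.{u} (Fin (α y).toNat) => (⟨y, i⟩ : J α))).subset ?_
    rintro ⟨z, i⟩ (rfl : z = y)
    exact ⟨i, rfl⟩
  · rintro j ⟨z, hz, hzU⟩
    obtain ⟨w, hw, hw'⟩ := mem_closure_iff.1 hz U hUo hzU
    rw [Set.mem_singleton_iff] at hw'
    subst hw'
    exact ⟨hU hw, J_ne_zero α j⟩

/-- The disjoint union. -/
noncomputable def T : Scheme.{u} := ∐ (fun j : J α => ptCl j.1)

/-- The inclusion of a member. -/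
noncomputable def o (j : J α) : ptCl j.1 ⟶ T α := Sigma.ι (fun j : J α => ptCl j.1) j

/-- The map to `Y`. -/
noncomputable def h : T α ⟶ Y := Sigma.desc fun j : J α => ptClι j.1

theorem o_h (j : J α) : o α j ≫ h α = ptClι j.1 := Sigma.ι_desc _ _

theorem o_disj (a b : J α) (x : ptCl a.1) (y : ptCl b.1) (e : o α a x = o α b y) : a = b :=
  sigma_disj (fun a : J α => ptCl a.1) a b x y e

theorem o_cov (x : T α) : ∃ a y, o α a y = x := sigma_cov (fun a : J α => ptCl a.1) x

instance (a : J α) : IsOpenImmersion (o α a) :=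
  inferInstanceAs (IsOpenImmersion (Sigma.ι (fun a : J α => ptCl a.1) a))

instance isProper_h : IsProper (h α) := by
  have : IsFinite (h α) := by
    refine SigmaLF.isFinite_sigmaDesc _ ?_
    simp only [range_ptClι]
    exact locallyFinite_J α
  infer_instance

theorem o_h_apply (a : J α) (x : ptCl a.1) : h α (o α a x) = ptClι a.1 x := by
  rw [← Scheme.Hom.comp_apply, o_h]

theorem o_gen (a : J α) : h α (o α a (genericPoint (ptCl a.1))) = a.1 := by
  rw [o_h_apply, ptClι_genericPoint]

theorem delta_T {δT : T α → ℤ} (hδ : DeltaCompat (h α) δT δ) (x : T α) : δT x = δ (h α x) := by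
  obtain ⟨a, y, rfl⟩ := o_cov α x
  have h1 : DeltaCompat (o α a) (fun x => δT (o α a x)) δT := deltaCompat_stalk _
  have h2 : DeltaCompat (ptClι a.1) (fun x => δT (o α a x)) δ :=
    deltaCompat_congr (o_h α a) (Bivar.deltaCompat_comp _ _ _ _ _ h1 hδ)
  have := congrFun (deltaCompat_eq_comp _ h2) y
  rw [o_h_apply]
  exact this

/-- The generic points of the members are generic in the fibres. -/
theorem eq_gen {Z : Scheme.{u}} {g : T α ⟶ Z} [Subsingleton Z] {z : T α} (hz : FibGeneric g z)
    {a : J α} {y : ptCl a.1} (e : o α a y = z) : y = genericPoint (ptCl a.1) := by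
  have h1 : o α a (genericPoint (ptCl a.1)) ⤳ z := by
    rw [← e]
    exact ((genericPoint_spec (ptCl a.1)).specializes trivial).map (o α a).continuous
  have h2 := hz _ (Subsingleton.elim _ _) h1
  rw [← e] at h2
  exact ((o α a).isOpenEmbedding.injective h2).symm

/-- The structure map to the spectrum of a field has constant relative dimension. -/
theorem hasRelDim_T {k : Type u} [Field k] (pY : Y ⟶ Spec (.of k)) [LocallyOfFiniteType pY]
    (hδ : DeltaCompat pY δ (fun _ => 0)) {b : ℕ} (hα : α ∈ Zk Y δ b) :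
    HasRelDim (h α ≫ pY) b := by
  rw [hasRelDim_iff]
  intro z hz
  have hsub : Subsingleton (Spec (CommRingCat.of k)) :=
    inferInstanceAs (Subsingleton (PrimeSpectrum k))
  obtain ⟨a, y, rfl⟩ := o_cov α z
  obtain rfl := eq_gen α hz rfl
  obtain ⟨δT, hδT⟩ := SetupLft.exists_deltaCompat (h α) δ
  obtain ⟨n, hn, hn'⟩ := (Bivar.deltaCompat_comp _ _ _ _ _ hδT hδ)
    (o α a (genericPoint (ptCl a.1)))
  have h1 : δT (o α a (genericPoint (ptCl a.1))) = b := by
    rw [delta_T α hδT, o_gen]
    by_contra hne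
    exact J_ne_zero α a (hα _ hne)
  rw [h1, zero_add] at hn'
  obtain rfl : b = n := by exact_mod_cast hn'
  exact hn

end K930.ExtT
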