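import Groth.Agent.Bivar.K930.Chow
import Groth.Agent.S1855
import Groth.Agent.S1857
import Groth.Agent.S1858
import Groth.Agent.CycB.FlatRat
import Groth.Agent.CycB.GenLocFin
import Groth.Agent.CycB.GysinFib
import Groth.Agent.CycB.SetupLft

/-!
# Proper pushforward and flat pullback on the Chow groups of the prelude
-/

set_option autoImplicit false
universe u v
open CategoryTheory AlgebraicGeometry CategoryTheory.Limits

namespace K930.PushPull

open Groth.Agent Groth.Agent.CycB K930.Chow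

variable {X Y Z : Scheme.{u}} {δX : X → ℤ} {δY : Y → ℤ} {δZ : Z → ℤ}

/-! ### Setups -/

theorem setup_of (f : X ⟶ Y) [LocallyOfFiniteType f] (hY : Cyc.IsSetup Y δY)
    (hδ : Cyc.DeltaCompat f δX δY) : Cyc.IsSetup X δX := SetupLft.isSetup_of_deltaCompat f hY hδ

/-- If the composite and the second map are compatible with the dimension functions, and the
first map is locally of finite type, so is the first map. -/
theorem deltaCompat_of_comp (f : X ⟶ Y) (g : Y ⟶ Z) [LocallyOfFiniteType f]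
    (h : Cyc.DeltaCompat (f ≫ g) δX δZ) (hg : Cyc.DeltaCompat g δY δZ) :
    Cyc.DeltaCompat f δX δY := by
  obtain ⟨δ', h'⟩ := SetupLft.exists_deltaCompat f δY
  have := SetupLft.deltaCompat_unique (Bivar.deltaCompat_comp f g δ' δY δZ h' hg) h
  rwa [← this]

theorem deltaCompat_congr {f g : X ⟶ Y} (e : f = g) (h : Cyc.DeltaCompat f δX δY) :
    Cyc.DeltaCompat g δX δY := e ▸ h

/-- In a cartesian (or just commutative) square with compatible dimension functions on three sides,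
the fourth side is compatible. -/
theorem deltaCompat_of_comm {W : Scheme.{u}} {δW : W → ℤ} {a : W ⟶ X} {b : W ⟶ Y} {f : X ⟶ Z}
    {g : Y ⟶ Z} [LocallyOfFiniteType b] (e : a ≫ f = b ≫ g) (ha : Cyc.DeltaCompat a δW δX)
    (hf : Cyc.DeltaCompat f δX δZ) (hg : Cyc.DeltaCompat g δY δZ) : Cyc.DeltaCompat b δW δY :=
  deltaCompat_of_comp b g (deltaCompat_congr e (Bivar.deltaCompat_comp a f _ _ _ ha hf)) hg

theorem deltaCompat_eq_comp (i : X ⟶ Y) [IsClosedImmersion i] (h : Cyc.DeltaCompat i δX δY) :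
    δX = fun x => δY (i x) :=
  SetupLft.deltaCompat_unique h (GysinFib.deltaCompat_closedImmersion i δY)

theorem deltaCompat_closed (i : X ⟶ Y) [IsClosedImmersion i] :
    Cyc.DeltaCompat i (fun x => δY (i x)) δY := GysinFib.deltaCompat_closedImmersion i δY

theorem deltaCompat_stalk (i : X ⟶ Y) [SurjectiveOnStalks i] :
    Cyc.DeltaCompat i (fun x => δY (i x)) δY := GysinFib.deltaCompat_closedImmersion i δY

/-! ### Pushforward -/

/-- Proper pushforward on Chow groups. -/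
noncomputable def pushCH (f : X ⟶ Y) [IsProper f] (hY : Cyc.IsSetup Y δY)
    (hδ : Cyc.DeltaCompat f δX δY) (k : ℤ) : ChowOps.CH X δX k →+ ChowOps.CH Y δY k :=
  mkHom (fun α _ => AlgebraicCycle.map f δX δY α)
    (fun _ hα => Bivar.cycMap_mem_Zk f δX δY k hα)
    (fun α β _ _ _ => by rw [Bivar.cycMap_add]; exact DivFun.ratEquiv_refl _)
    (fun α hα h => by
      have := S1855.result X Y δX δY (setup_of f hY hδ) hY f hδ k α 0 hα zero_mem
        (DivFun.ratEquiv_zero_iff.2 h)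
      rw [Bivar.cycMap_zero] at this
      exact DivFun.ratEquiv_zero_iff.1 this)

theorem pushCH_cl (f : X ⟶ Y) [IsProper f] (hY : Cyc.IsSetup Y δY)
    (hδ : Cyc.DeltaCompat f δX δY) (k : ℤ) (α : AlgebraicCycle X ℤ) (hα : α ∈ Cyc.Zk X δX k) :
    pushCH f hY hδ k (ChowOps.cl α hα) =
      ChowOps.cl (AlgebraicCycle.map f δX δY α) (Bivar.cycMap_mem_Zk f δX δY k hα) := rfl

/-- Weight-flexible form of the class of a pushforward. -/
theorem pushCH_cl' (f : X ⟶ Y) [IsProper f] (hY : Cyc.IsSetup Y δY)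
    (hδ : Cyc.DeltaCompat f δX δY) (k : ℤ) (α : AlgebraicCycle X ℤ) (hα : α ∈ Cyc.Zk X δX k)
    (β : AlgebraicCycle Y ℤ) (hβ : β ∈ Cyc.Zk Y δY k) (e : AlgebraicCycle.map f δX δY α = β) :
    pushCH f hY hδ k (ChowOps.cl α hα) = ChowOps.cl β hβ := by
  subst e; rfl

theorem pushCH_congr {f g : X ⟶ Y} [IsProper f] [IsProper g] (e : f = g) (hY : Cyc.IsSetup Y δY)
    (hf : Cyc.DeltaCompat f δX δY) (hg : Cyc.DeltaCompat g δX δY) (k : ℤ) :
    pushCH f hY hf k = pushCH g hY hg k := by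
  subst e; rfl

theorem pushCH_comp (f : X ⟶ Y) (g : Y ⟶ Z) [IsProper f] [IsProper g] (hY : Cyc.IsSetup Y δY)
    (hZ : Cyc.IsSetup Z δZ) (hf : Cyc.DeltaCompat f δX δY) (hg : Cyc.DeltaCompat g δY δZ)
    (hfg : Cyc.DeltaCompat (f ≫ g) δX δZ) (k : ℤ) (x : ChowOps.CH X δX k) :
    pushCH g hZ hg k (pushCH f hY hf k x) = pushCH (f ≫ g) hZ hfg k x := by
  obtain ⟨α, hα, rfl⟩ := Bivar.exists_rep x
  rw [pushCH_cl, pushCH_cl, pushCH_cl]
  exact Bivar.cl_congr (Push.map_map δX δY δZ f g hf hg α) _ _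

theorem pushCH_chCast {k l : ℤ} (e : k = l) (f : X ⟶ Y) [IsProper f] (hY : Cyc.IsSetup Y δY)
    (hδ : Cyc.DeltaCompat f δX δY) (x : ChowOps.CH X δX k) :
    pushCH f hY hδ l (Bivar.chCast X δX e x) = Bivar.chCast Y δY e (pushCH f hY hδ k x) := by
  subst e; rfl

/-! ### Flat pullback -/

/-- The condition on dimension functions for a flat pullback of relative dimension `c`. -/
def Shift (f : X ⟶ Y) (δX : X → ℤ) (δY : Y → ℤ) (c : ℤ) : Prop :=
  ∀ x : X, (∀ y : X, f y = f x → y ⤳ x → y = x) → δX x = δY (f x) + c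

theorem shift_of_hasRelDim {f : X ⟶ Y} [LocallyOfFiniteType f] {r : ℕ} (hr : Cyc.HasRelDim f r)
    (hδ : Cyc.DeltaCompat f δX δY) : Shift f δX δY r :=
  fun x hx => (RelDim.fibGeneric_iff_delta hr hδ x).1 hx

theorem exists_pull (f : X ⟶ Y) [Flat f] (hX : Cyc.IsSetup X δX) {c : ℤ}
    (hc : Shift f δX δY c) (α : AlgebraicCycle Y ℤ) :
    ∃ β : AlgebraicCycle X ℤ, ⇑β = Cyc.pullFun f δX δY c ⇑α :=
  have := hX.1
  GenLocFin.exists_pullFun_cycle f c hX.2.2 hc α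

/-- Flat pullback of cycles. -/
noncomputable def pullCyc (f : X ⟶ Y) [Flat f] (hX : Cyc.IsSetup X δX) {c : ℤ}
    (hc : Shift f δX δY c) (α : AlgebraicCycle Y ℤ) : AlgebraicCycle X ℤ :=
  (exists_pull f hX hc α).choose

theorem pullCyc_coe (f : X ⟶ Y) [Flat f] (hX : Cyc.IsSetup X δX) {c : ℤ}
    (hc : Shift f δX δY c) (α : AlgebraicCycle Y ℤ) :
    ⇑(pullCyc f hX hc α) = Cyc.pullFun f δX δY c ⇑α := (exists_pull f hX hc α).choose_spec

theorem eq_pullCyc (f : X ⟶ Y) [Flat f] (hX : Cyc.IsSetup X δX) {c : ℤ}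
    (hc : Shift f δX δY c) {α : AlgebraicCycle Y ℤ} {β : AlgebraicCycle X ℤ}
    (h : ⇑β = Cyc.pullFun f δX δY c ⇑α) : β = pullCyc f hX hc α :=
  DFunLike.coe_injective (by rw [h, pullCyc_coe])

theorem pullCyc_mem (f : X ⟶ Y) [Flat f] (hX : Cyc.IsSetup X δX) {c : ℤ}
    (hc : Shift f δX δY c) {α : AlgebraicCycle Y ℤ} {k l : ℤ} (hl : l = k + c)
    (hα : α ∈ Cyc.Zk Y δY k) : pullCyc f hX hc α ∈ Cyc.Zk X δX l := by
  subst hl
  exact GenLocFin.pullFun_mem_Zk f hα (pullCyc_coe f hX hc α)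

theorem pullFun_mem {f : X ⟶ Y} {c : ℤ} {α : AlgebraicCycle Y ℤ} {β : AlgebraicCycle X ℤ}
    (h : ⇑β = Cyc.pullFun f δX δY c ⇑α) {k l : ℤ} (hl : l = k + c)
    (hα : α ∈ Cyc.Zk Y δY k) : β ∈ Cyc.Zk X δX l := by
  subst hl
  exact GenLocFin.pullFun_mem_Zk f hα h

/-- Flat pullback on Chow groups. -/
noncomputable def pullCH (f : X ⟶ Y) [Flat f] (hX : Cyc.IsSetup X δX) (hY : Cyc.IsSetup Y δY)
    {c : ℤ} (hc : Shift f δX δY c) {k l : ℤ} (hl : l = k + c) :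
    ChowOps.CH Y δY k →+ ChowOps.CH X δX l :=
  mkHom (fun α _ => pullCyc f hX hc α) (fun _ hα => pullCyc_mem f hX hc hl hα)
    (fun α β _ _ _ => by
      apply DivFun.ratEquiv_of_eq
      intro x
      rw [pullCyc_coe, Function.locallyFinsuppWithin.coe_add, Function.locallyFinsuppWithin.coe_add,
        Bivar.pullFun_add, Pi.add_apply, Pi.add_apply, pullCyc_coe, pullCyc_coe])
    (fun α hα h => by
      subst hl
      exact FlatRat.ratEquivZero_pull f δY δX hY hX c hc k α h _ (pullCyc_coe f hX hc α))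

theorem pullCH_cl (f : X ⟶ Y) [Flat f] (hX : Cyc.IsSetup X δX) (hY : Cyc.IsSetup Y δY)
    {c : ℤ} (hc : Shift f δX δY c) {k l : ℤ} (hl : l = k + c) (α : AlgebraicCycle Y ℤ)
    (hα : α ∈ Cyc.Zk Y δY k) (β : AlgebraicCycle X ℤ) (h : ⇑β = Cyc.pullFun f δX δY c ⇑α)
    (hβ : β ∈ Cyc.Zk X δX l) :
    pullCH f hX hY hc hl (ChowOps.cl α hα) = ChowOps.cl β hβ := by
  obtain rfl := eq_pullCyc f hX hc h
  rfl

theorem pullCH_cl' (f : X ⟶ Y) [Flat f] (hX : Cyc.IsSetup X δX) (hY : Cyc.IsSetup Y δY)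
    {c : ℤ} (hc : Shift f δX δY c) {k l : ℤ} (hl : l = k + c) (α : AlgebraicCycle Y ℤ)
    (hα : α ∈ Cyc.Zk Y δY k) :
    pullCH f hX hY hc hl (ChowOps.cl α hα) = ChowOps.cl (pullCyc f hX hc α)
      (pullCyc_mem f hX hc hl hα) := rfl

theorem pullCH_congr {f g : X ⟶ Y} [Flat f] [Flat g] (e : f = g) (hX : Cyc.IsSetup X δX)
    (hY : Cyc.IsSetup Y δY) {c : ℤ} (hf : Shift f δX δY c) (hg : Shift g δX δY c) {k l : ℤ}
    (hl : l = k + c) : pullCH f hX hY hf hl = pullCH g hX hY hg hl := by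
  subst e; rfl

theorem pullCH_chCast (f : X ⟶ Y) [Flat f] (hX : Cyc.IsSetup X δX) (hY : Cyc.IsSetup Y δY)
    {c : ℤ} (hc : Shift f δX δY c) {k k' l l' : ℤ} (hl : l = k + c) (hl' : l' = k' + c)
    (e : k = k') (e' : l = l') (x : ChowOps.CH Y δY k) :
    pullCH f hX hY hc hl' (Bivar.chCast Y δY e x) =
      Bivar.chCast X δX e' (pullCH f hX hY hc hl x) := by
  subst e e'; rfl

/-- Composition of flat pullbacks. -/
theorem pullCH_comp (f : X ⟶ Y) (g : Y ⟶ Z) [Flat f] [Flat g] [LocallyOfFiniteType f]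
    [LocallyOfFiniteType g] (hX : Cyc.IsSetup X δX) (hY : Cyc.IsSetup Y δY)
    (hZ : Cyc.IsSetup Z δZ) {r s : ℕ} (hr : Cyc.HasRelDim f r) (hs : Cyc.HasRelDim g s)
    (hf : Cyc.DeltaCompat f δX δY) (hg : Cyc.DeltaCompat g δY δZ) {c : ℤ} (e : c = (r : ℤ) + s)
    (hc : Shift (f ≫ g) δX δZ c) {k l m : ℤ}
    (hl : l = k + s) (hm : m = l + r) (hm' : m = k + c) (x : ChowOps.CH Z δZ k) :
    pullCH f hX hY (shift_of_hasRelDim hr hf) hm (pullCH g hY hZ (shift_of_hasRelDim hs hg) hl x) =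
      pullCH (f ≫ g) hX hZ hc hm' x := by
  subst e
  obtain ⟨α, hα, rfl⟩ := Bivar.exists_rep x
  rw [pullCH_cl', pullCH_cl']
  symm
  apply pullCH_cl
  rw [pullCyc_coe, pullCyc_coe]
  exact (S1857.result X Y Z δX δY δZ hX hY hZ f g r s hr hs hf hg k).2 α hα

theorem hasRelDim_comp (f : X ⟶ Y) (g : Y ⟶ Z) [Flat f] [Flat g] [LocallyOfFiniteType f]
    [LocallyOfFiniteType g] (hX : Cyc.IsSetup X δX) (hY : Cyc.IsSetup Y δY)
    (hZ : Cyc.IsSetup Z δZ) {r s : ℕ} (hr : Cyc.HasRelDim f r) (hs : Cyc.HasRelDim g s)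
    (hf : Cyc.DeltaCompat f δX δY) (hg : Cyc.DeltaCompat g δY δZ) :
    Cyc.HasRelDim (f ≫ g) (r + s) :=
  (S1857.result X Y Z δX δY δZ hX hY hZ f g r s hr hs hf hg 0).1

/-- Proper pushforward commutes with flat pullback in a cartesian square. -/
theorem pullCH_pushCH {X' Y' : Scheme.{u}} {δX' : X' → ℤ} {δY' : Y' → ℤ} {f' : X' ⟶ Y'}
    {q : X' ⟶ X} {p : Y' ⟶ Y} {f : X ⟶ Y} (h : IsPullback f' q p f) [IsProper f] [IsProper f']
    [Flat p] [Flat q]
    (hX : Cyc.IsSetup X δX) (hY : Cyc.IsSetup Y δY) (hX' : Cyc.IsSetup X' δX')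
    (hY' : Cyc.IsSetup Y' δY') (hf : Cyc.DeltaCompat f δX δY) (hf' : Cyc.DeltaCompat f' δX' δY')
    {c : ℤ} (hp : Shift p δY' δY c) (hq : Shift q δX' δX c) {k l : ℤ} (hl : l = k + c)
    (x : ChowOps.CH X δX k) :
    pullCH p hY' hY hp hl (pushCH f hY hf k x) = pushCH f' hY' hf' l (pullCH q hX' hX hq hl x) := by
  obtain ⟨α, hα, rfl⟩ := Bivar.exists_rep x
  rw [pullCH_cl', pushCH_cl, pushCH_cl]
  apply pullCH_cl
  exact (FlatProper.pullFun_map_eq h δY δY' δX δX' hf hf' c hp α _ (pullCyc_coe q hX' hq α)).symm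

end K930.PushPull
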