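import Groth.Agent.Bivar.K930.ModIso
import Groth.Agent.Bivar.K930.PushPull
import Groth.Agent.CycB.GysinCap
import Groth.Agent.S1929

/-!
# The Gysin map of a zero scheme on the Chow groups of the prelude
-/

set_option autoImplicit false
universe u v
open CategoryTheory AlgebraicGeometry CategoryTheory.Limits Opposite

namespace K930.Gysin

open Groth.Agent Groth.Agent.CycB K930.Chow K930.ModIso K930.PushPull
open Groth.Agent.CycB.ModStalk Groth.Agent.CycB.C1Basic Groth.Agent.CycB.C1Pull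
open Groth.Agent.CycB.GysinCl Groth.Agent.CycB.StalkExact Cyc

variable {X D : Scheme.{u}} {i : D ⟶ X} {L L' : X.Modules}
  {σ : L.presheaf.obj (op ⊤)} {σ' : L'.presheaf.obj (op ⊤)} {δ : X → ℤ} {k l : ℤ}

/-- Outside the zero scheme, the divisors of two sections with the same zero scheme agree along the
zero scheme. -/
theorem secDivFun_gysinChoice_eq (hL : PicF.IsInvertible L) (hL' : PicF.IsInvertible L')
    (hσ : IsZeroSchemeOf i L σ) (hσ' : IsZeroSchemeOf i L' σ') (δ : X → ℤ)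
    (w : (ξ : X) → secFibre L ξ) (w' : (ξ : X) → secFibre L' ξ) {ξ : X} (hξ : ξ ∉ Set.range ⇑i)
    (d : D) : secDivFun δ L ξ (gysinChoice L σ w ξ) (i d) =
      secDivFun δ L' ξ (gysinChoice L' σ' w' ξ) (i d) := by
  have h0 : val L σ ξ ≠ 0 := fun h => hξ ((mem_range_iff hσ ξ).2 h)
  have h0' : val L' σ' ξ ≠ 0 := fun h => hξ ((mem_range_iff hσ' ξ).2 h)
  rw [gysinChoice_of_ne σ w h0, gysinChoice_of_ne σ' w' h0']
  unfold secDivFun
  split_ifs with h
  · obtain ⟨t, f, ht, hs, hk⟩ := hσ.2 d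
    obtain ⟨t', f', ht', hs', hk'⟩ := hσ'.2 d
    have ht := isGen_of_span_eq_top hL ht
    have ht' := isGen_of_span_eq_top hL' ht'
    rw [secOrdAt_val hL σ h.1 ht hs h0, secOrdAt_val hL' σ' h.1 ht' hs' h0']
    exact ordAt_specMap_eq_of_span_eq h.1 (hk.symm.trans hk')
      ((val_ne_zero_iff_specMap hL σ h.1 ht hs).1 h0)
  · rfl

/-- Change of sections on a closed subscheme: if the sections have the same divisors outside the
closed subscheme, and their modules have isomorphic restrictions to it, the caps read on the closed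
subscheme are rationally equivalent there. -/
theorem ratEquiv_change [IsClosedImmersion i] (hL : PicF.IsInvertible L)
    (hL' : PicF.IsInvertible L')
    (e : (Scheme.Modules.pullback i).obj L ≅ (Scheme.Modules.pullback i).obj L')
    (α : AlgebraicCycle X ℤ) (hα : α ∈ Zk X δ (k + 1)) {s : (ξ : X) → secFibre L ξ}
    {s' : (ξ : X) → secFibre L' ξ} (hs : ∀ ξ, s ξ ≠ 0) (hs' : ∀ ξ, s' ξ ≠ 0)
    (hout : ∀ ξ, ξ ∉ Set.range ⇑i → ∀ d, secDivFun δ L ξ (s ξ) (i d) =
      secDivFun δ L' ξ (s' ξ) (i d)) (ζ ζ' : AlgebraicCycle D ℤ)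
    (hζ : ∀ d, ζ d = c1CapFun δ L ⇑α s (i d)) (hζ' : ∀ d, ζ' d = c1CapFun δ L' ⇑α s' (i d)) :
    RatEquiv (fun d => δ (i d)) k ζ ζ' := by
  have hLi := isInvertible_pullback i hL
  have hLi' := isInvertible_pullback i hL'
  have hinj : Function.Injective ⇑i := i.isClosedEmbedding.injective
  have key : ∀ d : D, ∃ a : D.residueField d, a ≠ 0 ∧
      secDivFun (fun d => δ (i d)) ((Scheme.Modules.pullback i).obj L') d
        (fibHom e.hom d (fib i L d (s (i d)))) =
      divFun (fun d => δ (i d)) d a + secDivFun (fun d => δ (i d))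
        ((Scheme.Modules.pullback i).obj L') d (fib i L' d (s' (i d))) := fun d =>
    exists_secDivFun_eq_add hLi' _ (fib_ne_zero i hL' (hs' (i d)))
      (fibHom_ne_zero e d (fib_ne_zero i hL (hs (i d))))
  choose a ha ha' using key
  have key2 : ∀ d x : D, secDivFun δ L (i d) (s (i d)) (i x) =
      divFun (fun d => δ (i d)) d (a d) x + secDivFun δ L' (i d) (s' (i d)) (i x) := by
    intro d x
    rw [← secDivFun_fib i hL δ d x (hs (i d)), ← secDivFun_fib i hL' δ d x (hs' (i d)),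
      ← secDivFun_fibHom e hLi hLi' _ (fib_ne_zero i hL (hs (i d))), ha' d, Pi.add_apply]
  refine DivFun.ratEquivZero_of (ι := {d : D // α (i d) ≠ 0}) (fun d => d.1)
    (fun d => a d.1 ^ α (i d.1)) (fun d => ?_) (fun d => zpow_ne_zero _ (ha d.1))
    (DivFun.locFin_support (RatTransport.comapCycle i hinj α)) _ fun x => ?_
  · by_contra h
    exact d.2 (hα _ h)
  · rw [Function.locallyFinsuppWithin.coe_sub, Pi.sub_apply, hζ, hζ', C1Cap.c1CapFun_apply,
      C1Cap.c1CapFun_apply, ← finsum_sub_distrib (C1Cap.finite_support_c1 α _ s)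
        (C1Cap.finite_support_c1 α _ s')]
    have h1 : ∀ d : {d : D // α (i d) ≠ 0},
        divFun (fun d => δ (i d)) d.1 (a d.1 ^ α (i d.1)) x =
        α (i d.1) * secDivFun δ L (i d.1) (s (i d.1)) (i x) -
          α (i d.1) * secDivFun δ L' (i d.1) (s' (i d.1)) (i x) := by
      intro d
      rw [OrdFrac.divFun_zpow, Pi.smul_apply, smul_eq_mul, key2]
      ring
    rw [finsum_congr h1, RatTransport.finsum_subtype_eq
      (fun d : D => α (i d) ≠ 0)
      (fun d => α (i d) * secDivFun δ L (i d) (s (i d)) (i x) -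
          α (i d) * secDivFun δ L' (i d) (s' (i d)) (i x))
      (fun z hz => by rw [not_not] at hz; rw [hz]; ring)]
    refine (GysinCap.finsum_eq_comp ⇑i hinj (fun ξ =>
      α ξ * secDivFun δ L ξ (s ξ) (i x) - α ξ * secDivFun δ L' ξ (s' ξ) (i x)) ?_)
    intro ξ hξ
    rw [hout ξ hξ x, sub_self]

theorem exists_gys [IsClosedImmersion i] (hX : IsSetup X δ) (hL : PicF.IsInvertible L)
    (α : AlgebraicCycle X ℤ) {s : (ξ : X) → secFibre L ξ} (hs : ∀ ξ, s ξ ≠ 0) :
    ∃ γ : AlgebraicCycle D ℤ, ∀ d, γ d = c1CapFun δ L ⇑α s (i d) := by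
  have := hX.1
  obtain ⟨γ, hγ⟩ := CapComm.exists_cycle_c1CapFun hX.2.2 hL α hs
  refine ⟨RatTransport.comapCycle i i.isClosedEmbedding.injective γ, fun d => ?_⟩
  rw [RatTransport.comapCycle_apply, hγ]

/-- A nowhere zero family of rational sections of an invertible module. -/
noncomputable def nz (hL : PicF.IsInvertible L) : (ξ : X) → secFibre L ξ :=
  (CapComm.exists_nonzero hL).choose

theorem nz_ne_zero (hL : PicF.IsInvertible L) (ξ : X) : nz hL ξ ≠ 0 :=
  (CapComm.exists_nonzero hL).choose_spec ξ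

/-- The Gysin cycle. -/
noncomputable def gysCyc (i : D ⟶ X) [IsClosedImmersion i] (hX : IsSetup X δ)
    (hL : PicF.IsInvertible L) (σ : L.presheaf.obj (op ⊤)) (α : AlgebraicCycle X ℤ) :
    AlgebraicCycle D ℤ :=
  (exists_gys (i := i) hX hL α (gysinChoice_ne_zero σ (nz_ne_zero hL))).choose

theorem gysCyc_apply [IsClosedImmersion i] (hX : IsSetup X δ)
    (hL : PicF.IsInvertible L) (σ : L.presheaf.obj (op ⊤)) (α : AlgebraicCycle X ℤ) (d : D) :
    gysCyc i hX hL σ α d = c1CapFun δ L ⇑α (gysinChoice L σ (nz hL)) (i d) :=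
  (exists_gys (i := i) hX hL α (gysinChoice_ne_zero σ (nz_ne_zero hL))).choose_spec d

theorem gys_mem [IsClosedImmersion i] {δD : D → ℤ} (hi : DeltaCompat i δD δ)
    (hl : k = l + 1) {α : AlgebraicCycle X ℤ} (hα : α ∈ Zk X δ k) {s : (ξ : X) → secFibre L ξ}
    {γ : AlgebraicCycle D ℤ} (hγ : ∀ d, γ d = c1CapFun δ L ⇑α s (i d)) : γ ∈ Zk D δD l := by
  subst hl
  obtain rfl := deltaCompat_eq_comp i hi
  intro d hd
  rw [hγ]
  exact CapComm.c1CapFun_eq_zero_of_ne _ hα s hd

/-- The Gysin map on Chow groups. -/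
noncomputable def gysCH (i : D ⟶ X) [IsClosedImmersion i] (hX : IsSetup X δ) {δD : D → ℤ}
    (hi : DeltaCompat i δD δ) (hL : PicF.IsInvertible L) (hσ : IsZeroSchemeOf i L σ)
    (hl : k = l + 1) : ChowOps.CH X δ k →+ ChowOps.CH D δD l :=
  mkHom (fun α _ => gysCyc i hX hL σ α)
    (fun α hα => gys_mem hi hl hα (gysCyc_apply hX hL σ α))
    (fun α β _ _ _ => by
      apply DivFun.ratEquiv_of_eq
      intro d
      rw [gysCyc_apply, Function.locallyFinsuppWithin.coe_add, Function.locallyFinsuppWithin.coe_add,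
        Bivar.c1CapFun_add, Pi.add_apply, Pi.add_apply, gysCyc_apply, gysCyc_apply])
    (fun α hα h => by
      subst hl
      obtain rfl := deltaCompat_eq_comp i hi
      exact S1929.result X D δ hX L hL σ i hσ l α hα h (nz hL) (nz_ne_zero hL) _
        (gysCyc_apply hX hL σ α))

/-- The Gysin class may be computed with any nowhere zero fallback, and even with any other
section with the same zero scheme of a module with isomorphic restriction. -/
theorem gysCH_cl_iso [IsClosedImmersion i] (hX : IsSetup X δ) {δD : D → ℤ}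
    (hi : DeltaCompat i δD δ) (hL : PicF.IsInvertible L) (hσ : IsZeroSchemeOf i L σ)
    (hL' : PicF.IsInvertible L') (hσ' : IsZeroSchemeOf i L' σ')
    (e : (Scheme.Modules.pullback i).obj L ≅ (Scheme.Modules.pullback i).obj L')
    (hl : k = l + 1) (α : AlgebraicCycle X ℤ) (hα : α ∈ Zk X δ k)
    (w : (ξ : X) → secFibre L' ξ) (hw : ∀ ξ, w ξ ≠ 0) (γ : AlgebraicCycle D ℤ)
    (hγ : ∀ d, γ d = c1CapFun δ L' ⇑α (gysinChoice L' σ' w) (i d)) (hγm : γ ∈ Zk D δD l) :
    gysCH i hX hi hL hσ hl (ChowOps.cl α hα) = ChowOps.cl γ hγm := by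
  subst hl
  obtain rfl := deltaCompat_eq_comp i hi
  exact (cl_eq_cl _ _).2 (ratEquiv_change hL hL' e α hα (gysinChoice_ne_zero σ (nz_ne_zero hL))
    (gysinChoice_ne_zero σ' hw) (fun ξ hξ d => secDivFun_gysinChoice_eq hL hL' hσ hσ' δ _ _ hξ d)
    _ _ (gysCyc_apply hX hL σ α) hγ)

theorem gysCH_cl [IsClosedImmersion i] (hX : IsSetup X δ) {δD : D → ℤ}
    (hi : DeltaCompat i δD δ) (hL : PicF.IsInvertible L) (hσ : IsZeroSchemeOf i L σ)
    (hl : k = l + 1) (α : AlgebraicCycle X ℤ) (hα : α ∈ Zk X δ k)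
    (w : (ξ : X) → secFibre L ξ) (hw : ∀ ξ, w ξ ≠ 0) (γ : AlgebraicCycle D ℤ)
    (hγ : ∀ d, γ d = c1CapFun δ L ⇑α (gysinChoice L σ w) (i d)) (hγm : γ ∈ Zk D δD l) :
    gysCH i hX hi hL hσ hl (ChowOps.cl α hα) = ChowOps.cl γ hγm :=
  gysCH_cl_iso hX hi hL hσ hL hσ (Iso.refl _) hl α hα w hw γ hγ hγm

theorem gysCH_cl' [IsClosedImmersion i] (hX : IsSetup X δ) {δD : D → ℤ}
    (hi : DeltaCompat i δD δ) (hL : PicF.IsInvertible L) (hσ : IsZeroSchemeOf i L σ)
    (hl : k = l + 1) (α : AlgebraicCycle X ℤ) (hα : α ∈ Zk X δ k) :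
    gysCH i hX hi hL hσ hl (ChowOps.cl α hα) = ChowOps.cl (gysCyc i hX hL σ α)
      (gys_mem hi hl hα (gysCyc_apply hX hL σ α)) := rfl

/-- The Gysin map only depends on the closed immersion and the restriction of the module to it. -/
theorem gysCH_indep [IsClosedImmersion i] (hX : IsSetup X δ) {δD : D → ℤ}
    (hi : DeltaCompat i δD δ) (hL : PicF.IsInvertible L) (hσ : IsZeroSchemeOf i L σ)
    (hL' : PicF.IsInvertible L') (hσ' : IsZeroSchemeOf i L' σ')
    (e : (Scheme.Modules.pullback i).obj L ≅ (Scheme.Modules.pullback i).obj L')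
    (hl : k = l + 1) : gysCH (k := k) i hX hi hL hσ hl = gysCH i hX hi hL' hσ' hl :=
  hom_ext fun α hα => gysCH_cl_iso hX hi hL hσ hL' hσ' e hl α hα _ (nz_ne_zero hL') _
    (gysCyc_apply hX hL' σ' α) _

theorem gysCH_chCast [IsClosedImmersion i] (hX : IsSetup X δ) {δD : D → ℤ}
    (hi : DeltaCompat i δD δ) (hL : PicF.IsInvertible L) (hσ : IsZeroSchemeOf i L σ)
    {k k' l l' : ℤ} (hl : k = l + 1) (hl' : k' = l' + 1) (e : k = k') (e' : l = l')
    (x : ChowOps.CH X δ k) : gysCH i hX hi hL hσ hl' (Bivar.chCast X δ e x) =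
      Bivar.chCast D δD e' (gysCH i hX hi hL hσ hl x) := by
  subst e e'; rfl

end K930.Gysin
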