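import Groth.Agent.Bivar.K930.PushPull

/-!
# Flat pullback along open immersions and isomorphisms
-/

set_option autoImplicit false
universe u v
open CategoryTheory AlgebraicGeometry CategoryTheory.Limits Opposite

namespace K930.OpenImm

open Groth.Agent Groth.Agent.CycB K930.Chow K930.PushPull
open Cyc

variable {U X Y : Scheme.{u}} {δU : U → ℤ} {δX : X → ℤ} {δY : Y → ℤ}

theorem mult_open (j : U ⟶ X) [IsOpenImmersion j] (x : U) : FlatLength.mult j x = 1 := by
  unfold FlatLength.mult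
  have hs : Function.Surjective (j.stalkMap x).hom :=
    (ConcreteCategory.bijective_of_isIso (j.stalkMap x)).2
  rw [IsLocalRing.map_maximalIdeal_of_surjective _ hs]
  have : IsSimpleModule (U.presheaf.stalk x)
      (U.presheaf.stalk x ⧸ IsLocalRing.maximalIdeal (U.presheaf.stalk x)) :=
    isSimpleModule_iff_isCoatom.2 (IsLocalRing.maximalIdeal.isMaximal _).out
  exact Module.length_eq_one _ _

theorem deltaCompat_eq (j : U ⟶ X) [IsOpenImmersion j] (h : DeltaCompat j δU δX) :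
    δU = fun x => δX (j x) :=
  SetupLft.deltaCompat_unique h (deltaCompat_stalk j)

theorem shift_open (j : U ⟶ X) [IsOpenImmersion j] (h : DeltaCompat j δU δX) :
    Shift j δU δX 0 := fun x _ => by rw [deltaCompat_eq j h, add_zero]

theorem rtd_open (j : U ⟶ X) [IsOpenImmersion j] (x : U) : RelDim.rtd j x = 0 :=
  RelDim.rtd_eq_zero_of_surjective j x
    (RelDim.residueFieldMap_surjective_of_stalkMap j x
      (ConcreteCategory.bijective_of_isIso (j.stalkMap x)).2)

theorem hasRelDim_open (j : U ⟶ X) [IsOpenImmersion j] : HasRelDim j 0 := by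
  rw [RelDim.hasRelDim_iff]
  intro x _
  rw [rtd_open]; rfl

theorem pullFun_open (j : U ⟶ X) [IsOpenImmersion j] (h : DeltaCompat j δU δX) (α : X → ℤ) (x : U) :
    pullFun j δU δX 0 α x = α (j x) := by
  rw [FlatLength.pullFun_apply, mult_open, if_pos (by rw [deltaCompat_eq j h, add_zero])]
  simp

theorem pullCyc_open (j : U ⟶ X) [IsOpenImmersion j] (hU : IsSetup U δU) (h : DeltaCompat j δU δX)
    (hc : Shift j δU δX 0) (α : AlgebraicCycle X ℤ) (x : U) : pullCyc j hU hc α x = α (j x) := by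
  rw [pullCyc_coe, pullFun_open j h]

/-- Pullback along the composite with an open immersion, pointwise. -/
theorem pullFun_open_comp (j : U ⟶ X) [IsOpenImmersion j] (h : DeltaCompat j δU δX) (f : X ⟶ Y)
    (c : ℤ) (α : Y → ℤ) (x : U) : pullFun (j ≫ f) δU δY c α x = pullFun f δX δY c α (j x) := by
  obtain rfl := deltaCompat_eq j h
  rw [FlatLength.pullFun_apply, FlatLength.pullFun_apply, FlatLength.mult_comp, mult_open j, mul_one]
  rfl

theorem map_iso_apply {X' : Scheme.{u}} (e : X' ⟶ X) [IsIso e] {δ' : X' → ℤ} {δ : X → ℤ}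
    (h : DeltaCompat e δ' δ)
    (α : AlgebraicCycle X' ℤ) (x : X') : AlgebraicCycle.map e δ' δ α (e x) = α x := by
  apply DivNat.map_apply_of_isPreimmersion
  rw [deltaCompat_eq e h]

/-- Pushing forward along an isomorphism undoes the pullback. -/
theorem pushCH_iso_pullCH_comp {X' : Scheme.{u}} {δX' : X' → ℤ} (e : X' ⟶ X) [IsIso e] (f : X ⟶ Y)
    [Flat f] (hX' : IsSetup X' δX') (hX : IsSetup X δX) (hY : IsSetup Y δY)
    (he : DeltaCompat e δX' δX) {c : ℤ} (hf : Shift f δX δY c) (hef : Shift (e ≫ f) δX' δY c)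
    {k l : ℤ} (hl : l = k + c) (y : ChowOps.CH Y δY k) :
    pushCH e hX he l (pullCH (e ≫ f) hX' hY hef hl y) = pullCH f hX hY hf hl y := by
  obtain ⟨α, hα, rfl⟩ := Bivar.exists_rep y
  rw [pullCH_cl', pushCH_cl]
  symm
  apply pullCH_cl
  funext x
  obtain ⟨x', rfl⟩ := e.surjective x
  rw [map_iso_apply e he, pullCyc_coe, pullFun_open_comp e he]

theorem shift_comp_iso {X' : Scheme.{u}} {δX' : X' → ℤ} (e : X' ⟶ X) [IsIso e] (f : X ⟶ Y)
    (he : DeltaCompat e δX' δX) {c : ℤ} (hf : Shift f δX δY c) : Shift (e ≫ f) δX' δY c := by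
  intro x hx
  rw [deltaCompat_eq e he]
  refine hf (e x) fun y hy hs => ?_
  obtain ⟨y', rfl⟩ := e.surjective y
  rw [hx y' hy]
  exact (e.isOpenEmbedding.isInducing.specializes_iff).1 hs

theorem deltaCompat_inv {X' : Scheme.{u}} {δX' : X' → ℤ} (e : X' ⟶ X) [IsIso e]
    (he : DeltaCompat e δX' δX) : DeltaCompat (inv e) δX δX' := by
  refine deltaCompat_of_comp (inv e) e ?_ he
  rw [IsIso.inv_hom_id]
  exact Bivar.deltaCompat_id δX

theorem pushCH_id (hX : IsSetup X δX) (h : DeltaCompat (𝟙 X) δX δX) (k : ℤ)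
    (x : ChowOps.CH X δX k) : pushCH (𝟙 X) hX h k x = x := by
  obtain ⟨α, hα, rfl⟩ := Bivar.exists_rep x
  rw [pushCH_cl]
  refine Bivar.cl_congr ?_ _ _
  apply DFunLike.coe_injective
  funext x
  exact map_iso_apply (𝟙 X) h α x

theorem pushCH_inv {X' : Scheme.{u}} {δX' : X' → ℤ} (e : X' ⟶ X) [IsIso e]
    (hX' : IsSetup X' δX') (hX : IsSetup X δX)
    (he : DeltaCompat e δX' δX) (k : ℤ) (x : ChowOps.CH X' δX' k) :
    pushCH (inv e) hX' (deltaCompat_inv e he) k (pushCH e hX he k x) = x := by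
  rw [pushCH_comp e (inv e) hX hX' he _ (deltaCompat_congr (IsIso.hom_inv_id e).symm
    (Bivar.deltaCompat_id δX')), pushCH_congr (IsIso.hom_inv_id e) hX' _ (Bivar.deltaCompat_id δX'),
    pushCH_id]

theorem pushCH_iso_injective {X' : Scheme.{u}} {δX' : X' → ℤ} (e : X' ⟶ X) [IsIso e]
    (hX' : IsSetup X' δX') (hX : IsSetup X δX)
    (he : DeltaCompat e δX' δX) (k : ℤ) : Function.Injective (pushCH e hX he k) :=
  Function.LeftInverse.injective (pushCH_inv e hX' hX he k)

theorem pushCH_iso_bijective {X' : Scheme.{u}} {δX' : X' → ℤ} (e : X' ⟶ X) [IsIso e]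
    (hX' : IsSetup X' δX') (hX : IsSetup X δX)
    (he : DeltaCompat e δX' δX) (k : ℤ) : Function.Bijective (pushCH e hX he k) := by
  refine ⟨pushCH_iso_injective e hX' hX he k, fun x => ⟨pushCH (inv e) hX' (deltaCompat_inv e he) k x, ?_⟩⟩
  rw [pushCH_comp (inv e) e hX' hX _ he (deltaCompat_congr (IsIso.inv_hom_id e).symm
    (Bivar.deltaCompat_id δX)), pushCH_congr (IsIso.inv_hom_id e) hX _ (Bivar.deltaCompat_id δX),
    pushCH_id]

/-- Pullback along the identity. -/
theorem pullCH_id (hX : IsSetup X δX) (hc : Shift (𝟙 X) δX δX 0) {k : ℤ} (hk : k = k + 0)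
    (x : ChowOps.CH X δX k) : pullCH (𝟙 X) hX hX hc hk x = x := by
  obtain ⟨α, hα, rfl⟩ := Bivar.exists_rep x
  apply pullCH_cl
  funext x
  rw [pullFun_open (𝟙 X) (Bivar.deltaCompat_id δX)]
  rfl

/-- `pushCH e` and `pullCH e` are inverse to each other, for an isomorphism `e`. -/
theorem pushCH_pullCH_iso {X' : Scheme.{u}} {δX' : X' → ℤ} (e : X' ⟶ X) [IsIso e]
    (hX' : IsSetup X' δX') (hX : IsSetup X δX)
    (he : DeltaCompat e δX' δX) (hc : Shift e δX' δX 0) {k : ℤ} (hk : k = k + 0)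
    (x : ChowOps.CH X δX k) :
    pushCH e hX he k (pullCH e hX' hX hc hk x) = x := by
  obtain ⟨α, hα, rfl⟩ := Bivar.exists_rep x
  rw [pullCH_cl', pushCH_cl]
  refine Bivar.cl_congr ?_ _ _
  apply DFunLike.coe_injective
  funext x
  obtain ⟨x', rfl⟩ := e.surjective x
  rw [map_iso_apply e he, pullCyc_open e hX' he]

end K930.OpenImm
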