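import Groth.Agent.Bivar.K930.ZeroSch
import Groth.Agent.Bivar.K930.OpenImm

/-!
# The Gysin map and flat pullback, and other Gysin maps
-/

set_option autoImplicit false
universe u v
open CategoryTheory AlgebraicGeometry CategoryTheory.Limits Opposite

namespace K930.GysinComm

open Groth.Agent Groth.Agent.CycB K930.Chow K930.ModIso K930.PushPull K930.Gysin K930.ZeroSch
open K930.OpenImm
open Groth.Agent.CycB.ModStalk Groth.Agent.CycB.C1Basic Groth.Agent.CycB.C1Pull
open Groth.Agent.CycB.GysinCl Groth.Agent.CycB.StalkExact Cyc Groth.Agent.Divis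

variable {X X' D D' : Scheme.{u}}

/-- **Gysin maps commute with flat pullback**, for a general cartesian square. -/
theorem gysCH_pullCH {f : X' ⟶ X} [Flat f] {i : D ⟶ X} [IsClosedImmersion i] {i' : D' ⟶ X'}
    [IsClosedImmersion i'] {g : D' ⟶ D} [Flat g] (h : IsPullback i' g f i)
    {δ : X → ℤ} {δ' : X' → ℤ} {δD : D → ℤ} {δD' : D' → ℤ} (hX : IsSetup X δ)
    (hX' : IsSetup X' δ') (hD : IsSetup D δD) (hD' : IsSetup D' δD')
    (hi : DeltaCompat i δD δ) (hi' : DeltaCompat i' δD' δ') {c : ℤ}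
    (hf : Shift f δ' δ c) (hg : Shift g δD' δD c)
    {L : X.Modules} {L' : X'.Modules} (hL : PicF.IsInvertible L)
    (hL' : PicF.IsInvertible L') {σ : L.presheaf.obj (op ⊤)} {σ' : L'.presheaf.obj (op ⊤)}
    (hσ : IsZeroSchemeOf i L σ) (hσ' : IsZeroSchemeOf i' L' σ')
    (e : (Scheme.Modules.pullback f).obj L ≅ L')
    {k l m n : ℤ} (hl : k = l + 1) (hm : m = k + c) (hn : n = l + c) (hmn : m = n + 1)
    (x : ChowOps.CH X δ k) :
    gysCH i' hX' hi' hL' hσ' hmn (pullCH f hX' hX hf hm x) =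
      pullCH g hD' hD hg hn (gysCH i hX hi hL hσ hl x) := by
  subst hl hm hn
  have := hX.1
  have := hX'.1
  have hD0 := deltaCompat_eq_comp i hi
  have hD'0 := deltaCompat_eq_comp i' hi'
  subst hD0 hD'0
  have hLf := isInvertible_pullback f hL
  -- replace the module and the section
  have hσ'' := isZeroSchemeOf_pullSec h hL hσ
  rw [gysCH_indep hX' hi' hL' hσ' hLf hσ'' ((Scheme.Modules.pullback i').mapIso e.symm) hmn]
  -- replace the scheme
  let P := pullback f i
  let e' : D' ⟶ P := h.isoPullback.hom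
  have he' : e' ≫ pullback.fst f i = i' := h.isoPullback_hom_fst
  have he'2 : e' ≫ pullback.snd f i = g := h.isoPullback_hom_snd
  have hi1 : DeltaCompat (pullback.fst f i) (fun z => δ' (pullback.fst f i z)) δ' :=
    deltaCompat_closed _
  have hde : DeltaCompat e' (fun x => δ' (i' x)) (fun z => δ' (pullback.fst f i z)) := by
    refine deltaCompat_of_comp e' (pullback.fst f i) ?_ hi1
    exact deltaCompat_congr he'.symm hi'
  have hP : IsSetup P (fun z => δ' (pullback.fst f i z)) := setup_of (pullback.fst f i) hX' hi1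
  have hσP := isZeroSchemeOf_pullSec_fst f i hL hσ
  have hgP : Shift (pullback.snd f i) (fun z => δ' (pullback.fst f i z)) (fun d => δ (i d)) c := by
    intro z hz
    obtain ⟨z', rfl⟩ := e'.surjective z
    have h1 : δ' (pullback.fst f i (e' z')) = δ' (i' z') := by rw [← he']; rfl
    have h2 : pullback.snd f i (e' z') = g z' := by rw [← he'2]; rfl
    beta_reduce
    rw [h1, h2]
    refine hg z' fun y hy hs => ?_
    refine e'.isOpenEmbedding.injective (hz (e' y) ?_ (hs.map e'.continuous))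
    rw [h2, ← hy, ← he'2]; rfl
  apply pushCH_iso_injective e' hD' hP hde
  rw [pushCH_iso_gysCH e' he' hX' hP hi1 hi' hde hLf hσP hσ'' hmn]
  have hge : Shift (e' ≫ pullback.snd f i) (fun x => δ' (i' x)) (fun d => δ (i d)) c := by
    rw [he'2]; exact hg
  rw [pullCH_congr he'2.symm hD' hD hg hge, pushCH_iso_pullCH_comp e' (pullback.snd f i) hD' hP hD
    hde hgP hge]
  obtain ⟨α, hα, rfl⟩ := Bivar.exists_rep x
  rw [pullCH_cl', gysCH_cl', gysCH_cl', pullCH_cl', cl_eq_cl]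
  have := GysinFlat.ratEquiv_gysin f c hX.2.2 hX'.2.2 hf hL hσ hσP l α hα (nz hL) (nz_ne_zero hL)
    (nz hLf) (nz_ne_zero hLf) (gysCyc (pullback.fst f i) hX' hLf _ (pullCyc f hX' hf α))
    (pullCyc (pullback.snd f i) hP hgP (gysCyc i hX hL σ α))
    (fun z => by rw [gysCyc_apply, pullCyc_coe])
    (by
      rw [pullCyc_coe]
      congr 1
      funext d
      rw [gysCyc_apply])
  exact this

/-- **Gysin maps commute with Gysin maps.** -/
theorem gysCH_gysCH {W D₁ D₂ : Scheme.{u}} {i : D₁ ⟶ X} [IsClosedImmersion i] {i' : D₂ ⟶ X}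
    [IsClosedImmersion i'] {j : W ⟶ D₁} {j' : W ⟶ D₂} [IsClosedImmersion j] [IsClosedImmersion j']
    (h : IsPullback j j' i i') {δ : X → ℤ} {δ₁ : D₁ → ℤ} {δ₂ : D₂ → ℤ} {δW : W → ℤ}
    (hX : IsSetup X δ) (h₁ : IsSetup D₁ δ₁) (h₂ : IsSetup D₂ δ₂)
    (hi : DeltaCompat i δ₁ δ) (hi' : DeltaCompat i' δ₂ δ) (hj : DeltaCompat j δW δ₁)
    (hj' : DeltaCompat j' δW δ₂)
    {L L' : X.Modules} {M₁ : D₁.Modules} {M₂ : D₂.Modules} (hL : PicF.IsInvertible L)
    (hL' : PicF.IsInvertible L') (hM₁ : PicF.IsInvertible M₁) (hM₂ : PicF.IsInvertible M₂)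
    {σ : L.presheaf.obj (op ⊤)} {σ' : L'.presheaf.obj (op ⊤)} {τ₁ : M₁.presheaf.obj (op ⊤)}
    {τ₂ : M₂.presheaf.obj (op ⊤)}
    (hσ : IsZeroSchemeOf i L σ) (hσ' : IsZeroSchemeOf i' L' σ') (hτ₁ : IsZeroSchemeOf j M₁ τ₁)
    (hτ₂ : IsZeroSchemeOf j' M₂ τ₂)
    (e₁ : (Scheme.Modules.pullback i).obj L' ≅ M₁) (e₂ : (Scheme.Modules.pullback i').obj L ≅ M₂)
    {k l l' m : ℤ} (hl : k = l + 1) (hl' : k = l' + 1) (hm : l = m + 1) (hm' : l' = m + 1)
    (x : ChowOps.CH X δ k) :
    gysCH j h₁ hj hM₁ hτ₁ hm (gysCH i hX hi hL hσ hl x) =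
      gysCH j' h₂ hj' hM₂ hτ₂ hm' (gysCH i' hX hi' hL' hσ' hl' x) := by
  have h11 := deltaCompat_eq_comp i hi
  have h12 := deltaCompat_eq_comp i' hi'
  have h13 := deltaCompat_eq_comp j hj
  subst h11 h12 h13
  have hLi' := isInvertible_pullback i hL'
  have hLi := isInvertible_pullback i' hL
  -- replace the modules and the sections
  have hτ₁' := isZeroSchemeOf_pullSec h hL' hσ'
  have hτ₂' := isZeroSchemeOf_pullSec h.flip hL hσ
  rw [gysCH_indep h₁ hj hM₁ hτ₁ hLi' hτ₁' ((Scheme.Modules.pullback j).mapIso e₁.symm) hm,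
    gysCH_indep h₂ hj' hM₂ hτ₂ hLi hτ₂' ((Scheme.Modules.pullback j').mapIso e₂.symm) hm']
  -- replace the scheme
  let P := pullback i i'
  let e' : W ⟶ P := h.isoPullback.hom
  have he' : e' ≫ pullback.fst i i' = j := h.isoPullback_hom_fst
  have he'2 : e' ≫ pullback.snd i i' = j' := h.isoPullback_hom_snd
  have hf1 : DeltaCompat (pullback.fst i i') (fun z => δ (i (pullback.fst i i' z)))
    (fun d => δ (i d)) := deltaCompat_closed (δY := fun d => δ (i d)) _
  have hg1 : DeltaCompat (pullback.snd i i') (fun z => δ (i (pullback.fst i i' z)))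
    (fun d => δ (i' d)) := deltaCompat_of_comm pullback.condition hf1 (deltaCompat_closed i) (deltaCompat_closed i')
  have hde : DeltaCompat e' (fun x => δ (i (j x))) (fun z => δ (i (pullback.fst i i' z))) := by
    refine deltaCompat_of_comp e' (pullback.fst i i') ?_ hf1
    exact deltaCompat_congr he'.symm hj
  have hP : IsSetup P (fun z => δ (i (pullback.fst i i' z))) := setup_of (pullback.fst i i') h₁ hf1
  have hσP := isZeroSchemeOf_pullSec (IsPullback.of_hasPullback i i') hL' hσ'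
  have hσP2 := isZeroSchemeOf_pullSec (IsPullback.of_hasPullback i i').flip hL hσ
  apply pushCH_iso_injective e' (setup_of j h₁ hj) hP hde
  rw [pushCH_iso_gysCH e' he' h₁ hP hf1 hj hde hLi' hσP hτ₁' hm,
    pushCH_iso_gysCH e' he'2 h₂ hP hg1 hj' hde hLi hσP2 hτ₂' hm']
  obtain ⟨α, hα, rfl⟩ := Bivar.exists_rep x
  rw [gysCH_cl', gysCH_cl', gysCH_cl', gysCH_cl', cl_eq_cl]
  have hm2 : m = k - 2 := by omega
  subst hm2
  refine S1931.result X D₁ D₂ δ hX L L' hL hL' σ σ' i i' hσ hσ' _ hσP _ hσP2 k α hα (nz hL)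
    (nz_ne_zero hL) (nz hL') (nz_ne_zero hL') (nz hLi') (nz_ne_zero hLi') (nz hLi) (nz_ne_zero hLi)
    (fun d => Cyc.c1CapFun δ L ⇑α (Cyc.gysinChoice L σ (nz hL)) (i d)) rfl
    (fun d => Cyc.c1CapFun δ L' ⇑α (Cyc.gysinChoice L' σ' (nz hL')) (i' d)) rfl _ _ ?_ ?_
  · intro z
    rw [gysCyc_apply]
    congr 2
    funext d
    rw [gysCyc_apply]
  · intro z
    rw [gysCyc_apply]
    congr 2
    funext d
    rw [gysCyc_apply]

end K930.GysinComm
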