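import Groth.Agent.Bivar.K930.KronOp

/-!
# The Kronecker functional of the operational class attached to a functional
-/

set_option autoImplicit false
universe u v
open CategoryTheory AlgebraicGeometry CategoryTheory.Limits Opposite

namespace K930.Kron

open Groth.Agent Groth.Agent.CycB K930.Chow K930.ModIso K930.PushPull K930.Gysin K930.ZeroSch
open K930.OpenImm K930.GysinComm K930.OKs K930.TestSch K930.RelDimBC K930.ClOps Cyc K930.ExtT
open Groth.Agent.CycB.ModStalk Groth.Agent.CycB.C1Basic Groth.Agent.CycB.C1Pull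
open Groth.Agent.CycB.GysinCl Groth.Agent.CycB.StalkExact Groth.Agent.Divis

variable {k : Type u} [Field k]

section Deg

variable {Y : Scheme.{u}} {pY : Y ⟶ Spec (.of k)} [IsProper pY] {δY : Y → ℤ}

/-- The degree is invariant under rational equivalence. -/
theorem deg_ratEquivZero (hY : IsSetup Y δY) (hδY : DeltaCompat pY δY (fun _ => 0)) {l : ℤ}
    {α : AlgebraicCycle Y ℤ} (hα : α ∈ Zk Y δY l) (h : RatEquivZero δY l α) :
    ChowOps.deg pY δY α = 0 := by
  by_cases hl : l = 0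
  · subst hl
    have h1 := S1855.result Y _ δY (fun _ => 0) hY (SetupDVR.isSetup_spec_field k) pY hδY 0 α 0 hα
      zero_mem (DivFun.ratEquiv_zero_iff.2 h)
    rw [Bivar.cycMap_zero] at h1
    obtain ⟨ι, ξ, f, h2, -, -, h5⟩ := DivFun.ratEquiv_zero_iff.1 h1
    have hι : IsEmpty ι := ⟨fun i => absurd (h2 i) (by norm_num)⟩
    have h6 := h5 (IsLocalRing.closedPoint k)
    rw [finsum_of_isEmpty] at h6
    exact h6
  · exact deg_eq_zero hl α hα

variable (pY) in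
/-- The degree on Chow groups. -/
noncomputable def degHom (hY : IsSetup Y δY) (hδY : DeltaCompat pY δY (fun _ => 0)) (l : ℤ) :
    ChowOps.CH Y δY l →+ ℤ :=
  QuotientAddGroup.lift (ChowOps.ratTriv Y δY l)
    (AddMonoidHom.mk' (fun a : ↥(ChowOps.zk Y δY l) => ChowOps.deg pY δY a.1) (fun a b => by
      change ChowOps.deg pY δY (a.1 + b.1) = _
      unfold ChowOps.deg
      rw [Bivar.cycMap_add]
      rfl))
    (fun a ha => deg_ratEquivZero hY hδY a.2 (mem_ratTriv.1 ha))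

theorem degHom_cl (hY : IsSetup Y δY) (hδY : DeltaCompat pY δY (fun _ => 0)) (l : ℤ)
    (α : AlgebraicCycle Y ℤ) (hα : α ∈ Zk Y δY l) :
    degHom pY hY hδY l (ChowOps.cl α hα) = ChowOps.deg pY δY α := rfl

end Deg

variable {X : Scheme.{u}} {pX : X ⟶ Spec (.of k)} {δX : X → ℤ}

/-- Pushing an exterior product forward to the first factor. -/
theorem push_E [LocallyOfFiniteType pX] (F : Fr pX δX) [IsProper F.pY] [IsProper F.q₁]
    (hX : IsSetup X δX) (hδX : DeltaCompat pX δX (fun _ => 0)) {n : ℕ} (u : AlgebraicCycle X ℤ)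
    (hu : u ∈ Zk X δX n) (hu0 : ∀ x, 0 ≤ u x) {l m : ℤ} (hm : m = l + n)
    (β : AlgebraicCycle F.Y ℤ) (hβ : β ∈ Zk F.Y F.δY l)
    (hγ : ChowOps.deg F.pY F.δY β • u ∈ Zk X δX m) :
    pushCH F.q₁ hX F.hδ₁ m (E F u hδX hu hm (ChowOps.cl β hβ)) =
      ChowOps.cl (ChowOps.deg F.pY F.δY β • u) hγ := by
  have hS := SetupDVR.isSetup_spec_field k
  obtain ⟨δT, hδT⟩ := SetupLft.exists_deltaCompat (h u) δX
  have hT : IsSetup (T u) δT := setup_of (h u) hX hδT
  have hprr : IsProper (pullback.snd F.q₁ (h u)) :=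
    MorphismProperty.of_isPullback (sqT F u) inferInstance
  have hδr : DeltaCompat (pullback.snd F.q₁ (h u)) (δQ F u) δT :=
    deltaCompat_of_comm (sqQ F u).w (hδQ F u) F.hδ₁ hδT
  have hδ2 : DeltaCompat (h u ≫ pX) δT (fun _ => 0) := Bivar.deltaCompat_comp _ _ _ _ _ hδT hδX
  have hrT : HasRelDim (h u ≫ pX) n := hasRelDim_T u pX hδX hu
  have hs2 := shift_of_hasRelDim hrT hδ2
  rw [E_apply, pushCH_comp (qf F u) F.q₁ F.hP hX (hδQ F u) F.hδ₁
    (Bivar.deltaCompat_comp _ _ _ _ _ (hδQ F u) F.hδ₁)]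
  rw [pushCH_congr (sqQ F u).w hX _ (Bivar.deltaCompat_comp _ _ _ _ _ hδr hδT),
    ← pushCH_comp _ (h u) hT hX hδr hδT]
  have h4 := pullCH_pushCH (sqT F u).flip F.hY hS (hQ F u) hT F.hδY hδr hs2 (shiftQ F u hδX hu)
    hm (ChowOps.cl β hβ)
  rw [← h4, pushCH_cl, pullCH_cl']
  apply pushCH_cl'
  apply DFunLike.coe_injective
  funext t
  have hsub : Subsingleton (Spec (CommRingCat.of k)) :=
    inferInstanceAs (Subsingleton (PrimeSpectrum k))
  rw [map_h u hδX hδT hu _ _ (pullCyc_coe _ _ _ _) t, Int.toNat_of_nonneg (hu0 t),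
    Function.locallyFinsuppWithin.coe_zsmul, Pi.smul_apply, smul_eq_mul, ChowOps.deg,
    Subsingleton.elim (pX t) (IsLocalRing.closedPoint k)]

variable {p : ℤ} (φ : ChowOps.CH X δX p →+ ℤ)

/-- The functional applied to the pushforward to `X`. -/
theorem deg_Phi [LocallyOfFiniteType pX] {F : Fr pX δX} (K : Kap F) [IsProper F.pY]
    [IsProper F.q₁] (hX : IsSetup X δX) (hδX : DeltaCompat pX δX (fun _ => 0))
    (w : ChowOps.CH F.P F.δP p) :
    degHom F.pY F.hY F.hδY (p - p) (K.Phi φ p w) = φ (pushCH F.q₁ hX F.hδ₁ p w) := by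
  have h : (degHom F.pY F.hY F.hδY (p - p)).comp (K.Phi φ p) =
      φ.comp (pushCH F.q₁ hX F.hδ₁ p) := by
    refine K.ext hδX fun n u hu hu0 y => ?_
    change degHom F.pY F.hY F.hδY (p - p) (K.Phi φ p (K.κ n p (ChowOps.cl u hu) y)) =
      φ (pushCH F.q₁ hX F.hδ₁ p (K.κ n p (ChowOps.cl u hu) y))
    obtain ⟨β, hβ, rfl⟩ := Bivar.exists_rep y
    by_cases hn : (n : ℤ) = p
    · subst hn
      have hγ : ChowOps.deg F.pY F.δY β • u ∈ Zk X δX n := zsmul_mem hu _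
      rw [K.Phi_kap, K.kap_E hδX u hu hu0 _ (by omega), push_E F hX hδX u hu hu0 _ β hβ hγ,
        map_zsmul, degHom_cl]
      have h1 : ChowOps.cl (ChowOps.deg F.pY F.δY β • u) hγ =
        ChowOps.deg F.pY F.δY β • ChowOps.cl u hu := rfl
      rw [h1, map_zsmul, smul_eq_mul, smul_eq_mul, mul_comm]
    · have hd : ChowOps.deg F.pY F.δY β = 0 := deg_eq_zero (by omega) β hβ
      have hγ : ChowOps.deg F.pY F.δY β • u ∈ Zk X δX p := by
        rw [hd, zero_smul]; exact zero_mem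
      rw [K.Phi_kap_ne _ _ hn, K.kap_E hδX u hu hu0 _ (by omega),
        push_E F hX hδX u hu hu0 _ β hβ hγ, map_zero]
      have h1 : ChowOps.cl (ChowOps.deg F.pY F.δY β • u) hγ = 0 :=
        (Bivar.cl_congr (by rw [hd, zero_smul]) _ zero_mem : _ = ChowOps.cl 0 _)
      rw [h1, map_zero]
  exact congr($h w)

section

variable [IsProper pX] (hX : IsSetup X δX) (hδX : DeltaCompat pX δX (fun _ => 0))
  (K : ∀ s : Bivar.OSq X δX, Kap (fr hX hδX s))

/-- The Kronecker functional of the class. -/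
theorem kopCl_kron (α : AlgebraicCycle X ℤ) (hα : α ∈ Zk X δX p) (β : AlgebraicCycle X ℤ)
    (hβ : β ∈ Zk X δX (p - p))
    (h : (kopCl hX hδX K φ).cap p (ChowOps.cl α hα) = ChowOps.cl β hβ) :
    φ (ChowOps.cl α hα) = ChowOps.deg pX δX β := by
  let s := Bivar.OSq.self X δX
  have hpY : IsProper (fr hX hδX s).pY := inferInstanceAs (IsProper (𝟙 X ≫ pX))
  have hq₁ : IsProper (fr hX hδX s).q₁ :=
    MorphismProperty.of_isPullback (fr hX hδX s).sq.flip inferInstance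
  have h1 := deg_Phi φ (K s) hX hδX (pushCH (gr hX hδX s) (fr hX hδX s).hP (delta_gr hX hδX s) p
    (ChowOps.cl α hα))
  have h2 : (K s).Phi φ p (pushCH (gr hX hδX s) (fr hX hδX s).hP (delta_gr hX hδX s) p
    (ChowOps.cl α hα)) = ChowOps.cl β hβ := h
  rw [h2] at h1
  have h3 : pushCH (fr hX hδX s).q₁ hX (fr hX hδX s).hδ₁ p
      (pushCH (gr hX hδX s) (fr hX hδX s).hP (delta_gr hX hδX s) p (ChowOps.cl α hα)) =
      ChowOps.cl α hα := by
    rw [pushCH_comp (gr hX hδX s) (fr hX hδX s).q₁ (fr hX hδX s).hP hX (delta_gr hX hδX s)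
      (fr hX hδX s).hδ₁ (Bivar.deltaCompat_comp _ _ _ _ _ (delta_gr hX hδX s)
        (fr hX hδX s).hδ₁), pushCH_congr (gr_fst hX hδX s) hX _ (Bivar.deltaCompat_id δX)]
    exact pushCH_id hX _ _ _
  rw [h3] at h1
  rw [← h1]
  change ChowOps.deg (𝟙 X ≫ pX) δX β = _
  have e : 𝟙 X ≫ pX = pX := Category.id_comp _
  unfold ChowOps.deg
  congr 1

/-- An operational class is determined by its Kronecker functional. -/
theorem op_eq_kop (c : Bivar.OpCl p X δX)
    (hc : ∀ (α : AlgebraicCycle X ℤ) (hα : α ∈ Cyc.Zk X δX p)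
      (β : AlgebraicCycle X ℤ) (hβ : β ∈ Cyc.Zk X δX (p - p)),
      c.cap p (ChowOps.cl α hα) = ChowOps.cl β hβ → φ (ChowOps.cl α hα) = ChowOps.deg pX δX β)
    (s : Bivar.OSq X δX) (m : ℤ) : c.op s m = kop hX hδX K φ s m := by
  have hq₂ : IsProper (fr hX hδX s).q₂ :=
    MorphismProperty.of_isPullback (fr hX hδX s).sq inferInstance
  have hlY : LocallyOfFiniteType (fr hX hδX s).pY := lft_struct s
  let sP : Bivar.OSq X δX := ⟨(fr hX hδX s).P, (fr hX hδX s).q₁, lft_fst s, (fr hX hδX s).δP,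
    (fr hX hδX s).hδ₁⟩
  have key : (pushCH (fr hX hδX s).q₂ (fr hX hδX s).hY (fr hX hδX s).hδ₂ (m - p)).comp
      (c.op sP m) = (K s).Phi φ m := by
    refine (K s).ext hδX fun n u hu hu0 y => ?_
    change pushCH (fr hX hδX s).q₂ (fr hX hδX s).hY (fr hX hδX s).hδ₂ (m - p)
      (c.op sP m ((K s).κ n m (ChowOps.cl u hu) y)) = _
    obtain ⟨β₀, hβ₀, rfl⟩ := Bivar.exists_rep y
    obtain ⟨ζ, hζm, -, hζ⟩ := E_cl (fr hX hδX s) u hδX hu (by omega : m = m - n + n) hu0 β₀ hβ₀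
    have hκ := (K s).hκ n m u hu β₀ hβ₀ ζ hζm hζ
    obtain ⟨β, hβ, hcβ⟩ := Bivar.exists_rep (c.cap n (ChowOps.cl u hu))
    obtain ⟨hγ, e⟩ := push_op c (fr hX hδX s).sq hX (fr hX hδX s).hY (fr hX hδX s).hP hδX
      (fr hX hδX s).hδY (lft_fst s) (fr hX hδX s).hδ₁ (fr hX hδX s).hδ₂ β₀ hβ₀ u hu ζ hζm hζ β hβ
      hcβ.symm
    rw [hκ]
    refine e.trans ?_
    rw [← hκ]
    by_cases hn : (n : ℤ) = p
    · subst hn
      rw [(K s).Phi_kap, hc u hu β hβ hcβ.symm]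
      rfl
    · rw [(K s).Phi_kap_ne _ _ hn]
      have hd : ChowOps.deg pX δX β = 0 := deg_eq_zero (by omega) β hβ
      exact (Bivar.cl_congr (by rw [hd, zero_smul]) hγ zero_mem :
        ChowOps.cl (ChowOps.deg pX δX β • β₀) hγ = ChowOps.cl 0 _)
  refine AddMonoidHom.ext fun x => ?_
  rw [kop_apply, ← key]
  have h1 := opCl_push c hX (s := sP) (t := s) (h := gr hX hδX s) (gr_fst hX hδX s) x
  have h2 : pushCH (fr hX hδX s).q₂ (fr hX hδX s).hY (fr hX hδX s).hδ₂ (m - p)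
      (c.op sP m (pushCH (gr hX hδX s) (fr hX hδX s).hP (delta_gr hX hδX s) m x)) =
      pushCH (fr hX hδX s).q₂ (fr hX hδX s).hY (fr hX hδX s).hδ₂ (m - p)
        (pushCH (gr hX hδX s) (fr hX hδX s).hP (delta_gr hX hδX s) (m - p) (c.op s m x)) :=
    congrArg _ h1
  refine Eq.trans ?_ h2.symm
  have hid : Cyc.DeltaCompat (𝟙 s.Y) s.δ s.δ := Bivar.deltaCompat_id s.δ
  rw [pushCH_comp (gr hX hδX s) (fr hX hδX s).q₂ (fr hX hδX s).hP (fr hX hδX s).hY
    (delta_gr hX hδX s) (fr hX hδX s).hδ₂ (deltaCompat_congr (gr_snd hX hδX s).symm hid),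
    pushCH_congr (gr_snd hX hδX s) _ _ hid, OpenImm.pushCH_id]

end

end K930.Kron
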