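import Groth.Agent.Bivar.K930.ExtOp

/-!
# Exterior products with a fixed effective cycle, as operators on Chow groups
-/

set_option autoImplicit false
universe u v
open CategoryTheory AlgebraicGeometry CategoryTheory.Limits Opposite

namespace K930.Kron

open Groth.Agent Groth.Agent.CycB K930.Chow K930.ModIso K930.PushPull K930.Gysin K930.ZeroSch
open K930.OpenImm K930.GysinComm K930.OKs K930.TestSch K930.RelDimBC K930.ClOps Cyc K930.ExtT
open Groth.Agent.CycB.ModStalk Groth.Agent.CycB.C1Basic Groth.Agent.CycB.C1Pull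
open Groth.Agent.CycB.GysinCl Groth.Agent.CycB.StalkExact Groth.Agent.Divis

variable {k : Type u} [Field k] {X : Scheme.{u}}

/-- A product with `X`, with its dimension functions. -/
structure Fr (pX : X ⟶ Spec (.of k)) (δX : X → ℤ) where
  Y : Scheme.{u}
  P : Scheme.{u}
  pY : Y ⟶ Spec (.of k)
  q₁ : P ⟶ X
  q₂ : P ⟶ Y
  sq : IsPullback q₁ q₂ pX pY
  δY : Y → ℤ
  δP : P → ℤ
  hY : IsSetup Y δY
  hP : IsSetup P δP
  hδY : DeltaCompat pY δY (fun _ => 0)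
  hδ₁ : DeltaCompat q₁ δP δX
  hδ₂ : DeltaCompat q₂ δP δY

variable {pX : X ⟶ Spec (.of k)} {δX : X → ℤ} (F F' : Fr pX δX) (u : AlgebraicCycle X ℤ)

/-- The base change of the auxiliary scheme. -/
noncomputable abbrev Q : Scheme.{u} := pullback F.q₁ (h u)

/-- The projection. -/
noncomputable abbrev qf : Q F u ⟶ F.P := pullback.fst F.q₁ (h u)

/-- Its dimension function. -/
noncomputable def δQ : Q F u → ℤ := (SetupLft.exists_deltaCompat (qf F u) F.δP).choose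

theorem hδQ : DeltaCompat (qf F u) (δQ F u) F.δP :=
  (SetupLft.exists_deltaCompat (qf F u) F.δP).choose_spec

theorem hQ : IsSetup (Q F u) (δQ F u) := setup_of _ F.hP (hδQ F u)

theorem sqQ : IsPullback (qf F u) (pullback.snd F.q₁ (h u)) F.q₁ (h u) :=
  IsPullback.of_hasPullback _ _

section

variable [LocallyOfFiniteType pX]

theorem sqT : IsPullback (qf F u ≫ F.q₂) (pullback.snd F.q₁ (h u)) F.pY (h u ≫ pX) :=
  isPullback_T u (sqQ F u) F.sq.flip

instance flatQ : Flat (qf F u ≫ F.q₂) :=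
  MorphismProperty.of_isPullback (P := @Flat) (sqT F u).flip inferInstance

instance lft_q₂ : LocallyOfFiniteType F.q₂ :=
  MorphismProperty.of_isPullback F.sq inferInstance

variable (hδX : DeltaCompat pX δX (fun _ => 0)) {n : ℕ} (hu : u ∈ Zk X δX n)

include hδX hu in
theorem relQ : HasRelDim (qf F u ≫ F.q₂) n := hasRelDim_T' u (sqQ F u) F.sq.flip hδX hu

omit [LocallyOfFiniteType pX] in
theorem hδQ₂ : DeltaCompat (qf F u ≫ F.q₂) (δQ F u) F.δY :=
  Bivar.deltaCompat_comp _ _ _ _ _ (hδQ F u) F.hδ₂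

include hδX hu in
theorem shiftQ : Shift (qf F u ≫ F.q₂) (δQ F u) F.δY n :=
  shift_of_hasRelDim (relQ F u hδX hu) (hδQ₂ F u)

/-- The exterior product with the positive part of `u`. -/
noncomputable def E {l m : ℤ} (hm : m = l + n) :
    ChowOps.CH F.Y F.δY l →+ ChowOps.CH F.P F.δP m :=
  (pushCH (qf F u) F.hP (hδQ F u) m).comp
    (pullCH (qf F u ≫ F.q₂) (hQ F u) F.hY (shiftQ F u hδX hu) hm)

theorem E_apply {l m : ℤ} (hm : m = l + n) (x : ChowOps.CH F.Y F.δY l) :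
    E F u hδX hu hm x = pushCH (qf F u) F.hP (hδQ F u) m
      (pullCH (qf F u ≫ F.q₂) (hQ F u) F.hY (shiftQ F u hδX hu) hm x) := rfl

omit [LocallyOfFiniteType pX] in
theorem len2_comm (t : F.P) : len2 F.q₂ F.q₁ t = len2 F.q₁ F.q₂ t := by
  unfold len2
  rw [sup_comm]

/-- The class of the exterior product. -/
theorem E_cl {l m : ℤ} (hm : m = l + n) (hu0 : ∀ x, 0 ≤ u x) (β : AlgebraicCycle F.Y ℤ)
    (hβ : β ∈ Zk F.Y F.δY l) : ∃ (ζ : AlgebraicCycle F.P ℤ) (hζ : ζ ∈ Zk F.P F.δP m),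
      E F u hδX hu hm (ChowOps.cl β hβ) = ChowOps.cl ζ hζ ∧
      ∀ t, ζ t = if F.δP t = δX (F.q₁ t) + F.δY (F.q₂ t) then
        u (F.q₁ t) * β (F.q₂ t) * ((len2 F.q₁ F.q₂ t).toNat : ℤ) else 0 := by
  refine ⟨AlgebraicCycle.map (qf F u) (δQ F u) F.δP
    (pullCyc (qf F u ≫ F.q₂) (hQ F u) (shiftQ F u hδX hu) β),
    Bivar.cycMap_mem_Zk _ _ _ _ (pullCyc_mem _ _ _ hm hβ), rfl, fun t => ?_⟩
  rw [map_pull u (sqQ F u) F.sq.flip hδX F.hδ₂ (hδQ F u) hu β _ (pullCyc_coe _ _ _ _) t,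
    len2_comm, add_comm (F.δY (F.q₂ t))]
  congr 1
  rw [Int.toNat_of_nonneg (hu0 _)]
  ring

/-! ### Compatibilities -/

variable {F F'}
variable {g : F'.Y ⟶ F.Y} {G : F'.P ⟶ F.P} (hG1 : G ≫ F.q₁ = F'.q₁)
  (hG2 : G ≫ F.q₂ = F'.q₂ ≫ g) (hg : g ≫ F.pY = F'.pY)

include hG1 hG2 hg in
omit [LocallyOfFiniteType pX] in
theorem sqG : IsPullback G F'.q₂ F.q₂ g := by
  refine IsPullback.of_right (h₁₂ := F.q₁) (h₂₂ := F.pY) (v₁₃ := pX) ?_ hG2 F.sq
  rw [hG1, hg]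
  exact F'.sq

include hG1 hG2 hg in
omit [LocallyOfFiniteType pX] in
theorem lftG [LocallyOfFiniteType g] : LocallyOfFiniteType G :=
  MorphismProperty.of_isPullback (sqG hG1 hG2 hg).flip ‹_›

/-- The induced morphism. -/
noncomputable def Gt : Q F' u ⟶ Q F u :=
  pullback.lift (qf F' u ≫ G) (pullback.snd F'.q₁ (h u))
    (by rw [Category.assoc, hG1]; exact pullback.condition)

omit [LocallyOfFiniteType pX] in
theorem Gt_fst : Gt u hG1 ≫ qf F u = qf F' u ≫ G := pullback.lift_fst _ _ _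

omit [LocallyOfFiniteType pX] in
theorem Gt_snd : Gt u hG1 ≫ pullback.snd F.q₁ (h u) = pullback.snd F'.q₁ (h u) :=
  pullback.lift_snd _ _ _

omit [LocallyOfFiniteType pX] in
theorem sqS1 : IsPullback (Gt u hG1) (qf F' u) (qf F u) G := by
  refine IsPullback.of_right (h₁₂ := pullback.snd F.q₁ (h u)) (h₂₂ := F.q₁) (v₁₃ := h u) ?_
    (Gt_fst u hG1) (sqQ F u).flip
  rw [hG1, Gt_snd]
  exact (sqQ F' u).flip

include hG2 hg in
omit [LocallyOfFiniteType pX] in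
theorem sqS2 : IsPullback (Gt u hG1) (qf F' u ≫ F'.q₂) (qf F u ≫ F.q₂) g :=
  (sqS1 u hG1).paste_vert (sqG hG1 hG2 hg)

include hG1 in
omit [LocallyOfFiniteType pX] in
theorem deltaG [LocallyOfFiniteType G] : DeltaCompat G F'.δP F.δP :=
  deltaCompat_of_comp G F.q₁ (deltaCompat_congr hG1.symm F'.hδ₁) F.hδ₁

include hg in
omit [LocallyOfFiniteType pX] in
theorem deltag [LocallyOfFiniteType g] : DeltaCompat g F'.δY F.δY :=
  deltaCompat_of_comp g F.pY (deltaCompat_congr hg.symm F'.hδY) F.hδY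

omit [LocallyOfFiniteType pX] in
theorem lftGt [LocallyOfFiniteType G] : LocallyOfFiniteType (Gt u hG1) :=
  MorphismProperty.of_isPullback (sqS1 u hG1).flip ‹_›

omit [LocallyOfFiniteType pX] in
theorem deltaGt [LocallyOfFiniteType G] : DeltaCompat (Gt u hG1) (δQ F' u) (δQ F u) := by
  have : LocallyOfFiniteType (Gt u hG1) := lftGt u hG1
  exact deltaCompat_of_comm (Gt_fst u hG1).symm (hδQ F' u) (deltaG hG1) (hδQ F u)

include hG2 in
/-- Compatibility with proper pushforward. -/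
theorem E_push [IsProper g] [IsProper G] {l m : ℤ} (hm : m = l + n)
    (x : ChowOps.CH F'.Y F'.δY l) :
    E F u hδX hu hm (pushCH g F.hY (deltag hg) l x) =
      pushCH G F.hP (deltaG hG1) m (E F' u hδX hu hm x) := by
  have hGt : IsProper (Gt u hG1) := MorphismProperty.of_isPullback (sqS1 u hG1).flip ‹_›
  have h1 := pullCH_pushCH (sqS2 u hG1 hG2 hg) F'.hY F.hY (hQ F' u) (hQ F u) (deltag hg)
    (deltaGt u hG1) (shiftQ F u hδX hu) (shiftQ F' u hδX hu) hm x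
  refine (congrArg (pushCH (qf F u) F.hP (hδQ F u) m) h1).trans ?_
  rw [pushCH_comp (Gt u hG1) (qf F u) (hQ F u) F.hP (deltaGt u hG1) (hδQ F u)
    (Bivar.deltaCompat_comp _ _ _ _ _ (deltaGt u hG1) (hδQ F u))]
  rw [pushCH_congr (Gt_fst u hG1) F.hP _
    (Bivar.deltaCompat_comp _ _ _ _ _ (hδQ F' u) (deltaG hG1)),
    ← pushCH_comp (qf F' u) G F'.hP F.hP (hδQ F' u) (deltaG hG1)]
  rfl

include hG2 in
/-- Compatibility with flat pullback. -/
theorem E_pull [Flat g] [Flat G] [LocallyOfFiniteType g] [LocallyOfFiniteType G] {r : ℕ}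
    (hr : HasRelDim g r) (hrG : HasRelDim G r) {l m l' m' : ℤ} (hm : m = l + n)
    (hl' : l' = l + r) (hm' : m' = l' + n) (hmm : m' = m + r)
    (x : ChowOps.CH F.Y F.δY l) :
    E F' u hδX hu hm' (pullCH g F'.hY F.hY (shift_of_hasRelDim hr (deltag hg)) hl' x) =
      pullCH G F'.hP F.hP (shift_of_hasRelDim hrG (deltaG hG1)) hmm (E F u hδX hu hm x) := by
  have hl := lftGt u hG1
  have hfl : Flat (Gt u hG1) := MorphismProperty.of_isPullback (sqS1 u hG1).flip ‹_›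
  have hrGt : HasRelDim (Gt u hG1) r := hasRelDim_of_isPullback (sqS1 u hG1) hrG
  have h1 := pullCH_pushCH (sqS1 u hG1).flip (hQ F u) F.hP (hQ F' u) F'.hP (hδQ F u) (hδQ F' u)
    (shift_of_hasRelDim hrG (deltaG hG1)) (shift_of_hasRelDim hrGt (deltaGt u hG1)) hmm
    (pullCH (qf F u ≫ F.q₂) (hQ F u) F.hY (shiftQ F u hδX hu) hm x)
  rw [E_apply, E_apply, h1]
  congr 1
  have hc : Shift ((qf F' u ≫ F'.q₂) ≫ g) (δQ F' u) F.δY ((n : ℤ) + r) := by
    refine shift_of_hasRelDim (r := n + r) ?_ ?_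
    · exact hasRelDim_comp _ _ (hQ F' u) F'.hY F.hY (relQ F' u hδX hu) hr (hδQ₂ F' u) (deltag hg)
    · exact Bivar.deltaCompat_comp _ _ _ _ _ (hδQ₂ F' u) (deltag hg)
  have e : (qf F' u ≫ F'.q₂) ≫ g = Gt u hG1 ≫ qf F u ≫ F.q₂ := (sqS2 u hG1 hG2 hg).w.symm
  have hc' : Shift (Gt u hG1 ≫ qf F u ≫ F.q₂) (δQ F' u) F.δY ((n : ℤ) + r) := e ▸ hc
  have h2 := pullCH_comp (qf F' u ≫ F'.q₂) g (hQ F' u) F'.hY F.hY (relQ F' u hδX hu) hr
    (hδQ₂ F' u) (deltag hg) rfl hc hl' hm' (by omega) x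
  have h3 := pullCH_comp (Gt u hG1) (qf F u ≫ F.q₂) (hQ F' u) (hQ F u) F.hY hrGt
    (relQ F u hδX hu) (deltaGt u hG1) (hδQ₂ F u) (c := (n : ℤ) + r) (add_comm _ _) hc' hm hmm
    (by omega) x
  refine h2.trans (Eq.trans ?_ h3.symm)
  exact congrFun (congrArg _ (pullCH_congr e (hQ F' u) F.hY hc hc' _)) x

include hG2 in
/-- Compatibility with Gysin maps. -/
theorem E_gysin [IsClosedImmersion g] [IsClosedImmersion G]
    {L : F.Y.Modules} {L' : F.P.Modules} (hL : PicF.IsInvertible L)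
    (hL' : PicF.IsInvertible L') {σ : L.presheaf.obj (op ⊤)} {σ' : L'.presheaf.obj (op ⊤)}
    (hσ : IsZeroSchemeOf g L σ) (hσ' : IsZeroSchemeOf G L' σ')
    (e : (Scheme.Modules.pullback F.q₂).obj L ≅ L') {l m l' m' : ℤ} (hm : m = l + n)
    (hl' : l = l' + 1) (hm' : m' = l' + n) (hmm : m = m' + 1)
    (x : ChowOps.CH F.Y F.δY l) :
    E F' u hδX hu hm' (gysCH g F.hY (deltag hg) hL hσ hl' x) =
      gysCH G F.hP (deltaG hG1) hL' hσ' hmm (E F u hδX hu hm x) := by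
  have hci : IsClosedImmersion (Gt u hG1) := MorphismProperty.of_isPullback (sqS1 u hG1).flip ‹_›
  have hLQ := isInvertible_pullback (qf F u) hL'
  have hσQ := isZeroSchemeOf_pullSec (sqS1 u hG1) hL' hσ'
  have h1 := gysCH_pushCH (sqS1 u hG1) F.hP (hQ F u) F'.hP (hδQ F u) (deltaG hG1) (deltaGt u hG1)
    (hδQ F' u) hL' hLQ hσ' hσQ (Iso.refl _) hmm
    (pullCH (qf F u ≫ F.q₂) (hQ F u) F.hY (shiftQ F u hδX hu) hm x)
  rw [E_apply, E_apply, h1]
  congr 1
  have h2 := gysCH_pullCH (sqS2 u hG1 hG2 hg) F.hY (hQ F u) F'.hY (hQ F' u) (deltag hg)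
    (deltaGt u hG1) (shiftQ F u hδX hu) (shiftQ F' u hδX hu) hL hLQ hσ hσQ
    ((pbIso rfl L).symm ≪≫ (Scheme.Modules.pullback (qf F u)).mapIso e) hl' hm hm' hmm x
  exact h2.symm

end

end K930.Kron
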