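import Groth.Agent.Bivar.K930.KronExt

/-!
# The Künneth decomposition and the functionals it defines
-/

set_option autoImplicit false
universe u v
open CategoryTheory AlgebraicGeometry CategoryTheory.Limits Opposite

namespace K930.Kron

open Groth.Agent Groth.Agent.CycB K930.Chow K930.ModIso K930.PushPull K930.Gysin K930.ZeroSch
open K930.OpenImm K930.GysinComm K930.OKs K930.TestSch K930.RelDimBC K930.ClOps Cyc K930.ExtT
open Groth.Agent.CycB.ModStalk Groth.Agent.CycB.C1Basic Groth.Agent.CycB.C1Pull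
open Groth.Agent.CycB.GysinCl Groth.Agent.CycB.StalkExact Groth.Agent.Divis

/-- A class is a difference of classes of effective cycles. -/
theorem exists_eff {X : Scheme.{u}} {δX : X → ℤ} {a : ℤ} (α : AlgebraicCycle X ℤ)
    (hα : α ∈ Zk X δX a) : ∃ (γ₁ γ₂ : AlgebraicCycle X ℤ) (h₁ : γ₁ ∈ Zk X δX a)
      (h₂ : γ₂ ∈ Zk X δX a), (∀ x, 0 ≤ γ₁ x) ∧ (∀ x, 0 ≤ γ₂ x) ∧
        ChowOps.cl α hα = ChowOps.cl γ₁ h₁ - ChowOps.cl γ₂ h₂ := by
  obtain ⟨γ₁, hγ₁⟩ := exists_pos α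
  obtain ⟨γ₂, hγ₂⟩ := exists_pos (-α)
  have hγ₁m : γ₁ ∈ Zk X δX a := fun t ht => by rw [hγ₁, hα t ht]; rfl
  have hγ₂m : γ₂ ∈ Zk X δX a := fun t ht => by
    rw [hγ₂, Function.locallyFinsuppWithin.coe_neg, Pi.neg_apply, hα t ht]; rfl
  refine ⟨γ₁, γ₂, hγ₁m, hγ₂m, fun x => by rw [hγ₁]; positivity, fun x => by rw [hγ₂]; positivity, ?_⟩
  rw [← cl_sub]
  refine Bivar.cl_congr ?_ _ _
  apply DFunLike.coe_injective
  funext t
  rw [Function.locallyFinsuppWithin.coe_sub, Pi.sub_apply, hγ₁, hγ₂,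
    Function.locallyFinsuppWithin.coe_neg, Pi.neg_apply]
  omega

variable {k : Type u} [Field k] {X : Scheme.{u}} {pX : X ⟶ Spec (.of k)} {δX : X → ℤ}

theorem toModule_lof' {F : Fr pX δX} (κ : ∀ a m : ℤ, ChowOps.CH X δX a →ₗ[ℤ]
      ChowOps.CH F.Y F.δY (m - a) →ₗ[ℤ] ChowOps.CH F.P F.δP m) (m a : ℤ)
    (t : TensorProduct ℤ (ChowOps.CH X δX a) (ChowOps.CH F.Y F.δY (m - a))) :
    DirectSum.toModule ℤ ℤ (ChowOps.CH F.P F.δP m) (fun a => TensorProduct.lift (κ a m))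
      (DirectSum.lof ℤ ℤ (fun a : ℤ => TensorProduct ℤ (ChowOps.CH X δX a)
        (ChowOps.CH F.Y F.δY (m - a))) a t) = TensorProduct.lift (κ a m) t := by
  exact DirectSum.toModule_lof (M := fun a : ℤ => TensorProduct ℤ (ChowOps.CH X δX a)
    (ChowOps.CH F.Y F.δY (m - a))) ℤ (N := ChowOps.CH F.P F.δP m)
      (φ := fun a => TensorProduct.lift (κ a m)) a t

/-- The Künneth property of a product. -/
structure Kap (F : Fr pX δX) where
  κ : ∀ a m : ℤ, ChowOps.CH X δX a →ₗ[ℤ] ChowOps.CH F.Y F.δY (m - a) →ₗ[ℤ] ChowOps.CH F.P F.δP m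
  hκ : ∀ (a m : ℤ) (α : AlgebraicCycle X ℤ) (hα : α ∈ Cyc.Zk X δX a)
          (β : AlgebraicCycle F.Y ℤ) (hβ : β ∈ Cyc.Zk F.Y F.δY (m - a))
          (ζ : AlgebraicCycle F.P ℤ) (hζ : ζ ∈ Cyc.Zk F.P F.δP m),
          (∀ t : F.P, ζ t =
            if F.δP t = δX (F.q₁ t) + F.δY (F.q₂ t) then
            α (F.q₁ t) * β (F.q₂ t) * ((len2 F.q₁ F.q₂ t).toNat : ℤ)
          else 0) →
          κ a m (ChowOps.cl α hα) (ChowOps.cl β hβ) = ChowOps.cl ζ hζ
  bij : ∀ m : ℤ, Function.Bijective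
    (DirectSum.toModule ℤ ℤ (ChowOps.CH F.P F.δP m) (fun a : ℤ => TensorProduct.lift (κ a m)))

variable {F F' : Fr pX δX} (K : Kap F) (K' : Kap F')

namespace Kap

/-- Homomorphisms out of the Chow group of the product are determined by exterior products with
effective cycles. -/
theorem ext (hδX : DeltaCompat pX δX (fun _ => 0)) {m : ℤ} {A : Type*} [AddCommGroup A]
    {θ ψ : ChowOps.CH F.P F.δP m →+ A}
    (H : ∀ (n : ℕ) (u : AlgebraicCycle X ℤ) (hu : u ∈ Zk X δX n) (_ : ∀ x, 0 ≤ u x)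
      (y : ChowOps.CH F.Y F.δY (m - n)),
      θ (K.κ n m (ChowOps.cl u hu) y) = ψ (K.κ n m (ChowOps.cl u hu) y)) : θ = ψ := by
  refine AddMonoidHom.ext fun w => ?_
  obtain ⟨x, rfl⟩ := (K.bij m).2 w
  induction x using DirectSum.induction_on with
  | zero => rw [map_zero, map_zero, map_zero]
  | of a t =>
    rw [← DirectSum.lof_eq_of ℤ, toModule_lof']
    induction t using TensorProduct.induction_on with
    | zero => rw [map_zero, map_zero, map_zero]
    | tmul x y =>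
      rw [TensorProduct.lift.tmul]
      obtain ⟨α, hα, rfl⟩ := Bivar.exists_rep x
      by_cases ha : 0 ≤ a
      · obtain ⟨n, rfl⟩ := Int.eq_ofNat_of_zero_le ha
        obtain ⟨γ₁, γ₂, h₁, h₂, h₁0, h₂0, e⟩ := exists_eff α hα
        rw [e, map_sub, LinearMap.sub_apply, map_sub, map_sub, H n γ₁ h₁ h₁0 y, H n γ₂ h₂ h₂0 y]
      · have hα0 : α = 0 := by
          apply DFunLike.coe_injective
          funext t
          refine hα t ?_
          obtain ⟨n, -, hn⟩ := hδX t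
          dsimp only at hn
          omega
        subst hα0
        have h1 : ChowOps.cl (0 : AlgebraicCycle X ℤ) hα = 0 := rfl
        rw [h1, map_zero, LinearMap.zero_apply, map_zero, map_zero]
    | add x y hx hy => rw [map_add, map_add, map_add, hx, hy]
  | add x y hx hy => rw [map_add, map_add, map_add, hx, hy]

theorem kap_E [LocallyOfFiniteType pX] (hδX : DeltaCompat pX δX (fun _ => 0)) {m : ℤ} {n : ℕ}
    (u : AlgebraicCycle X ℤ) (hu : u ∈ Zk X δX n) (hu0 : ∀ x, 0 ≤ u x)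
    (y : ChowOps.CH F.Y F.δY (m - n)) (hm : m = m - n + n) :
    K.κ n m (ChowOps.cl u hu) y = E F u hδX hu hm y := by
  obtain ⟨β, hβ, rfl⟩ := Bivar.exists_rep y
  obtain ⟨ζ, hζm, e, hζ⟩ := E_cl F u hδX hu hm hu0 β hβ
  rw [e]
  exact K.hκ n m u hu β hβ ζ hζm hζ

section Phi

variable {p : ℤ} (φ : ChowOps.CH X δX p →+ ℤ)

/-- The functional applied to the component of dimension `p` in `X`. -/
noncomputable def Phi (m : ℤ) : ChowOps.CH F.P F.δP m →+ ChowOps.CH F.Y F.δY (m - p) :=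
  (((TensorProduct.lift ((LinearMap.lsmul ℤ (ChowOps.CH F.Y F.δY (m - p))).comp
    φ.toIntLinearMap)).comp
      (DirectSum.component ℤ ℤ (fun a : ℤ => TensorProduct ℤ (ChowOps.CH X δX a)
        (ChowOps.CH F.Y F.δY (m - a))) p)).comp
        (LinearEquiv.ofBijective _ (K.bij m)).symm.toLinearMap).toAddMonoidHom

theorem symm_kap (a m : ℤ) (x : ChowOps.CH X δX a) (y : ChowOps.CH F.Y F.δY (m - a)) :
    (LinearEquiv.ofBijective _ (K.bij m)).symm (K.κ a m x y) =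
      DirectSum.lof ℤ ℤ (fun a : ℤ => TensorProduct ℤ (ChowOps.CH X δX a)
        (ChowOps.CH F.Y F.δY (m - a))) a (x ⊗ₜ y) := by
  rw [LinearEquiv.symm_apply_eq, LinearEquiv.ofBijective_apply, toModule_lof',
    TensorProduct.lift.tmul]

theorem Phi_kap (m : ℤ) (x : ChowOps.CH X δX p) (y : ChowOps.CH F.Y F.δY (m - p)) :
    K.Phi φ m (K.κ p m x y) = φ x • y := by
  change TensorProduct.lift ((LinearMap.lsmul ℤ (ChowOps.CH F.Y F.δY (m - p))).comp
    φ.toIntLinearMap) (DirectSum.component ℤ ℤ _ p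
      ((LinearEquiv.ofBijective _ (K.bij m)).symm (K.κ p m x y))) = φ x • y
  rw [symm_kap, DirectSum.component.lof_self, TensorProduct.lift.tmul]
  rfl

theorem Phi_kap_ne (m : ℤ) {a : ℤ} (ha : a ≠ p) (x : ChowOps.CH X δX a)
    (y : ChowOps.CH F.Y F.δY (m - a)) :
    K.Phi φ m (K.κ a m x y) = 0 := by
  change TensorProduct.lift ((LinearMap.lsmul ℤ (ChowOps.CH F.Y F.δY (m - p))).comp
    φ.toIntLinearMap) (DirectSum.component ℤ ℤ _ p
      ((LinearEquiv.ofBijective _ (K.bij m)).symm (K.κ a m x y))) = 0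
  rw [symm_kap, DirectSum.component.of, dif_neg ha, map_zero]

/-- Compatibility of the functionals with families of maps respecting exterior products. -/
theorem Phi_compat [LocallyOfFiniteType pX] (hδX : DeltaCompat pX δX (fun _ => 0)) {m m' : ℤ}
    (θ : ChowOps.CH F.P F.δP m →+ ChowOps.CH F'.P F'.δP m')
    (ψ : ∀ a : ℤ, ChowOps.CH F.Y F.δY (m - a) →+ ChowOps.CH F'.Y F'.δY (m' - a))
    (H : ∀ (n : ℕ) (u : AlgebraicCycle X ℤ) (hu : u ∈ Zk X δX n)
      (y : ChowOps.CH F.Y F.δY (m - n)), θ (E F u hδX hu (by omega) y) =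
        E F' u hδX hu (by omega) (ψ n y)) (w : ChowOps.CH F.P F.δP m) :
    K'.Phi φ m' (θ w) = ψ p (K.Phi φ m w) := by
  have h : (K'.Phi φ m').comp θ = (ψ p).comp (K.Phi φ m) := by
    refine K.ext hδX fun n u hu hu0 y => ?_
    change K'.Phi φ m' (θ (K.κ n m (ChowOps.cl u hu) y)) =
      ψ p (K.Phi φ m (K.κ n m (ChowOps.cl u hu) y))
    rw [K.kap_E hδX u hu hu0 y (by omega), H, ← K'.kap_E hδX u hu hu0,
      ← K.kap_E hδX u hu hu0 y (by omega)]
    by_cases hn : (n : ℤ) = p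
    · subst hn
      rw [Phi_kap, Phi_kap, map_zsmul]
    · rw [Phi_kap_ne _ _ _ hn, Phi_kap_ne _ _ _ hn, map_zero]
  exact congr($h w)

end Phi

end Kap

end K930.Kron
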