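import Groth.Agent.Bivar.K930.KronKap

/-!
# The operational class attached to a functional
-/

set_option autoImplicit false
universe u v
open CategoryTheory AlgebraicGeometry CategoryTheory.Limits Opposite

namespace K930.Kron

open Groth.Agent Groth.Agent.CycB K930.Chow K930.ModIso K930.PushPull K930.Gysin K930.ZeroSch
open K930.OpenImm K930.GysinComm K930.OKs K930.TestSch K930.RelDimBC K930.ClOps Cyc K930.ExtT
open Groth.Agent.CycB.ModStalk Groth.Agent.CycB.C1Basic Groth.Agent.CycB.C1Pull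
open Groth.Agent.CycB.GysinCl Groth.Agent.CycB.StalkExact Groth.Agent.Divis

variable {k : Type u} [Field k] {X : Scheme.{u}} {pX : X ⟶ Spec (.of k)} {δX : X → ℤ}
  [LocallyOfFiniteType pX] (hX : IsSetup X δX) (hδX : DeltaCompat pX δX (fun _ => 0))

instance lft_struct (s : Bivar.OSq X δX) : LocallyOfFiniteType (s.g ≫ pX) := by
  have := s.lft
  infer_instance

instance lft_fst (s : Bivar.OSq X δX) : LocallyOfFiniteType (pullback.fst pX (s.g ≫ pX)) :=
  MorphismProperty.of_isPullback (IsPullback.of_hasPullback pX (s.g ≫ pX)).flip inferInstance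

instance lft_snd (s : Bivar.OSq X δX) : LocallyOfFiniteType (pullback.snd pX (s.g ≫ pX)) :=
  MorphismProperty.of_isPullback (IsPullback.of_hasPullback pX (s.g ≫ pX)) inferInstance

variable (pX) in
/-- The dimension function on the product. -/
noncomputable def δPs (s : Bivar.OSq X δX) : ↥(pullback pX (s.g ≫ pX)) → ℤ :=
  (SetupLft.exists_deltaCompat (pullback.fst pX (s.g ≫ pX)) δX).choose

theorem hδPs (s : Bivar.OSq X δX) :
    DeltaCompat (pullback.fst pX (s.g ≫ pX)) (δPs pX s) δX :=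
  (SetupLft.exists_deltaCompat (pullback.fst pX (s.g ≫ pX)) δX).choose_spec

/-- The product of `X` and a test scheme. -/
noncomputable abbrev fr (s : Bivar.OSq X δX) : Fr pX δX where
  Y := s.Y
  P := pullback pX (s.g ≫ pX)
  pY := s.g ≫ pX
  q₁ := pullback.fst _ _
  q₂ := pullback.snd _ _
  sq := IsPullback.of_hasPullback _ _
  δY := s.δ
  δP := δPs pX s
  hY := setup_OSq hX s
  hP := setup_of _ hX (hδPs s)
  hδY := Bivar.deltaCompat_comp _ _ _ _ _ s.compat hδX
  hδ₁ := hδPs s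
  hδ₂ := deltaCompat_of_comm pullback.condition (hδPs s) hδX
    (Bivar.deltaCompat_comp _ _ _ _ _ s.compat hδX)

/-- The graph. -/
noncomputable def gr (s : Bivar.OSq X δX) : s.Y ⟶ (fr hX hδX s).P :=
  pullback.lift s.g (𝟙 _) (by simp)

theorem gr_fst (s : Bivar.OSq X δX) : gr hX hδX s ≫ (fr hX hδX s).q₁ = s.g :=
  pullback.lift_fst _ _ _

theorem gr_snd (s : Bivar.OSq X δX) : gr hX hδX s ≫ (fr hX hδX s).q₂ = 𝟙 _ :=
  pullback.lift_snd _ _ _

instance gr_closed [IsSeparated pX] (s : Bivar.OSq X δX) : IsClosedImmersion (gr hX hδX s) := by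
  have h1 : IsSeparated (fr hX hδX s).q₂ :=
    MorphismProperty.of_isPullback (fr hX hδX s).sq inferInstance
  have h2 : IsClosedImmersion (gr hX hδX s ≫ (fr hX hδX s).q₂) := by
    rw [gr_snd]
    exact inferInstanceAs (IsClosedImmersion (𝟙 s.Y))
  exact IsClosedImmersion.of_comp _ (fr hX hδX s).q₂

theorem delta_gr [IsSeparated pX] (s : Bivar.OSq X δX) :
    DeltaCompat (gr hX hδX s) s.δ (fr hX hδX s).δP :=
  deltaCompat_of_comp _ (fr hX hδX s).q₁ (deltaCompat_congr (gr_fst hX hδX s).symm s.compat)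
    (fr hX hδX s).hδ₁

section Maps

variable {s t : Bivar.OSq X δX} {h : t.Y ⟶ s.Y} (w : h ≫ s.g = t.g)

/-- The induced map of products. -/
noncomputable def Gm : (fr hX hδX t).P ⟶ (fr hX hδX s).P :=
  pullback.lift (fr hX hδX t).q₁ ((fr hX hδX t).q₂ ≫ h) (by
    rw [Category.assoc, ← Category.assoc h, w]
    exact pullback.condition)

theorem Gm_fst : Gm hX hδX w ≫ (fr hX hδX s).q₁ = (fr hX hδX t).q₁ := pullback.lift_fst _ _ _

theorem Gm_snd : Gm hX hδX w ≫ (fr hX hδX s).q₂ = (fr hX hδX t).q₂ ≫ h := pullback.lift_snd _ _ _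

include w in
theorem over_w : h ≫ (fr hX hδX s).pY = (fr hX hδX t).pY := by
  change h ≫ s.g ≫ pX = t.g ≫ pX
  rw [← Category.assoc, w]

theorem sq_Gm : IsPullback (Gm hX hδX w) (fr hX hδX t).q₂ (fr hX hδX s).q₂ h :=
  sqG (F := fr hX hδX s) (F' := fr hX hδX t) (Gm_fst hX hδX w) (Gm_snd hX hδX w)
    (over_w hX hδX w)

theorem gr_Gm : gr hX hδX t ≫ Gm hX hδX w = h ≫ gr hX hδX s := by
  refine (fr hX hδX s).sq.hom_ext ?_ ?_
  · rw [Category.assoc, Category.assoc, Gm_fst, gr_fst, gr_fst, w]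
  · rw [Category.assoc, Category.assoc, Gm_snd, gr_snd, ← Category.assoc, gr_snd]
    exact (Category.id_comp h).trans (Category.comp_id h).symm

theorem sq_gr : IsPullback (gr hX hδX t) h (Gm hX hδX w) (gr hX hδX s) := by
  refine IsPullback.of_right (h₁₂ := (fr hX hδX t).q₂) (h₂₂ := (fr hX hδX s).q₂) (v₁₃ := h) ?_
    (gr_Gm hX hδX w) (sq_Gm hX hδX w).flip
  rw [gr_snd, gr_snd]
  exact IsPullback.of_horiz_isIso ⟨(Category.id_comp h).trans (Category.comp_id h).symm⟩

end Maps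

section Op

variable [IsSeparated pX] (K : ∀ s : Bivar.OSq X δX, Kap (fr hX hδX s)) {p : ℤ}
  (φ : ChowOps.CH X δX p →+ ℤ)

/-- The operation attached to a functional. -/
noncomputable def kop (s : Bivar.OSq X δX) (m : ℤ) :
    ChowOps.CH s.Y s.δ m →+ ChowOps.CH s.Y s.δ (m - p) :=
  ((K s).Phi φ m).comp (pushCH (gr hX hδX s) (fr hX hδX s).hP (delta_gr hX hδX s) m)

theorem kop_apply (s : Bivar.OSq X δX) (m : ℤ) (x : ChowOps.CH s.Y s.δ m) :
    kop hX hδX K φ s m x =
      (K s).Phi φ m (pushCH (gr hX hδX s) (fr hX hδX s).hP (delta_gr hX hδX s) m x) := rfl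

variable {s t : Bivar.OSq X δX}

theorem kop_push {h : t.Y ⟶ s.Y} [IsProper h] (w : h ≫ s.g = t.g) {m : ℤ}
    (x : ChowOps.CH t.Y t.δ m) :
    kop hX hδX K φ s m (pushCH h (setup_OSq hX s) (deltaCompat_OSq w) m x) =
      pushCH h (setup_OSq hX s) (deltaCompat_OSq w) (m - p) (kop hX hδX K φ t m x) := by
  have hG : IsProper (Gm hX hδX w) := MorphismProperty.of_isPullback (sq_Gm hX hδX w).flip ‹_›
  have hdG : DeltaCompat (Gm hX hδX w) (fr hX hδX t).δP (fr hX hδX s).δP := deltaG (Gm_fst hX hδX w)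
  have e1 : pushCH (gr hX hδX s) (fr hX hδX s).hP (delta_gr hX hδX s) m
      (pushCH h (setup_OSq hX s) (deltaCompat_OSq w) m x) =
      pushCH (Gm hX hδX w) (fr hX hδX s).hP hdG m
        (pushCH (gr hX hδX t) (fr hX hδX t).hP (delta_gr hX hδX t) m x) := by
    rw [pushCH_comp h (gr hX hδX s) (setup_OSq hX s) (fr hX hδX s).hP (deltaCompat_OSq w)
      (delta_gr hX hδX s) (Bivar.deltaCompat_comp _ _ _ _ _ (deltaCompat_OSq w)
      (delta_gr hX hδX s)),
      pushCH_comp (gr hX hδX t) (Gm hX hδX w) (fr hX hδX t).hP (fr hX hδX s).hP (delta_gr hX hδX t)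
      hdG (Bivar.deltaCompat_comp _ _ _ _ _ (delta_gr hX hδX t) hdG)]
    exact congr($(pushCH_congr (gr_Gm hX hδX w).symm _ _ _ _) x)
  rw [kop_apply, kop_apply, e1]
  exact (K t).Phi_compat (K s) φ hδX (pushCH (Gm hX hδX w) (fr hX hδX s).hP hdG m)
    (fun a => pushCH h (setup_OSq hX s) (deltaCompat_OSq w) (m - a))
    (fun n u hu y => (E_push (F := fr hX hδX s) (F' := fr hX hδX t) u hδX hu (Gm_fst hX hδX w)
      (Gm_snd hX hδX w) (over_w hX hδX w) (by omega) y).symm) _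

theorem kop_pull {h : t.Y ⟶ s.Y} [Flat h] {r : ℕ} (hr : HasRelDim h r)
    (w : h ≫ s.g = t.g) {m m' : ℤ} (hk : m' = m + r) (hk' : m' - p = m - p + r)
    (x : ChowOps.CH s.Y s.δ m) :
    kop hX hδX K φ t m' (pullCH h (setup_OSq hX t) (setup_OSq hX s) (shift_OSq w hr) hk x) =
      pullCH h (setup_OSq hX t) (setup_OSq hX s) (shift_OSq w hr) hk' (kop hX hδX K φ s m x) := by
  have hl := lft_OSq w
  have hG : LocallyOfFiniteType (Gm hX hδX w) :=
    MorphismProperty.of_isPullback (sq_Gm hX hδX w).flip ‹_›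
  have hG' : Flat (Gm hX hδX w) := MorphismProperty.of_isPullback (sq_Gm hX hδX w).flip ‹_›
  have hrG : HasRelDim (Gm hX hδX w) r := hasRelDim_of_isPullback (sq_Gm hX hδX w) hr
  have hdG : DeltaCompat (Gm hX hδX w) (fr hX hδX t).δP (fr hX hδX s).δP := deltaG (Gm_fst hX hδX w)
  have e1 := pullCH_pushCH (sq_gr hX hδX w) (setup_OSq hX s) (fr hX hδX s).hP (setup_OSq hX t)
    (fr hX hδX t).hP (delta_gr hX hδX s) (delta_gr hX hδX t) (shift_of_hasRelDim hrG hdG)
    (shift_OSq w hr) hk x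
  rw [kop_apply, kop_apply, ← e1]
  exact (K s).Phi_compat (K t) φ hδX
    (pullCH (Gm hX hδX w) (fr hX hδX t).hP (fr hX hδX s).hP (shift_of_hasRelDim hrG hdG) hk)
    (fun a => pullCH h (setup_OSq hX t) (setup_OSq hX s) (shift_OSq w hr)
      (by omega : m' - a = m - a + r))
    (fun n u hu y => (E_pull (F := fr hX hδX s) (F' := fr hX hδX t) u hδX hu (Gm_fst hX hδX w)
      (Gm_snd hX hδX w) (over_w hX hδX w) hr hrG (by omega) (by omega) (by omega) hk y).symm) _

theorem kop_gysin {i : t.Y ⟶ s.Y} [IsClosedImmersion i]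
    (w : i ≫ s.g = t.g)
    {L : s.Y.Modules} (hL : PicF.IsInvertible L) {σ : L.presheaf.obj (op ⊤)}
    (hσ : IsZeroSchemeOf i L σ) {m l : ℤ} (hk : m = l + 1)
    (hk' : m - p = l - p + 1) (x : ChowOps.CH s.Y s.δ m) :
    kop hX hδX K φ t l (gysCH i (setup_OSq hX s) (deltaCompat_OSq w) hL hσ hk x) =
      gysCH i (setup_OSq hX s) (deltaCompat_OSq w) hL hσ hk' (kop hX hδX K φ s m x) := by
  have hG : IsClosedImmersion (Gm hX hδX w) :=
    MorphismProperty.of_isPullback (sq_Gm hX hδX w).flip ‹_›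
  have hdG : DeltaCompat (Gm hX hδX w) (fr hX hδX t).δP (fr hX hδX s).δP := deltaG (Gm_fst hX hδX w)
  have hLP := isInvertible_pullback (fr hX hδX s).q₂ hL
  have hσP : IsZeroSchemeOf (Gm hX hδX w) _ _ := isZeroSchemeOf_pullSec (sq_Gm hX hδX w) hL hσ
  have e1 := gysCH_pushCH (sq_gr hX hδX w).flip (fr hX hδX s).hP (setup_OSq hX s)
    (fr hX hδX t).hP (delta_gr hX hδX s) hdG (deltaCompat_OSq w) (delta_gr hX hδX t) hLP hL hσP hσ
    (pbIso (gr_snd hX hδX s) L ≪≫ (Scheme.Modules.pullbackId _).app L) hk x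
  rw [kop_apply, kop_apply, ← e1]
  exact (K s).Phi_compat (K t) φ hδX
    (gysCH (Gm hX hδX w) (fr hX hδX s).hP hdG hLP hσP hk)
    (fun a => gysCH i (setup_OSq hX s) (deltaCompat_OSq w) hL hσ (by omega : m - a = l - a + 1))
    (fun n u hu y => (E_gysin (F := fr hX hδX s) (F' := fr hX hδX t) u hδX hu (Gm_fst hX hδX w)
      (Gm_snd hX hδX w) (over_w hX hδX w) hL hLP hσ hσP (Iso.refl _) (by omega) (by omega)
      (by omega) hk y).symm) _

/-- The operational class attached to a functional. -/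
noncomputable def kopCl : Bivar.OpCl p X δX where
  op s m := kop hX hδX K φ s m
  push s t h _ w m := (pushOK_iff (setup_OSq hX s) (setup_OSq hX s) h h (deltaCompat_OSq w)
    (deltaCompat_OSq w) _ _).2 (kop_push hX hδX K φ w)
  pull s t h _ r hr w m := (pullOK_iff (setup_OSq hX s) (setup_OSq hX s) (setup_OSq hX t)
    (setup_OSq hX t) h h (shift_OSq w hr) (shift_OSq w hr) rfl (by ring) _ _).2
      (kop_pull hX hδX K φ hr w rfl (by ring))
  gysin s t i _ w L hL σ hσ m := (gysinOK₁_iff (setup_OSq hX s) i (deltaCompat_OSq w) hL hσ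
    (by ring) (by ring) _ _).2 (kop_gysin hX hδX K φ w hL hσ (by ring) (by ring))

end Op

end K930.Kron
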