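import Groth.Agent.Bivar.K930.LineTot

/-!
# The total space of a line bundle: existence
-/

set_option autoImplicit false
set_option backward.isDefEq.respectTransparency false

universe u

open CategoryTheory CategoryTheory.Limits AlgebraicGeometry Opposite TopologicalSpace

namespace K930.LineTot

open Groth.Agent Groth.Agent.Krr.H490.NrmSub
open Groth.Agent.Fga.SecComp Groth.Agent.VarietyB.PullSec Groth.Agent.Fga.SubPull
open Groth.Agent.Picfga.OverRep Groth.Agent.Fga.QuotPull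
open Groth.Agent.Fdesc.LocGen (IsGen res res_res res_refl res_smul res_ext res_glue)

variable {X : Scheme.{u}} {L : X.Modules}

/-- The index type of the affine line. -/
abbrev I1 : Type u := ULift.{u} (Fin 1)

/-- The chart. -/
noncomputable abbrev CO (U : X.Opens) : Over X :=
  Over.mk ((AffineSpace I1.{u} (U : Scheme.{u}) ↘ (U : Scheme.{u})) ≫ U.ι)

theorem top_le_CO (U : X.Opens) : (⊤ : (CO U).left.Opens) ≤ (CO U).hom ⁻¹ᵁ U := by
  intro t _
  exact ((AffineSpace I1.{u} (U : Scheme.{u}) ↘ (U : Scheme.{u})) t).2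

theorem top_le_of_hom {U : X.Opens} {T : Over X} (h : T ⟶ CO U) :
    (⊤ : T.left.Opens) ≤ T.hom ⁻¹ᵁ U := by
  intro t _
  change T.hom t ∈ U
  rw [← Over.w h]
  exact top_le_CO U (x := h.left t) trivial

theorem isGen_sec {Y : Scheme.{u}} (g : Y ⟶ X) {U : X.Opens} {V : Y.Opens} (h : V ≤ g ⁻¹ᵁ U)
    {e : Γ(L, U)} (he : IsGen e) : IsGen (sec g L h e) := (he.pullSec g).res h

/-- The coordinate of the chart. -/
noncomputable def crd (U : X.Opens) : Γ((CO U).left, ⊤) :=
  AffineSpace.coord (n := I1.{u}) (U : Scheme.{u}) ⟨0⟩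

/-- The universal section of the chart. -/
noncomputable def ξ {U : X.Opens} (e : Γ(L, U)) : (SF L).obj (op (CO U)) :=
  (crd U • sec (CO U).hom L (top_le_CO U) e : Γ(ET L (CO U), ⊤))

theorem map_ξ {U : X.Opens} (e : Γ(L, U)) {T : Over X} (k : T ⟶ CO U) :
    (SF L).map k.op (ξ e) =
      (k.left.appTop (crd U) • sec T.hom L (top_le_of_hom k) e : Γ(ET L T, ⊤)) := by
  rw [SF_map, ξ, tr_smul, tr_sec (L := L) k (top_le_CO U) (fun _ _ => trivial) (top_le_of_hom k)]
  congr 1
  simp [Scheme.Hom.appLE]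

/-- A morphism to the chart with a given coordinate. -/
theorem exists_hom_chart {U : X.Opens} {T : Over X} (hT : (⊤ : T.left.Opens) ≤ T.hom ⁻¹ᵁ U)
    (a : Γ(T.left, ⊤)) : ∃ k : T ⟶ CO U, k.left.appTop (crd U) = a := by
  let g : T.left ⟶ (U : Scheme.{u}) := IsOpenImmersion.lift U.ι T.hom (by
    rintro _ ⟨t, rfl⟩
    have : T.hom t ∈ U := hT (Set.mem_univ t)
    simpa using this)
  have hg : g ≫ U.ι = T.hom := IsOpenImmersion.lift_fac _ _ _
  refine ⟨Over.homMk (AffineSpace.homOfVector g (fun _ => a)) (by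
    change AffineSpace.homOfVector g _ ≫ _ ≫ U.ι = T.hom
    rw [AffineSpace.homOfVector_over_assoc, hg]), ?_⟩
  exact AffineSpace.homOfVector_appTop_coord g (fun _ : I1.{u} => a) ⟨0⟩

theorem hom_chart_ext {U : X.Opens} {T : Over X} (h h' : T ⟶ CO U)
    (e : h.left.appTop (crd U) = h'.left.appTop (crd U)) : h = h' := by
  ext1
  apply AffineSpace.hom_ext
  · rw [← cancel_mono U.ι, Category.assoc, Category.assoc]
    exact (Over.w h).trans (Over.w h').symm
  · rintro ⟨k⟩
    obtain rfl := Subsingleton.elim k 0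
    exact e

theorem exists_chart_local {U : X.Opens} {e : Γ(L, U)} (he : IsGen e) (T : Over X)
    (x : (SF L).obj (op T)) {W : T.left.Opens} (hW : W ≤ T.hom ⁻¹ᵁ U) :
    ∃ k : Over.mk (W.ι ≫ T.hom) ⟶ CO U,
      (SF L).map k.op (ξ e) = (SF L).map (Picfga.OverRep.res T W).op x := by
  have hT : (⊤ : (Over.mk (W.ι ≫ T.hom)).left.Opens) ≤ (Over.mk (W.ι ≫ T.hom)).hom ⁻¹ᵁ U := by
    intro t _
    exact hW t.2
  obtain ⟨a, ha⟩ := (isGen_sec (Over.mk (W.ι ≫ T.hom)).hom hT he).exists_eq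
    ((SF L).map (Picfga.OverRep.res T W).op x)
  obtain ⟨k, hk⟩ := exists_hom_chart hT a
  refine ⟨k, ?_⟩
  rw [map_ξ, hk]
  exact ha.symm

variable (L) in
/-- The index type of the charts. -/
abbrev ChIdx : Type u := Σ U : X.Opens, {e : Γ(L, U) // IsGen e}

/-- The charts of the functor of sections. -/
noncomputable def charts (hL : PicF.IsInvertible L) : Charts (SF L) where
  ι := ChIdx L
  X p := CO p.1
  ξ p := ξ p.2.1
  mono p T a b h := by
    rw [map_ξ, map_ξ] at h
    exact hom_chart_ext a b ((isGen_sec T.hom (top_le_of_hom a) p.2.2).ext h)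
  isOpen p T x T' g h hh t := by
    obtain ⟨k, hk⟩ := exists_chart_local p.2.2 T x (le_refl (T.hom ⁻¹ᵁ p.1))
    refine ⟨T.hom ⁻¹ᵁ p.1, k, ?_, hk⟩
    change T.hom (g.left t) ∈ p.1
    have h1 : T.hom (g.left t) = T'.hom t := by
      rw [← Over.w g]; rfl
    rw [h1]
    exact top_le_of_hom h (x := t) trivial
  covers T x t := by
    obtain ⟨U, e, ht, he⟩ := (Fdesc.LocGen.isInvertible_iff L).1 hL (T.hom t)
    obtain ⟨k, hk⟩ := exists_chart_local he T x (le_refl (T.hom ⁻¹ᵁ U))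
    exact ⟨⟨U, e, he⟩, T.hom ⁻¹ᵁ U, k, ht, hk⟩

/-- The total space of the line bundle of an invertible module. -/
theorem exists_tot (hL : PicF.IsInvertible L) : ∃ (H : Over X) (τ : Γ(ET L H, ⊤)),
    (∀ (T : Over X) (x : Γ(ET L T, ⊤)), ∃! g : T ⟶ H,
      tr L g (U := ⊤) (V := ⊤) (fun _ _ => trivial) τ = x) ∧
    SmoothOfRelativeDimension 1 H.hom ∧ IsAffineHom H.hom := by
  obtain ⟨H, Z, j, huniv, hop, hξ, hcov⟩ : ∃ (H : Over X) (Z : (SF L).obj (op H))
      (j : ∀ p : ChIdx L, CO p.1 ⟶ H),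
      (∀ (T : Over X) (x : (SF L).obj (op T)), ∃! g : T ⟶ H, (SF L).map g.op Z = x) ∧
      (∀ p, IsOpenImmersion (j p).left) ∧ (∀ p : ChIdx L, (SF L).map (j p).op Z = ξ p.2.1) ∧
      (∀ h : H.left, ∃ (p : ChIdx L) (y : (CO p.1).left), (j p).left y = h) :=
    (charts hL).exists_universal' (isZarSheaf_SF L)
  refine ⟨H, Z, huniv, ?_, ?_⟩
  · let 𝒰 : Scheme.OpenCover.{u} H.left := {
      I₀ := ChIdx L
      X := fun p ↦ (CO p.1).left
      f := fun p ↦ (j p).left
      mem₀ := by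
        rw [Scheme.presieve₀_mem_precoverage_iff]
        exact ⟨hcov, hop⟩ }
    refine (IsZariskiLocalAtSource.iff_of_openCover (P := @SmoothOfRelativeDimension 1) 𝒰).2
      fun p ↦ ?_
    change SmoothOfRelativeDimension 1 ((j p).left ≫ H.hom)
    rw [Over.w]
    have := Sga4h.AffProj640.smooth_line (p.1 : Scheme.{u})
    have h2 : SmoothOfRelativeDimension 0 p.1.ι := inferInstance
    exact inferInstanceAs (SmoothOfRelativeDimension (1 + 0)
      ((AffineSpace I1.{u} (p.1 : Scheme.{u}) ↘ (p.1 : Scheme.{u})) ≫ p.1.ι))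
  · have hpre : ∀ p : ChIdx L, H.hom ⁻¹ᵁ p.1 = (j p).left.opensRange := by
      intro p
      apply le_antisymm
      · intro y hy
        obtain ⟨k, hk⟩ := exists_chart_local p.2.2 H Z (le_refl (H.hom ⁻¹ᵁ p.1))
        have h1 : k ≫ j p = Picfga.OverRep.res H (H.hom ⁻¹ᵁ p.1) :=
          (huniv _ ((SF L).map (Picfga.OverRep.res H _).op Z)).unique (by
            rw [map_comp_apply, hξ]
            exact hk) rfl
        have h2 : (k ≫ j p).left ⟨y, hy⟩ = (Picfga.OverRep.res H (H.hom ⁻¹ᵁ p.1)).left ⟨y, hy⟩ := by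
          rw [h1]
        exact ⟨k.left ⟨y, hy⟩, h2⟩
      · rintro _ ⟨y, rfl⟩
        change H.hom ((j p).left y) ∈ p.1
        have h1 : H.hom ((j p).left y) = (CO p.1).hom y := by
          rw [← Over.w (j p)]; rfl
        rw [h1]
        exact top_le_CO p.1 (x := y) trivial
    have hex : ∀ x : X, ∃ (V : X.Opens), IsAffineOpen V ∧ x ∈ V ∧ ∃ e : Γ(L, V), IsGen e := by
      intro x
      obtain ⟨U, e, ht, he⟩ := (Fdesc.LocGen.isInvertible_iff L).1 hL x
      obtain ⟨V, hV, hxV, hVU⟩ := exists_isAffineOpen_mem_and_subset (X := X) (x := x) (U := U) ht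
      exact ⟨V, hV, hxV, ⟨res L hVU e, he.res hVU⟩⟩
    choose V hV hxV hVe using hex
    refine isAffineHom_of_forall_exists_isAffineOpen H.hom fun x => ⟨V x, hxV x, hV x, ?_⟩
    obtain ⟨e, he⟩ := hVe x
    rw [hpre ⟨V x, e, he⟩]
    have h1 : IsAffine (CO (V x)).left := by
      have : IsAffine (V x : Scheme.{u}) := hV x
      exact inferInstanceAs (IsAffine (AffineSpace I1.{u} (V x : Scheme.{u})))
    have h2 := hop ⟨V x, e, he⟩
    exact isAffineOpen_opensRange _

end K930.LineTot
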