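import Groth.Agent.Krr.H490.NrmSub
import Groth.Agent.Sga4h.AffProj640

/-!
# The total space of a line bundle: the functor of sections of an invertible module
-/

set_option autoImplicit false
set_option backward.isDefEq.respectTransparency false

universe u

open CategoryTheory CategoryTheory.Limits AlgebraicGeometry Opposite TopologicalSpace

namespace K930.LineTot

open Groth.Agent Groth.Agent.Krr.H490.NrmSub
open Groth.Agent.Fga.SecComp Groth.Agent.VarietyB.PullSec Groth.Agent.Fga.SubPull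
open Groth.Agent.Picfga.OverRep Groth.Agent.Fga.QuotPull
open Groth.Agent.Fdesc.LocGen (IsGen res res_res res_refl res_smul res_ext res_glue)

variable {X : Scheme.{u}} (L : X.Modules)

/-- The transition of sections. -/
noncomputable def tr {T T' : Over X} (g : T' ⟶ T) {U : T.left.Opens} {V : T'.left.Opens}
    (e : V ≤ g.left ⁻¹ᵁ U) : Γ(ET L T, U) →+ Γ(ET L T', V) :=
  psec g.left (eti L g) e

variable {L}

theorem tr_comp {T T' T'' : Over X} (h : T'' ⟶ T') (g : T' ⟶ T) {U : T.left.Opens}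
    {V : T'.left.Opens} {W : T''.left.Opens} (e : V ≤ g.left ⁻¹ᵁ U) (e' : W ≤ h.left ⁻¹ᵁ V)
    (e'' : W ≤ (h ≫ g).left ⁻¹ᵁ U) (s : Γ(ET L T, U)) :
    tr L h e' (tr L g e s) = tr L (h ≫ g) e'' s :=
  (compatIso_eti L h g).psec_comp e e' e'' s

theorem tr_smul {T T' : Over X} (g : T' ⟶ T) {U : T.left.Opens} {V : T'.left.Opens}
    (e : V ≤ g.left ⁻¹ᵁ U) (c : Γ(T.left, U)) (s : Γ(ET L T, U)) :
    tr L g e (c • s) = g.left.appLE U V e c • tr L g e s :=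
  psec_smul _ _ e c s

theorem res_tr {T T' : Over X} (g : T' ⟶ T) {U U' : T.left.Opens} {V V' : T'.left.Opens}
    (e : V ≤ g.left ⁻¹ᵁ U) (e' : V' ≤ g.left ⁻¹ᵁ U') (hU : U' ≤ U) (hV : V' ≤ V)
    (s : Γ(ET L T, U)) : res _ hV (tr L g e s) = tr L g e' (res _ hU s) :=
  res_psec _ _ e e' hU hV s

theorem tr_bijective {T T' : Over X} (g : T' ⟶ T) [IsOpenImmersion g.left] {U : T.left.Opens}
    {V : T'.left.Opens} (e : V ≤ g.left ⁻¹ᵁ U) (h : U ≤ g.left ''ᵁ V) :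
    Function.Bijective (tr L g e) :=
  psec_bijective _ _ e h

theorem tr_sec {T T' : Over X} (g : T' ⟶ T) {U₀ : X.Opens} {U : T.left.Opens} {V : T'.left.Opens}
    (e₀ : U ≤ T.hom ⁻¹ᵁ U₀) (e : V ≤ g.left ⁻¹ᵁ U) (e' : V ≤ T'.hom ⁻¹ᵁ U₀) (s : Γ(L, U₀)) :
    tr L g e (sec T.hom L e₀ s) = sec T'.hom L e' s := by
  have e'' : V ≤ (g.left ≫ T.hom) ⁻¹ᵁ U₀ := by rw [Over.w g]; exact e'
  change psec g.left (eti L g) e _ = _
  rw [psec_apply, eti_hom, Scheme.Modules.Hom.comp_app, ConcreteCategory.comp_apply]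
  erw [sec_comp g.left T.hom L e₀ e e'' s]
  rw [sec_congr (Over.w g) L e'' e' s]

theorem tr_id (T : Over X) {U : T.left.Opens} (e : U ≤ (𝟙 T : T ⟶ T).left ⁻¹ᵁ U)
    (s : Γ(ET L T, U)) : tr L (𝟙 T) e s = s := by
  have : IsOpenImmersion (𝟙 T : T ⟶ T).left := inferInstanceAs (IsOpenImmersion (𝟙 T.left))
  have hb := tr_bijective (L := L) (𝟙 T) e (by
    intro x hx
    exact ⟨x, hx, rfl⟩)
  apply hb.1
  rw [tr_comp (𝟙 T) (𝟙 T) e e e]
  rfl

theorem tr_congr {T T' : Over X} {g g' : T' ⟶ T} (h : g = g') {U : T.left.Opens}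
    {V : T'.left.Opens} (e : V ≤ g.left ⁻¹ᵁ U) (e' : V ≤ g'.left ⁻¹ᵁ U) (s : Γ(ET L T, U)) :
    tr L g e s = tr L g' e' s := by
  subst h; rfl

variable (L) in
/-- The functor of global sections of `L`. -/
noncomputable def SF : (Over X)ᵒᵖ ⥤ Type u where
  obj T := Γ(ET L T.unop, ⊤)
  map g := ↾(fun s => tr L g.unop (U := ⊤) (V := ⊤) (fun _ _ => trivial) s)
  map_id T := ConcreteCategory.hom_ext _ _ fun s => tr_id (L := L) T.unop (U := ⊤) _ s
  map_comp a b := ConcreteCategory.hom_ext _ _ fun s =>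
    (tr_comp (L := L) b.unop a.unop (U := ⊤) (V := ⊤) (W := ⊤) (fun _ _ => trivial)
      (fun _ _ => trivial) (fun _ _ => trivial) s).symm

theorem SF_map {T T' : Over X} (g : T' ⟶ T) (s : (SF L).obj (op T)) :
    (SF L).map g.op s = tr L g (U := ⊤) (V := ⊤) (fun _ _ => trivial) s := rfl

section Sheaf

variable {T : Over X} (𝒰 : Cov T)

/-- The image of a member of a cover. -/
noncomputable def rg (i : 𝒰.ι) : T.left.Opens := (𝒰.j i).left.opensRange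

theorem le_rg (i : 𝒰.ι) : (⊤ : (𝒰.V i).left.Opens) ≤ (𝒰.j i).left ⁻¹ᵁ (rg 𝒰 i) :=
  fun x _ => ⟨x, rfl⟩

theorem tr_rg_bijective (i : 𝒰.ι) : Function.Bijective (tr L (𝒰.j i) (le_rg 𝒰 i)) :=
  tr_bijective _ _ (by
    rintro _ ⟨x, rfl⟩
    exact ⟨x, trivial, rfl⟩)

theorem top_le_iSup_rg : (⊤ : T.left.Opens) ≤ ⨆ i, rg 𝒰 i := by
  intro t _
  obtain ⟨i, v, hv⟩ := 𝒰.covers t
  exact Opens.mem_iSup.2 ⟨i, ⟨v, hv⟩⟩

/-- Lifting to a member of the cover. -/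
theorem exists_lift_rg (i : 𝒰.ι) (W : T.left.Opens) (hW : W ≤ rg 𝒰 i) :
    ∃ a : Over.mk (W.ι ≫ T.hom) ⟶ 𝒰.V i, a ≫ 𝒰.j i = Picfga.OverRep.res T W := by
  have hV1 : Set.range W.ι ⊆ Set.range (𝒰.j i).left := by
    rintro _ ⟨v, rfl⟩
    exact hW v.2
  refine ⟨Over.homMk (IsOpenImmersion.lift (𝒰.j i).left W.ι hV1) ?_, ?_⟩
  · rw [← Over.w (𝒰.j i), IsOpenImmersion.lift_fac_assoc]
    rfl
  · ext
    exact IsOpenImmersion.lift_fac _ _ _

variable (L) in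
theorem isZarSheaf_SF : IsZarSheaf (SF L) := by
  intro T 𝒰 x hx
  choose y hy using fun i => (tr_rg_bijective (L := L) 𝒰 i).2 (x i)
  have hcompat : ∀ i k, res (ET L T) (inf_le_left : rg 𝒰 i ⊓ rg 𝒰 k ≤ rg 𝒰 i) (y i) =
      res (ET L T) inf_le_right (y k) := by
    intro i k
    let W := rg 𝒰 i ⊓ rg 𝒰 k
    obtain ⟨a, ha⟩ := exists_lift_rg 𝒰 i W inf_le_left
    obtain ⟨b, hb⟩ := exists_lift_rg 𝒰 k W inf_le_right
    have hop : IsOpenImmersion (Picfga.OverRep.res T W).left := inferInstanceAs (IsOpenImmersion W.ι)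
    have hW : (⊤ : (Over.mk (W.ι ≫ T.hom)).left.Opens) ≤ (Picfga.OverRep.res T W).left ⁻¹ᵁ W :=
      fun x _ => x.2
    have hinj := (tr_bijective (L := L) (Picfga.OverRep.res T W) hW (by
      intro x hx
      exact ⟨⟨x, hx⟩, trivial, rfl⟩)).1
    apply hinj
    have key : ∀ (l : 𝒰.ι) (hl : W ≤ rg 𝒰 l) (c : Over.mk (W.ι ≫ T.hom) ⟶ 𝒰.V l)
        (hc : c ≫ 𝒰.j l = Picfga.OverRep.res T W),
        tr L (Picfga.OverRep.res T W) hW (res (ET L T) hl (y l)) = (SF L).map c.op (x l) := by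
      intro l hl c hc
      have h1 : tr L (Picfga.OverRep.res T W) hW (res (ET L T) hl (y l)) =
          tr L (Picfga.OverRep.res T W) (U := rg 𝒰 l) (fun x _ => hl x.2) (y l) := by
        have := res_tr (L := L) (Picfga.OverRep.res T W) (U := rg 𝒰 l) (U' := W) (V := ⊤) (V' := ⊤)
          (fun x _ => hl x.2) hW hl le_rfl (y l)
        rw [← this, res_refl]
      have e1 : (⊤ : (Over.mk (W.ι ≫ T.hom)).left.Opens) ≤ (c ≫ 𝒰.j l).left ⁻¹ᵁ (rg 𝒰 l) := by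
        rw [hc]; exact fun x _ => hl x.2
      rw [h1, SF_map, ← hy l, tr_comp c (𝒰.j l) (le_rg 𝒰 l) (fun _ _ => trivial) e1]
      exact tr_congr hc.symm _ _ _
    rw [key i inf_le_left a ha, key k inf_le_right b hb]
    exact hx i k _ a b (ha.trans hb.symm)
  obtain ⟨t, ht⟩ := res_glue (ET L T) (rg 𝒰) (fun _ => le_top) (top_le_iSup_rg 𝒰) y hcompat
  have key : ∀ (z : Γ(ET L T, ⊤)) (i : 𝒰.ι), (SF L).map (𝒰.j i).op z =
      tr L (𝒰.j i) (le_rg 𝒰 i) (res (ET L T) le_top z) := by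
    intro z i
    rw [SF_map, ← res_tr (L := L) (𝒰.j i) (U := ⊤) (V := ⊤) (fun _ _ => trivial) (le_rg 𝒰 i)
      le_top le_rfl z, res_refl]
  refine ⟨t, fun i => ?_, fun t' ht' => ?_⟩
  · rw [key, ht, hy]
  · apply res_ext (ET L T) (rg 𝒰) (fun _ => le_top) (top_le_iSup_rg 𝒰)
    intro i
    apply (tr_rg_bijective (L := L) 𝒰 i).1
    rw [ht, hy, ← key, ht' i]

end Sheaf

end K930.LineTot
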