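import Groth.Agent.Bivar.K930.Chow
import Groth.Agent.CycB.GysinCl
import Groth.Agent.CycB.C1Cap
import Groth.Agent.CycB.StalkExact

/-!
# Rational sections and isomorphisms of invertible modules
-/

set_option autoImplicit false
universe u v
open CategoryTheory AlgebraicGeometry CategoryTheory.Limits Opposite

namespace K930.ModIso

open Groth.Agent Groth.Agent.CycB K930.Chow
open Groth.Agent.CycB.ModStalk Groth.Agent.CycB.C1Basic Groth.Agent.CycB.C1Pull
open Groth.Agent.CycB.GysinCl Groth.Agent.CycB.StalkExact Cyc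

variable {X : Scheme.{u}} {L L' : X.Modules}

/-- The map on fibres induced by a morphism of modules. -/
noncomputable def fibHom (φ : L ⟶ L') (ξ : X) :
    secFibre L ξ →ₗ[X.presheaf.stalk ξ] secFibre L' ξ :=
  Submodule.mapQ _ _ (stalkLin φ ξ) (by
    rw [← Submodule.map_le_iff_le_comap, Submodule.map_smul'']
    exact Submodule.smul_mono le_rfl le_top)

theorem fibHom_cl (φ : L ⟶ L') (ξ : X) (m : L.presheaf.stalk ξ) :
    fibHom φ ξ (cl L ξ m) = cl L' ξ (stalkLin φ ξ m) := rfl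

theorem fibHom_comp {L'' : X.Modules} (φ : L ⟶ L') (ψ : L' ⟶ L'') (ξ : X) (s : secFibre L ξ) :
    fibHom (φ ≫ ψ) ξ s = fibHom ψ ξ (fibHom φ ξ s) := by
  obtain ⟨m, rfl⟩ := cl_surjective ξ s
  rw [fibHom_cl, fibHom_cl, fibHom_cl, stalkLin_comp]
  rfl

theorem fibHom_id (ξ : X) (s : secFibre L ξ) : fibHom (𝟙 L) ξ s = s := by
  obtain ⟨m, rfl⟩ := cl_surjective ξ s
  rw [fibHom_cl, stalkLin_id]
  rfl

theorem fibHom_ne_zero (e : L ≅ L') (ξ : X) {s : secFibre L ξ} (hs : s ≠ 0) :
    fibHom e.hom ξ s ≠ 0 := by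
  intro h
  apply hs
  rw [← fibHom_id ξ s, ← e.hom_inv_id, fibHom_comp, h, map_zero]

theorem fibHom_val (φ : L ⟶ L') (s : L.presheaf.obj (op ⊤)) (ξ : X) :
    fibHom φ ξ (val L s ξ) = val L' (φ.app ⊤ s) ξ := by
  rw [val_eq, val_eq, fibHom_cl]
  congr 1
  exact stalkLin_germ φ ξ (U := ⊤) trivial s

theorem stalkLin_stalkSpecializes (φ : L ⟶ L') {ξ x : X} (h : ξ ⤳ x) (m : L.presheaf.stalk x) :
    stalkLin φ ξ (L.presheaf.stalkSpecializes h m) =
      L'.presheaf.stalkSpecializes h (stalkLin φ x m) := by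
  obtain ⟨U, hx, s, rfl⟩ := L.presheaf.exists_germ_eq m
  have e1 : L.presheaf.stalkSpecializes h (L.presheaf.germ U x hx s) =
      L.presheaf.germ U ξ (h.mem_open U.isOpen hx) s :=
    TopCat.Presheaf.germ_stalkSpecializes_apply L.presheaf hx h s
  have e2 : L'.presheaf.stalkSpecializes h (L'.presheaf.germ U x hx (φ.app U s)) =
      L'.presheaf.germ U ξ (h.mem_open U.isOpen hx) (φ.app U s) :=
    TopCat.Presheaf.germ_stalkSpecializes_apply L'.presheaf hx h _
  rw [e1]
  have e3 : stalkLin φ ξ (L.presheaf.germ U ξ (h.mem_open U.isOpen hx) s) =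
      L'.presheaf.germ U ξ (h.mem_open U.isOpen hx) (φ.app U s) := stalkLin_germ φ ξ _ s
  have e4 : stalkLin φ x (L.presheaf.germ U x hx s) =
      L'.presheaf.germ U x hx (φ.app U s) := stalkLin_germ φ x _ s
  exact e3.trans (e2.symm.trans (congrArg (L'.presheaf.stalkSpecializes h) e4.symm))

theorem isGen_stalkLin (e : L ≅ L') {x : X} {t : L.presheaf.stalk x} (ht : IsGen L x t) :
    IsGen L' x (stalkLin e.hom x t) := by
  have : (stalkLin e.hom x) = (stalkLinEquiv e x : L.presheaf.stalk x →ₗ[_] _) := by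
    ext m; rfl
  unfold IsGen at ht ⊢
  have h2 : (fun a : X.presheaf.stalk x => a • stalkLin e.hom x t) =
      (stalkLinEquiv e x) ∘ (fun a => a • t) := by
    funext a
    simp [stalkLinEquiv_apply]
  rw [h2]
  exact (stalkLinEquiv e x).bijective.comp ht

theorem isInvertible_of_iso (e : L ≅ L') (hL : PicF.IsInvertible L) : PicF.IsInvertible L' := by
  intro x
  obtain ⟨U, hx, ⟨i⟩⟩ := hL x
  exact ⟨U, hx, ⟨(Scheme.Modules.restrictFunctor U.ι).mapIso e.symm ≪≫ i⟩⟩

theorem secOrdAt_fibHom (e : L ≅ L') (hL : PicF.IsInvertible L) (hL' : PicF.IsInvertible L')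
    {ξ x : X} (h : ξ ⤳ x)
    {s : secFibre L ξ} (hs : s ≠ 0) :
    secOrdAt L' ξ x h (fibHom e.hom ξ s) = secOrdAt L ξ x h s := by
  obtain ⟨t, ht⟩ := exists_isGen hL x
  obtain ⟨φ, rfl⟩ := exists_smul_cl (ht.stalkSpecializes hL h) s
  rw [ne_eq, smul_cl_eq_zero_iff (ht.stalkSpecializes hL h)] at hs
  rw [secOrdAt_smul hL h ht φ hs, map_smul, fibHom_cl, stalkLin_stalkSpecializes,
    secOrdAt_smul hL' h (isGen_stalkLin e ht) φ hs]

theorem secDivFun_fibHom (e : L ≅ L') (hL : PicF.IsInvertible L) (hL' : PicF.IsInvertible L')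
    (δ : X → ℤ) {ξ : X} {s : secFibre L ξ} (hs : s ≠ 0) :
    secDivFun δ L' ξ (fibHom e.hom ξ s) = secDivFun δ L ξ s := by
  funext x
  unfold secDivFun
  split_ifs with h
  · exact secOrdAt_fibHom e hL hL' h.1 hs
  · rfl

theorem c1CapFun_fibHom (e : L ≅ L') (hL : PicF.IsInvertible L) (hL' : PicF.IsInvertible L')
    (δ : X → ℤ) (α : X → ℤ) {s : (ξ : X) → secFibre L ξ} (hs : ∀ ξ, s ξ ≠ 0) :
    c1CapFun δ L' α (fun ξ => fibHom e.hom ξ (s ξ)) = c1CapFun δ L α s := by
  funext x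
  unfold c1CapFun
  exact finsum_congr fun ξ => by rw [secDivFun_fibHom e hL hL' δ (hs ξ)]

/-- The zero scheme of a section does not change under an isomorphism of modules. -/
theorem isZeroSchemeOf_of_iso (e : L ≅ L') {D : Scheme.{u}} {i : D ⟶ X}
    {s : L.presheaf.obj (op ⊤)} (h : IsZeroSchemeOf i L s) :
    IsZeroSchemeOf i L' (e.hom.app ⊤ s) := by
  refine ⟨?_, fun d => ?_⟩
  · rw [h.1]
    ext x
    change val L s x = 0 ↔ val L' (e.hom.app ⊤ s) x = 0
    rw [← fibHom_val]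
    constructor
    · intro h0
      rw [h0, map_zero]
    · intro h0
      by_contra h1
      exact fibHom_ne_zero e x h1 h0
  · obtain ⟨t, f, ht, hs, hk⟩ := h.2 d
    refine ⟨stalkLin e.hom (i d) t, f, ?_, ?_, hk⟩
    · have : Submodule.map (stalkLinEquiv e (i d)).toLinearMap
          (Submodule.span (X.presheaf.stalk (i d)) {t}) = ⊤ := by
        rw [ht, Submodule.map_top, LinearEquiv.range]
      rw [Submodule.map_span, Set.image_singleton] at this
      exact this
    · have := stalkLin_germ e.hom (i d) (U := ⊤) trivial s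
      refine this.symm.trans ?_
      rw [← map_smul]
      exact congrArg _ hs

end K930.ModIso
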