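import Groth.Agent.Bivar.K930.GysinComm
import Groth.Prelude.Def_Bivar2

/-!
# The representative-form compatibilities are equalities of maps on Chow groups
-/

set_option autoImplicit false
universe u v
open CategoryTheory AlgebraicGeometry CategoryTheory.Limits Opposite

namespace K930.OKs

open Groth.Agent Groth.Agent.CycB K930.Chow K930.ModIso K930.PushPull K930.Gysin K930.ZeroSch
open K930.OpenImm K930.GysinComm
open Groth.Agent.CycB.ModStalk Groth.Agent.CycB.C1Basic Groth.Agent.CycB.C1Pull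
open Groth.Agent.CycB.GysinCl Groth.Agent.CycB.StalkExact Cyc Groth.Agent.Divis

variable {T T' S S' D E : Scheme.{u}} {δT : T → ℤ} {δT' : T' → ℤ} {δS : S → ℤ} {δS' : S' → ℤ}
  {δD : D → ℤ} {δE : E → ℤ}

theorem pushOK_iff (hS : IsSetup S δS) (hS' : IsSetup S' δS') (h : T ⟶ S) [IsProper h]
    (h' : T' ⟶ S') [IsProper h'] (hh : DeltaCompat h δT δS) (hh' : DeltaCompat h' δT' δS')
    {k l : ℤ} (φ : ChowOps.CH T δT k →+ ChowOps.CH T' δT' l)
    (ψ : ChowOps.CH S δS k →+ ChowOps.CH S' δS' l) :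
    Bivar.PushOK δT δT' δS δS' h h' φ ψ ↔
      ∀ x, ψ (pushCH h hS hh k x) = pushCH h' hS' hh' l (φ x) := by
  constructor
  · intro H x
    obtain ⟨α, hα, rfl⟩ := Bivar.exists_rep x
    obtain ⟨β, hβ, e1, e2⟩ := H α hα
    rw [e1, pushCH_cl, e2, pushCH_cl]
  · intro H α hα
    obtain ⟨β, hβ, e⟩ := Bivar.exists_rep (φ (ChowOps.cl α hα))
    refine ⟨β, hβ, e.symm, ?_⟩
    have := H (ChowOps.cl α hα)
    rw [pushCH_cl, ← e, pushCH_cl] at this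
    exact this

theorem pullOK_iff (hS : IsSetup S δS) (hS' : IsSetup S' δS') (hT : IsSetup T δT)
    (hT' : IsSetup T' δT') (h : T ⟶ S) [Flat h]
    (h' : T' ⟶ S') [Flat h'] {r : ℤ} (hh : Shift h δT δS r) (hh' : Shift h' δT' δS' r)
    {k l k₁ l₁ : ℤ} (hk : k₁ = k + r) (hl : l₁ = l + r)
    (φ : ChowOps.CH S δS k →+ ChowOps.CH S' δS' l)
    (ψ : ChowOps.CH T δT k₁ →+ ChowOps.CH T' δT' l₁) :
    Bivar.PullOK δS δS' δT δT' h h' r φ ψ ↔
      ∀ x, ψ (pullCH h hT hS hh hk x) = pullCH h' hT' hS' hh' hl (φ x) := by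
  constructor
  · intro H x
    obtain ⟨α, hα, rfl⟩ := Bivar.exists_rep x
    obtain ⟨β, hβ, e1, e2⟩ := H α hα
    obtain ⟨β₁, hβ₁, e3, e4⟩ := e2 (pullCyc h hT hh α) (pullCyc_coe h hT hh α)
      (pullCyc_mem h hT hh hk hα)
    rw [e1, pullCH_cl', e4]
    exact (pullCH_cl h' hT' hS' hh' hl β hβ β₁ e3 hβ₁).symm
  · intro H α hα
    obtain ⟨β, hβ, e⟩ := Bivar.exists_rep (φ (ChowOps.cl α hα))
    refine ⟨β, hβ, e.symm, fun α₁ h₁ hα₁ => ?_⟩
    refine ⟨pullCyc h' hT' hh' β, pullCyc_mem h' hT' hh' hl hβ, pullCyc_coe h' hT' hh' β, ?_⟩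
    have := H (ChowOps.cl α hα)
    rw [pullCH_cl h hT hS hh hk α hα α₁ h₁ hα₁, ← e, pullCH_cl'] at this
    exact this

theorem gysinOK_iff (hS : IsSetup S δS) (hS' : IsSetup S' δS') (i : D ⟶ S) [IsClosedImmersion i]
    (j : E ⟶ S') [IsClosedImmersion j] (hi : DeltaCompat i δD δS) (hj : DeltaCompat j δE δS')
    {L : S.Modules} {N : S'.Modules} (hL : PicF.IsInvertible L) (hN : PicF.IsInvertible N)
    {σ : L.presheaf.obj (op ⊤)} {τ : N.presheaf.obj (op ⊤)} (hσ : IsZeroSchemeOf i L σ)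
    (hτ : IsZeroSchemeOf j N τ) {k l k₁ l₁ : ℤ} (hk : k = k₁ + 1) (hl : l = l₁ + 1)
    (φ : ChowOps.CH S δS k →+ ChowOps.CH S' δS' l)
    (ψ : ChowOps.CH D δD k₁ →+ ChowOps.CH E δE l₁) :
    Bivar.GysinOK δS δD δS' δE i L σ j N τ φ ψ ↔
      ∀ x, ψ (gysCH i hS hi hL hσ hk x) = gysCH j hS' hj hN hτ hl (φ x) := by
  constructor
  · intro H x
    obtain ⟨α, hα, rfl⟩ := Bivar.exists_rep x
    obtain ⟨β, hβ, e1, e2⟩ := H α hα
    obtain ⟨ζ, hζ, e3, e4⟩ := e2 (nz hL) (nz_ne_zero hL) (gysCyc i hS hL σ α)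
      (gysCyc_apply hS hL σ α) (gys_mem hi hk hα (gysCyc_apply hS hL σ α)) (nz hN) (nz_ne_zero hN)
    rw [e1, gysCH_cl', e4]
    exact (gysCH_cl hS' hj hN hτ hl β hβ (nz hN) (nz_ne_zero hN) ζ e3 hζ).symm
  · intro H α hα
    obtain ⟨β, hβ, e⟩ := Bivar.exists_rep (φ (ChowOps.cl α hα))
    refine ⟨β, hβ, e.symm, fun w hw γ hγ hγm w' hw' => ?_⟩
    obtain ⟨ζ, hζ⟩ := exists_gys (i := j) hS' hN β (gysinChoice_ne_zero τ hw')
    refine ⟨ζ, gys_mem hj hl hβ hζ, hζ, ?_⟩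
    have := H (ChowOps.cl α hα)
    rw [gysCH_cl hS hi hL hσ hk α hα w hw γ hγ hγm, ← e,
      gysCH_cl hS' hj hN hτ hl β hβ w' hw' ζ hζ (gys_mem hj hl hβ hζ)] at this
    exact this

theorem gysinOK₁_iff (hS : IsSetup S δS) (i : D ⟶ S) [IsClosedImmersion i]
    (hi : DeltaCompat i δD δS)
    {L : S.Modules} (hL : PicF.IsInvertible L)
    {σ : L.presheaf.obj (op ⊤)} (hσ : IsZeroSchemeOf i L σ)
    {k l k₁ l₁ : ℤ} (hk : k = k₁ + 1) (hl : l = l₁ + 1)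
    (φ : ChowOps.CH S δS k →+ ChowOps.CH S δS l)
    (ψ : ChowOps.CH D δD k₁ →+ ChowOps.CH D δD l₁) :
    Bivar.GysinOK₁ δS δD i L σ φ ψ ↔
      ∀ x, ψ (gysCH i hS hi hL hσ hk x) = gysCH i hS hi hL hσ hl (φ x) := by
  constructor
  · intro H x
    obtain ⟨α, hα, rfl⟩ := Bivar.exists_rep x
    obtain ⟨β, hβ, e1, e2⟩ := H α hα
    obtain ⟨ζ, hζ, e3, e4⟩ := e2 (nz hL) (nz_ne_zero hL) (gysCyc i hS hL σ α)
      (gysCyc_apply hS hL σ α) (gys_mem hi hk hα (gysCyc_apply hS hL σ α))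
    rw [e1, gysCH_cl', e4]
    exact (gysCH_cl hS hi hL hσ hl β hβ (nz hL) (nz_ne_zero hL) ζ e3 hζ).symm
  · intro H α hα
    obtain ⟨β, hβ, e⟩ := Bivar.exists_rep (φ (ChowOps.cl α hα))
    refine ⟨β, hβ, e.symm, fun w hw γ hγ hγm => ?_⟩
    obtain ⟨ζ, hζ⟩ := exists_gys (i := i) hS hL β (gysinChoice_ne_zero σ hw)
    refine ⟨ζ, gys_mem hi hl hβ hζ, hζ, ?_⟩
    have := H (ChowOps.cl α hα)
    rw [gysCH_cl hS hi hL hσ hk α hα w hw γ hγ hγm, ← e,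
      gysCH_cl hS hi hL hσ hl β hβ w hw ζ hζ (gys_mem hi hl hβ hζ)] at this
    exact this

/-! ### `c_1(L) ∩ -` as the Gysin map of the zero section -/

theorem isZeroSchemeOf_zero {X : Scheme.{u}} {L : X.Modules} (hL : PicF.IsInvertible L) :
    IsZeroSchemeOf (𝟙 X) L 0 := by
  refine ⟨?_, fun d => ?_⟩
  · ext x
    have : val L 0 x = 0 := by rw [val_eq, map_zero, map_zero]
    constructor
    · intro _
      exact this
    · intro _
      exact ⟨x, rfl⟩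
  · obtain ⟨t, ht⟩ := exists_isGen hL ((𝟙 X : X ⟶ X) d)
    refine ⟨t, 0, ht.span_eq_top, by rw [map_zero, zero_smul], ?_⟩
    rw [Ideal.span_singleton_zero]
    have hb : Function.Bijective ((𝟙 X : X ⟶ X).stalkMap d).hom :=
      ConcreteCategory.bijective_of_isIso ((𝟙 X : X ⟶ X).stalkMap d)
    exact (RingHom.injective_iff_ker_eq_bot _).1 hb.1

variable {X Y : Scheme.{u}} {δX : X → ℤ} {δY : Y → ℤ} {δ : X → ℤ}

/-- `c_1(L) ∩ -` on Chow groups. -/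
noncomputable def c1CH (hX : IsSetup X δX) {L : X.Modules} (hL : PicF.IsInvertible L) {k l : ℤ}
    (hl : k = l + 1) : ChowOps.CH X δX k →+ ChowOps.CH X δX l :=
  gysCH (𝟙 X) hX (Bivar.deltaCompat_id δX) hL (isZeroSchemeOf_zero hL) hl

theorem gysinChoice_zero {L : X.Modules} (w : (ξ : X) → secFibre L ξ) :
    gysinChoice L 0 w = w := by
  funext ξ
  apply gysinChoice_of_eq
  rw [val_eq, map_zero, map_zero]

theorem c1CH_cl (hX : IsSetup X δX) {L : X.Modules} (hL : PicF.IsInvertible L) {k l : ℤ}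
    (hl : k = l + 1) (α : AlgebraicCycle X ℤ) (hα : α ∈ Zk X δX k) (w : (ξ : X) → secFibre L ξ)
    (hw : ∀ ξ, w ξ ≠ 0) (γ : AlgebraicCycle X ℤ) (hγ : ⇑γ = c1CapFun δX L ⇑α w)
    (hγm : γ ∈ Zk X δX l) : c1CH hX hL hl (ChowOps.cl α hα) = ChowOps.cl γ hγm := by
  refine gysCH_cl hX _ hL _ hl α hα w hw γ (fun d => ?_) hγm
  rw [gysinChoice_zero, hγ]
  rfl

theorem c1_mem {L : X.Modules} {k l : ℤ} (hl : k = l + 1) {α : AlgebraicCycle X ℤ}
    (hα : α ∈ Zk X δX k) {w : (ξ : X) → secFibre L ξ} {γ : AlgebraicCycle X ℤ}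
    (hγ : ⇑γ = c1CapFun δX L ⇑α w) : γ ∈ Zk X δX l :=
  gys_mem (i := 𝟙 X) (Bivar.deltaCompat_id δX) hl hα (fun d => by rw [hγ]; rfl)

/-- A cycle computing `c_1(L) ∩ α`. -/
theorem exists_c1 (hX : IsSetup X δX) {L : X.Modules} (hL : PicF.IsInvertible L)
    (α : AlgebraicCycle X ℤ) {w : (ξ : X) → secFibre L ξ} (hw : ∀ ξ, w ξ ≠ 0) :
    ∃ γ : AlgebraicCycle X ℤ, ⇑γ = c1CapFun δX L ⇑α w := by
  have := hX.1
  exact CapComm.exists_cycle_c1CapFun hX.2.2 hL α hw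

theorem c1CH_iso (hX : IsSetup X δX) {L L' : X.Modules} (hL : PicF.IsInvertible L)
    (hL' : PicF.IsInvertible L') (e : L ≅ L') {k l : ℤ}
    (hl : k = l + 1) (x : ChowOps.CH X δX k) : c1CH hX hL hl x = c1CH hX hL' hl x := by
  unfold c1CH
  rw [gysCH_indep hX (Bivar.deltaCompat_id δX) hL (isZeroSchemeOf_zero hL) hL'
    (isZeroSchemeOf_zero hL') ((Scheme.Modules.pullback (𝟙 X)).mapIso e) hl]

theorem c1CH_chCast (hX : IsSetup X δX) {L : X.Modules} (hL : PicF.IsInvertible L)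
    {k k' l l' : ℤ} (hl : k = l + 1) (hl' : k' = l' + 1) (e : k = k') (e' : l = l')
    (x : ChowOps.CH X δX k) : c1CH hX hL hl' (Bivar.chCast X δX e x) =
      Bivar.chCast X δX e' (c1CH hX hL hl x) := by
  subst e e'; rfl

/-- Projection formula. -/
theorem c1CH_pushCH (f : X ⟶ Y) [IsProper f] (hX : IsSetup X δX) (hY : IsSetup Y δY)
    (hf : DeltaCompat f δX δY) {L : Y.Modules} {L' : X.Modules} (hL : PicF.IsInvertible L)
    (hL' : PicF.IsInvertible L') (e : (Scheme.Modules.pullback f).obj L ≅ L') {k l : ℤ}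
    (hl : k = l + 1) (x : ChowOps.CH X δX k) :
    c1CH hY hL hl (pushCH f hY hf k x) = pushCH f hY hf l (c1CH hX hL' hl x) :=
  gysCH_pushCH (IsPullback.of_horiz_isIso ⟨by simp⟩ : IsPullback (𝟙 X) f f (𝟙 Y)) hY hX hY hf
    (Bivar.deltaCompat_id δY) (Bivar.deltaCompat_id δX) hf hL hL' (isZeroSchemeOf_zero hL)
    (isZeroSchemeOf_zero hL') e hl x

theorem c1CH_pullCH (f : X ⟶ Y) [Flat f] (hX : IsSetup X δX) (hY : IsSetup Y δY)
    {c : ℤ} (hf : Shift f δX δY c) {L : Y.Modules} {L' : X.Modules} (hL : PicF.IsInvertible L)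
    (hL' : PicF.IsInvertible L') (e : (Scheme.Modules.pullback f).obj L ≅ L') {k l m n : ℤ}
    (hl : k = l + 1) (hm : m = k + c) (hn : n = l + c) (hmn : m = n + 1)
    (x : ChowOps.CH Y δY k) :
    c1CH hX hL' hmn (pullCH f hX hY hf hm x) = pullCH f hX hY hf hn (c1CH hY hL hl x) :=
  gysCH_pullCH (IsPullback.of_horiz_isIso ⟨by simp⟩ : IsPullback (𝟙 X) f f (𝟙 Y)) hY hX hY hX
    (Bivar.deltaCompat_id δY) (Bivar.deltaCompat_id δX) hf hf hL hL' (isZeroSchemeOf_zero hL)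
    (isZeroSchemeOf_zero hL') e hl hm hn hmn x

/-- `i^* (c_1(N) ∩ x) = c_1(i^* N) ∩ i^* x`. -/
theorem gysCH_c1CH (i : D ⟶ X) [IsClosedImmersion i] (hX : IsSetup X δX) (hD : IsSetup D δD)
    (hi : DeltaCompat i δD δX) {L N : X.Modules} {N' : D.Modules} (hL : PicF.IsInvertible L)
    (hN : PicF.IsInvertible N) (hN' : PicF.IsInvertible N') {σ : L.presheaf.obj (op ⊤)}
    (hσ : IsZeroSchemeOf i L σ)
    (e : (Scheme.Modules.pullback i).obj N ≅ N') {k l l' m : ℤ}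
    (hl : k = l + 1) (hl' : k = l' + 1) (hm : l = m + 1) (hm' : l' = m + 1)
    (x : ChowOps.CH X δX k) :
    gysCH i hX hi hL hσ hm (c1CH hX hN hl x) = c1CH hD hN' hm' (gysCH i hX hi hL hσ hl' x) := by
  symm
  have hLi := isInvertible_pullback (𝟙 X) hL
  have h1 := gysCH_gysCH (i := i) (i' := 𝟙 X) (j := 𝟙 D) (j' := i)
    (IsPullback.of_horiz_isIso ⟨by simp⟩ : IsPullback (𝟙 D) i i (𝟙 X)) hX hD hX hi
    (Bivar.deltaCompat_id δX) (Bivar.deltaCompat_id δD) hi hL hN hN' hL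
    hσ (isZeroSchemeOf_zero hN) (isZeroSchemeOf_zero hN') hσ e
    ((Scheme.Modules.pullbackId X).app L) hl' hl hm' hm x
  exact h1

theorem c1CH_c1CH (hX : IsSetup X δX) {L N : X.Modules} (hL : PicF.IsInvertible L)
    (hN : PicF.IsInvertible N) {k l l' m : ℤ}
    (hl : k = l + 1) (hl' : k = l' + 1) (hm : l = m + 1) (hm' : l' = m + 1)
    (x : ChowOps.CH X δX k) :
    c1CH hX hL hm (c1CH hX hN hl x) = c1CH hX hN hm' (c1CH hX hL hl' x) :=
  gysCH_c1CH (𝟙 X) hX hX (Bivar.deltaCompat_id δX) hL hN hN (isZeroSchemeOf_zero hL)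
    ((Scheme.Modules.pullbackId X).app N) hl hl' hm hm' x

end K930.OKs
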