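import Groth.Agent.Bivar.K930.ClOps

/-!
# Pushing forward bivariant classes along a proper morphism
-/

set_option autoImplicit false
universe u v
open CategoryTheory AlgebraicGeometry CategoryTheory.Limits Opposite

namespace K930.ProperPush

open Groth.Agent Groth.Agent.CycB K930.Chow K930.ModIso K930.PushPull K930.Gysin K930.ZeroSch
open K930.OpenImm K930.GysinComm K930.OKs K930.TestSch K930.RelDimBC K930.ClOps Cyc

variable {X Y Z : Scheme.{u}} {δX : X → ℤ} {δY : Y → ℤ} {δZ : Z → ℤ} {f : X ⟶ Y} {g : Y ⟶ Z}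

/-- The square over the composite attached to a square over the second map and a fibre product. -/
abbrev mkSq (s : Bivar.Sq g δY δZ) {X' : Scheme.{u}} {f' : X' ⟶ s.X'} {gX : X' ⟶ X}
    (hp : IsPullback f' gX s.g' f) {δX' : X' → ℤ} (hX' : Cyc.DeltaCompat gX δX' δX) :
    Bivar.Sq (f ≫ g) δX δZ :=
  ⟨s.Y', X', s.g, f' ≫ s.f', gX, hp.paste_horiz s.isPullback, s.lft, s.δY', δX', s.compatY, hX'⟩

section

variable (hX : IsSetup X δX) (hY : IsSetup Y δY) (hZ : IsSetup Z δZ)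
  (hδf : DeltaCompat f δX δY) {s t : Bivar.Sq g δY δZ}
  {Xs : Scheme.{u}} {fs : Xs ⟶ s.X'} {gs : Xs ⟶ X}
  (hs : IsPullback fs gs s.g' f) {δs : Xs → ℤ} (hδs : Cyc.DeltaCompat gs δs δX)
  {Xt : Scheme.{u}} {ft : Xt ⟶ t.X'} {gt : Xt ⟶ X}
  (ht : IsPullback ft gt t.g' f) {δt : Xt → ℤ} (hδt : Cyc.DeltaCompat gt δt δX)

include hs hδf hδs in
theorem deltaCompat_fs [LocallyOfFiniteType f] : DeltaCompat fs δs s.δX' := by
  have : LocallyOfFiniteType fs := MorphismProperty.of_isPullback hs.flip ‹_›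
  exact deltaCompat_of_comm hs.w.symm hδs hδf s.compatX

include hs ht in
/-- The induced map of fibre products. -/
theorem exists_lift (h' : t.X' ⟶ s.X') (w : h' ≫ s.g' = t.g') :
    ∃ h'' : Xt ⟶ Xs, IsPullback h'' ft fs h' ∧ h'' ≫ gs = gt := by
  have w2 : (ft ≫ h') ≫ s.g' = gt ≫ f := by rw [Category.assoc, w, ht.w]
  refine ⟨hs.lift (ft ≫ h') gt w2, ?_, hs.lift_snd _ _ _⟩
  refine (IsPullback.of_right (h₁₂ := gs) (h₂₂ := s.g') (v₁₃ := f) ?_
    (hs.lift_fst _ _ w2) hs.flip)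
  rw [hs.lift_snd, w]
  exact ht.flip

end

section

variable [IsProper f] (hX : IsSetup X δX) (hY : IsSetup Y δY) (hZ : IsSetup Z δZ)
  (hδf : DeltaCompat f δX δY) {s t : Bivar.Sq g δY δZ}
  {Xs : Scheme.{u}} {fs : Xs ⟶ s.X'} {gs : Xs ⟶ X}
  (hs : IsPullback fs gs s.g' f) {δs : Xs → ℤ} (hδs : Cyc.DeltaCompat gs δs δX)
  {Xt : Scheme.{u}} {ft : Xt ⟶ t.X'} {gt : Xt ⟶ X}
  (ht : IsPullback ft gt t.g' f) {δt : Xt → ℤ} (hδt : Cyc.DeltaCompat gt δt δX)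
  {p : ℤ} (c : Bivar.Cl p (f ≫ g) δX δZ)

/-- The operation `f_* ∘ c`. -/
noncomputable def ppOp [IsProper fs] (k : ℤ) :
    ChowOps.CH s.Y' s.δY' k →+ ChowOps.CH s.X' s.δX' (k - p) :=
  (pushCH fs (setup_X' s hY) (deltaCompat_fs hδf hs hδs) (k - p)).comp (c.op (mkSq s hs hδs) k)

variable [IsProper fs] [IsProper ft]

include hX hZ in
theorem ppOp_push {h : t.Y' ⟶ s.Y'} [IsProper h] {h' : t.X' ⟶ s.X'} [IsProper h']
    (w₁ : h ≫ s.g = t.g) (w₂ : h' ≫ s.f' = t.f' ≫ h) (w₃ : h' ≫ s.g' = t.g') {k : ℤ}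
    (x : ChowOps.CH t.Y' t.δY' k) :
    ppOp hY hδf hs hδs c k (pushCH h (setup_Y' s hZ) (deltaCompat_h w₁) k x) =
      pushCH h' (setup_X' s hY) (deltaCompat_h' w₃) (k - p) (ppOp hY hδf ht hδt c k x) := by
  obtain ⟨h'', hp, w₄⟩ := exists_lift hs ht h' w₃
  have : IsProper h'' := MorphismProperty.of_isPullback hp.flip ‹_›
  have hd : DeltaCompat (h'' ≫ fs) δt s.δX' := deltaCompat_congr hp.w.symm
    (Bivar.deltaCompat_comp _ _ _ _ _ (deltaCompat_fs hδf ht hδt) (deltaCompat_h' w₃))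
  have := cl_push c hX hZ (s := mkSq s hs hδs) (t := mkSq t ht hδt) (h := h) (h' := h'') w₁
    (by change h'' ≫ fs ≫ s.f' = (ft ≫ t.f') ≫ h; rw [← Category.assoc, hp.w, Category.assoc,
          Category.assoc, w₂]) w₄ x
  rw [ppOp, ppOp, AddMonoidHom.comp_apply, AddMonoidHom.comp_apply]
  change pushCH fs _ _ _ (c.op (mkSq s hs hδs) k _) = _
  refine (congrArg _ this).trans ?_
  rw [pushCH_comp h'' fs _ _ _ _ hd, pushCH_comp ft h' _ _ _ _
    (deltaCompat_congr hp.w hd), pushCH_congr hp.w]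

include hX hZ in
theorem ppOp_pull {h : t.Y' ⟶ s.Y'} [Flat h] {h' : t.X' ⟶ s.X'} [Flat h'] {r : ℕ}
    (hr : HasRelDim h r) (hr' : HasRelDim h' r)
    (w₁ : h ≫ s.g = t.g) (w₂ : h' ≫ s.f' = t.f' ≫ h) (w₃ : h' ≫ s.g' = t.g') {k k' : ℤ}
    (hk : k' = k + r) (hk' : k' - p = k - p + r) (x : ChowOps.CH s.Y' s.δY' k) :
    ppOp hY hδf ht hδt c k' (pullCH h (setup_Y' t hZ) (setup_Y' s hZ) (shift_h w₁ hr) hk x) =
      pullCH h' (setup_X' t hY) (setup_X' s hY) (shift_h' w₃ hr') hk'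
        (ppOp hY hδf hs hδs c k x) := by
  obtain ⟨h'', hp, w₄⟩ := exists_lift hs ht h' w₃
  have : Flat h'' := flat_of_isPullback hp
  have := lft_h' w₃
  have hr'' : HasRelDim h'' r := hasRelDim_of_isPullback hp hr'
  have := cl_pull c hX hZ (s := mkSq s hs hδs) (t := mkSq t ht hδt) (h := h) (h' := h'') hr hr'' w₁
    (by change h'' ≫ fs ≫ s.f' = (ft ≫ t.f') ≫ h; rw [← Category.assoc, hp.w, Category.assoc,
          Category.assoc, w₂]) w₄ hk hk' x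
  rw [ppOp, ppOp, AddMonoidHom.comp_apply, AddMonoidHom.comp_apply]
  refine (congrArg _ this).trans ?_
  rw [pullCH_pushCH hp.flip _ _ (setup_X' (mkSq t ht hδt) hX) (setup_X' t hY)]

include hX hZ in
theorem ppOp_gysin {i : t.Y' ⟶ s.Y'} [IsClosedImmersion i] {j : t.X' ⟶ s.X'} [IsClosedImmersion j]
    (w₁ : i ≫ s.g = t.g) (w₂ : j ≫ s.f' = t.f' ≫ i) (w₃ : j ≫ s.g' = t.g')
    {L : s.Y'.Modules} (hL : PicF.IsInvertible L) {σ : L.presheaf.obj (op ⊤)}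
    (hσ : IsZeroSchemeOf i L σ) {N : s.X'.Modules} (hN : PicF.IsInvertible N)
    {τ : N.presheaf.obj (op ⊤)} (hτ : IsZeroSchemeOf j N τ)
    (e : (Scheme.Modules.pullback s.f').obj L ≅ N) {k l : ℤ} (hk : k = l + 1)
    (hk' : k - p = l - p + 1) (x : ChowOps.CH s.Y' s.δY' k) :
    ppOp hY hδf ht hδt c l (gysCH i (setup_Y' s hZ) (deltaCompat_h w₁) hL hσ hk x) =
      gysCH j (setup_X' s hY) (deltaCompat_h' w₃) hN hτ hk' (ppOp hY hδf hs hδs c k x) := by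
  obtain ⟨h'', hp, w₄⟩ := exists_lift hs ht j w₃
  have : IsClosedImmersion h'' := MorphismProperty.of_isPullback hp.flip ‹_›
  have hN' := CycB.C1Pull.isInvertible_pullback fs hN
  have hτ' := isZeroSchemeOf_pullSec hp hN hτ
  have := cl_gysin c hX hZ (s := mkSq s hs hδs) (t := mkSq t ht hδt) (i := i) (j := h'') w₁
    (by change h'' ≫ fs ≫ s.f' = (ft ≫ t.f') ≫ i; rw [← Category.assoc, hp.w, Category.assoc,
          Category.assoc, w₂]) w₄ hL hσ hN' hτ'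
    ((pbIso (g' := fs ≫ s.f') rfl L).symm ≪≫ (Scheme.Modules.pullback fs).mapIso e) hk hk' x
  rw [ppOp, ppOp, AddMonoidHom.comp_apply, AddMonoidHom.comp_apply]
  refine (congrArg _ this).trans ?_
  rw [gysCH_pushCH hp _ (setup_X' (mkSq s hs hδs) hX) (setup_X' t hY)]
  exact Iso.refl _

end

section

variable [IsProper f] (hX : IsSetup X δX) (hY : IsSetup Y δY) (hZ : IsSetup Z δZ)
  (hδf : DeltaCompat f δX δY) {s : Bivar.Sq g δY δZ}
  {Xs : Scheme.{u}} {fs : Xs ⟶ s.X'} {gs : Xs ⟶ X}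
  (hs : IsPullback fs gs s.g' f) {δs : Xs → ℤ} (hδs : Cyc.DeltaCompat gs δs δX)
  {Xt : Scheme.{u}} {ft : Xt ⟶ s.X'} {gt : Xt ⟶ X}
  (ht : IsPullback ft gt s.g' f) {δt : Xt → ℤ} (hδt : Cyc.DeltaCompat gt δt δX)
  {p : ℤ} (c : Bivar.Cl p (f ≫ g) δX δZ)
variable [IsProper fs] [IsProper ft]

include hX hZ in
/-- The operation does not depend on the fibre product. -/
theorem ppOp_indep {k : ℤ} (x : ChowOps.CH s.Y' s.δY' k) :
    ppOp hY hδf hs hδs c k x = ppOp hY hδf ht hδt c k x := by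
  have := ppOp_push hX hY hZ hδf hs hδs ht hδt c (h := 𝟙 _) (h' := 𝟙 _) (Category.id_comp _)
    (by simp) (Category.id_comp _) x
  rwa [pushCH_id, pushCH_id] at this

end

end K930.ProperPush
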