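import Groth.Agent.Bivar.K930.TestSch
import Groth.Agent.Flat2D.PbStalk
import Groth.Agent.S1535
import Groth.Agent.S0395
import Groth.Agent.S0558
import Groth.Agent.CycB.RelDim4

/-!
# Relative effective Cartier divisors in smooth schemes

`p : A ⟶ X` smooth of relative dimension `r + 1`, `u` a section of an invertible module on `A` which
does not vanish at the generic points of the fibres of `p`: then `u` is regular and its zero scheme
is flat of relative dimension `r` over `X`.
-/

set_option autoImplicit false
universe u v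
open CategoryTheory AlgebraicGeometry CategoryTheory.Limits Opposite

namespace K930.RelCart

open Groth.Agent Groth.Agent.CycB K930.Chow K930.ModIso K930.PushPull K930.Gysin K930.ZeroSch
open Groth.Agent.CycB.ModStalk Groth.Agent.CycB.C1Basic Groth.Agent.CycB.C1Pull
open Groth.Agent.CycB.GysinCl Cyc Groth.Agent.Divis CycB.RelDim IsLocalRing

variable {A X W : Scheme.{u}} {p : A ⟶ X} {N : A.Modules} {σ : N.presheaf.obj (op ⊤)} {i : W ⟶ A}

/-- The local rings of the fibres of a smooth morphism are domains. -/
theorem isDomain_fibre (p : A ⟶ X) [Smooth p] (w : A) :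
    IsDomain (A.presheaf.stalk w ⧸ (maximalIdeal (X.presheaf.stalk (p w))).map (p.stalkMap w).hom) := by
  have e := Flat2D.PbStalk.pbStalkEquiv
    (IsPullback.of_hasPullback p (X.fromSpecResidueField (p w))) (p.asFiber w) (p.fiberι_asFiber w)
  let F := pullback p (X.fromSpecResidueField (p w))
  let q : F ⟶ Spec (CommRingCat.of (X.residueField (p w))) := pullback.snd p (X.fromSpecResidueField (p w))
  have hq : Smooth q := inferInstanceAs (Smooth (pullback.snd p (X.fromSpecResidueField (p w))))
  let _ : F.Over (Spec (CommRingCat.of (X.residueField (p w)))) := ⟨q⟩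
  have : Smooth (F ↘ (Spec (CommRingCat.of (X.residueField (p w))))) := hq
  have h := S1535.result (X.residueField (p w)) F (p.asFiber w)
  have : IsDomain (F.presheaf.stalk (p.asFiber w)) := S0558.result _
  exact e.isDomain_iff.2 this

/-- A section not vanishing at the generic points of the fibres. -/
def FibNZ (p : A ⟶ X) (N : A.Modules) (σ : N.presheaf.obj (op ⊤)) : Prop :=
  ∀ η : A, FibGeneric p η → val N σ η ≠ 0

/-- The local coordinate of the section is nonzero in the local ring of the fibre. -/
theorem notMem_of_fibNZ [LocallyOfFiniteType p] (hN : PicF.IsInvertible N) (h : FibNZ p N σ) {w : A}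
    {t : N.presheaf.stalk w} (ht : IsGen N w t) {g : A.presheaf.stalk w}
    (hg : N.presheaf.germ ⊤ w trivial σ = g • t) :
    g ∉ (maximalIdeal (X.presheaf.stalk (p w))).map (p.stalkMap w).hom := by
  intro hmem
  obtain ⟨η, hs, hpη, hη⟩ := exists_fibGeneric_specializes p w
  refine h η hη ?_
  by_contra hne
  refine (val_ne_zero_iff_specMap hN σ hs ht hg).1 hne ?_
  rw [← residue_stalkSpecializes]
  refine (residue_eq_zero_iff _).2 ?_
  have h1 : (maximalIdeal (X.presheaf.stalk (p w))).map (p.stalkMap w).hom ≤
      (maximalIdeal (A.presheaf.stalk η)).comap (A.presheaf.stalkSpecializes hs).hom := by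
    rw [Ideal.map_le_iff_le_comap]
    intro a ha
    rw [Ideal.mem_comap, Ideal.mem_comap]
    have h2 : (A.presheaf.stalkSpecializes hs).hom ((p.stalkMap w).hom a) =
        (p.stalkMap η).hom ((X.presheaf.stalkSpecializes (hs.map p.continuous)).hom a) := by
      have := p.stalkSpecializes_stalkMap_apply η w hs a
      exact this.symm
    rw [h2]
    have h3 : (X.presheaf.stalkSpecializes (hs.map p.continuous)).hom a ∈
        maximalIdeal (X.presheaf.stalk (p η)) := by
      rw [mem_maximalIdeal, mem_nonunits_iff] at ha ⊢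
      intro hu
      apply ha
      have hb : Function.Bijective (X.presheaf.stalkSpecializes (hs.map p.continuous)).hom :=
        Flat2D.PbStalk.bijective_stalkSpecializes_of_eq hpη
      exact (isUnit_map_iff (RingEquiv.ofBijective
        (X.presheaf.stalkSpecializes (hs.map p.continuous)).hom hb) a).1 hu
    have hloc : IsLocalHom (p.stalkMap η).hom := inferInstance
    have hle : maximalIdeal (X.presheaf.stalk (p η)) ≤
        (maximalIdeal (A.presheaf.stalk η)).comap (p.stalkMap η).hom :=
      ((local_hom_TFAE (p.stalkMap η).hom).out 0 3).1 hloc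
    exact hle h3
  exact h1 hmem

theorem mem_nonZeroDivisors [Smooth p] (hN : PicF.IsInvertible N) (h : FibNZ p N σ) {w : A}
    {t : N.presheaf.stalk w} (ht : IsGen N w t) {g : A.presheaf.stalk w}
    (hg : N.presheaf.germ ⊤ w trivial σ = g • t) :
    Ideal.Quotient.mk ((maximalIdeal (X.presheaf.stalk (p w))).map (p.stalkMap w).hom) g ∈
      nonZeroDivisors (A.presheaf.stalk w ⧸
        (maximalIdeal (X.presheaf.stalk (p w))).map (p.stalkMap w).hom) := by
  have := isDomain_fibre p w
  rw [mem_nonZeroDivisors_iff_ne_zero, ne_eq, Ideal.Quotient.eq_zero_iff_mem]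
  exact notMem_of_fibNZ hN h ht hg

variable (p) in
theorem slice [Smooth p] [IsLocallyNoetherian X] (hN : PicF.IsInvertible N) (h : FibNZ p N σ) {w : A}
    {t : N.presheaf.stalk w} (ht : IsGen N w t) {g : A.presheaf.stalk w}
    (hg : N.presheaf.germ ⊤ w trivial σ = g • t) :
    ((Ideal.Quotient.mk (Ideal.span {g})).comp (p.stalkMap w).hom).Flat ∧
      g ∈ nonZeroDivisors (A.presheaf.stalk w) := by
  have : IsLocallyNoetherian A := LocallyOfFiniteType.isLocallyNoetherian p
  let _ : Algebra (X.presheaf.stalk (p w)) (A.presheaf.stalk w) := (p.stalkMap w).hom.toAlgebra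
  have : IsLocalHom (algebraMap (X.presheaf.stalk (p w)) (A.presheaf.stalk w)) :=
    inferInstanceAs (IsLocalHom (p.stalkMap w).hom)
  have : Module.Flat (X.presheaf.stalk (p w)) (A.presheaf.stalk w) := Flat.stalkMap p w
  obtain ⟨h1, h2⟩ := S0395.result (R := X.presheaf.stalk (p w)) (S := A.presheaf.stalk w) g
    (mem_nonZeroDivisors hN h ht hg)
  refine ⟨?_, h2⟩
  exact h1

/-- The section is regular. -/
theorem regular (p : A ⟶ X) [Smooth p] [IsLocallyNoetherian X] (hN : PicF.IsInvertible N)
    (h : FibNZ p N σ) (w : A) :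
    Function.Injective (fun a : A.presheaf.stalk w => a • (N.presheaf.germ ⊤ w trivial) σ) := by
  obtain ⟨t, ht⟩ := exists_isGen hN w
  obtain ⟨g, hg⟩ := ht.2 ((N.presheaf.germ ⊤ w trivial) σ)
  dsimp only at hg
  intro a b hab
  dsimp only at hab
  rw [← hg, smul_smul, smul_smul] at hab
  have h1 := ht.1 hab
  have h2 := (slice p hN h ht hg.symm).2
  exact (mul_cancel_right_mem_nonZeroDivisors h2).1 h1

/-- The zero scheme is flat over the base. -/
theorem flat (p : A ⟶ X) [Smooth p] [IsLocallyNoetherian X] (hN : PicF.IsInvertible N)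
    (h : FibNZ p N σ) [IsClosedImmersion i] (hi : IsZeroSchemeOf i N σ) : Flat (i ≫ p) := by
  rw [Flat.iff_flat_stalkMap]
  intro w
  obtain ⟨t, g, ht, hg, hk⟩ := hi.2 w
  have h1 := (slice p hN h (isGen_of_span_eq_top hN ht) hg).1
  have hs : Function.Surjective (i.stalkMap w).hom := i.stalkMap_surjective w
  let e : (A.presheaf.stalk (i w) ⧸ Ideal.span {g}) ≃+* W.presheaf.stalk w :=
    (Ideal.quotEquivOfEq hk.symm).trans (RingHom.quotientKerEquivOfSurjective hs)
  have h2 : ((i ≫ p).stalkMap w).hom =
      (e : _ →+* _).comp ((Ideal.Quotient.mk (Ideal.span {g})).comp (p.stalkMap (i w)).hom) := by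
    rw [Scheme.Hom.stalkMap_comp]
    ext a
    rfl
  rw [h2]
  exact h1.comp (RingHom.Flat.of_bijective e.bijective)

/-- The relative dimension drops by one. -/
theorem hasRelDim (p : A ⟶ X) [LocallyOfFiniteType p] {δX : X → ℤ} (hX : IsSetup X δX)
    (hN : PicF.IsInvertible N)
    (h : FibNZ p N σ) [IsClosedImmersion i] (hi : IsZeroSchemeOf i N σ) {r : ℕ}
    (hr : HasRelDim p (r + 1)) : HasRelDim (i ≫ p) r := by
  rw [hasRelDim_iff]
  intro w hw
  obtain ⟨δA, hδA⟩ := SetupLft.exists_deltaCompat p δX
  have hA : IsSetup A δA := setup_of p hX hδA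
  have := hA.1
  obtain ⟨η, hs, hpη, hη⟩ := exists_fibGeneric_specializes p (i w)
  -- `η ⤳ i w` is an immediate specialization
  have hne : η ≠ i w := by
    intro he
    refine h η hη ?_
    rw [he]
    exact val_apply_eq_zero hi w
  have him : ∀ z : A, η ⤳ z → z ⤳ i w → z = η ∨ z = i w := by
    intro z hz1 hz2
    by_contra hcon
    rw [not_or] at hcon
    obtain ⟨hzη, hzw⟩ := hcon
    -- points of the zero locus between `η` and `i w`
    have key : ∀ z' : A, η ⤳ z' → z' ⤳ i w → val N σ z' = 0 → z' = i w := by
      intro z' h1 h2 h3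
      obtain ⟨w', rfl⟩ := (mem_range_iff hi z').2 h3
      have h4 : w' ⤳ w := i.isClosedEmbedding.isInducing.specializes_iff.1 h2
      have h5 : p (i w') = p (i w) := by
        refine (((h2.map p.continuous).antisymm ?_)).eq
        rw [← hpη]
        exact h1.map p.continuous
      rw [hw w' h5 h4]
    obtain ⟨t, ht⟩ := exists_isGen hN (i w)
    obtain ⟨g, hg⟩ := ht.2 ((N.presheaf.germ ⊤ (i w) trivial) σ)
    dsimp only at hg
    let B := LocQuot (i w) η hs
    let g' : B := Ideal.Quotient.mk _ g
    have hmin : maximalIdeal B ∈ (Ideal.span {g'}).minimalPrimes := by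
      refine ⟨⟨inferInstance, ?_⟩, ?_⟩
      · rw [Ideal.span_singleton_le_iff_mem]
        have h1 : g ∈ maximalIdeal (A.presheaf.stalk (i w)) := by
          have h2 := val_apply_eq_zero hi w
          by_contra hne
          rw [← ne_eq] at *
          refine (val_ne_zero_iff_specMap hN σ (specializes_refl _) ht hg.symm).2 ?_ h2
          intro h3
          apply hne
          rw [← LocQuot.ker_refl]
          exact h3
        intro hu
        exact h1 (isUnit_of_map_unit (Ideal.Quotient.mk _) g hu)
      · rintro Q ⟨hQ1, hQ2⟩ hQ3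
        obtain ⟨z', hz', hηz', hQ⟩ := LocQuot.exists_comap_eq_ker hs Q
        have h1 : g ∈ RingHom.ker (specMap (i w) z' hz') := by
          rw [← hQ, Ideal.mem_comap]
          exact (Ideal.span_singleton_le_iff_mem _).1 hQ2
        have h2 : val N σ z' = 0 := by
          by_contra hne
          exact (val_ne_zero_iff_specMap hN σ hz' ht hg.symm).1 hne h1
        obtain rfl := key z' hηz' hz' h2
        rw [LocQuot.ker_refl] at hQ
        have h3 : maximalIdeal B ≤ Q := by
          intro b hb
          obtain ⟨a, rfl⟩ := Ideal.Quotient.mk_surjective b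
          have : a ∈ Q.comap (Ideal.Quotient.mk _) := by
            rw [hQ]
            intro hu
            exact hb (hu.map _)
          exact this
        exact h3
    have hht := Ideal.height_le_one_of_isPrincipal_of_mem_minimalPrimes _ _ hmin
    have hle := (LocQuot.ker_le_iff hs hz2).2 hz1
    have hmk : Function.Surjective (Ideal.Quotient.mk (RingHom.ker (specMap (i w) η hs))) :=
      Ideal.Quotient.mk_surjective
    let Q : Ideal B := (RingHom.ker (specMap (i w) z hz2)).map (Ideal.Quotient.mk _)
    have hQc : Q.comap (Ideal.Quotient.mk _) = RingHom.ker (specMap (i w) z hz2) := by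
      rw [Ideal.comap_map_of_surjective _ hmk, ← RingHom.ker_eq_comap_bot, Ideal.mk_ker]
      exact sup_eq_left.2 hle
    have hQ : Q.IsPrime := Ideal.map_isPrime_of_surjective hmk (by rw [Ideal.mk_ker]; exact hle)
    have h0 : (⊥ : Ideal B) < Q := by
      rw [bot_lt_iff_ne_bot]
      intro h0
      rw [h0, ← RingHom.ker_eq_comap_bot, Ideal.mk_ker, LocQuot.ker_inj] at hQc
      exact hzη hQc.symm
    have h1 : Q < maximalIdeal B := by
      refine lt_of_le_of_ne (le_maximalIdeal hQ.ne_top) fun h1 => ?_
      rw [h1] at hQc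
      have h2 : (maximalIdeal B).comap (Ideal.Quotient.mk _) =
          RingHom.ker (specMap (i w) (i w) (specializes_refl _)) := by
        rw [LocQuot.ker_refl]
        exact ((local_hom_TFAE (Ideal.Quotient.mk (RingHom.ker (specMap (i w) η hs)))).out 0 4).1
          (IsLocalHom.of_surjective _ hmk)
      rw [h2, LocQuot.ker_inj] at hQc
      exact hzw hQc.symm
    have h3 := Ideal.height_add_one_le_of_lt_of_isPrime h0
    have h4 := (Ideal.height_add_one_le_of_lt_of_isPrime h1).trans hht
    rw [Ideal.height_bot, zero_add] at h3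
    have h5 : (1 : ℕ∞) + 1 ≤ 1 := (add_le_add_left h3 1).trans h4
    exact absurd h5 (by decide)
  have h1 := (hA.2.2 η (i w) hs hne).2 him
  have h2 := (fibGeneric_iff_delta hr hδA η).1 hη
  rw [h2, hpη] at h1
  obtain ⟨n, hn, hδn⟩ := (deltaCompat_iff.mp hδA) (i w)
  have : n = r := by push_cast at h1; omega
  rw [rtd_comp, hn, rtd_eq_zero_of_isPreimmersion, add_zero, this]

end K930.RelCart
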