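import Groth.Agent.Bivar.K930.TestSch
import Groth.Agent.CycB.RelDim4

/-!
# Relative dimension in cartesian squares
-/

set_option autoImplicit false
universe u v
open CategoryTheory AlgebraicGeometry CategoryTheory.Limits Opposite

namespace K930.RelDimBC

open Groth.Agent Groth.Agent.CycB K930.Chow K930.PushPull K930.OpenImm Cyc

variable {X Y X' Y' Z : Scheme.{u}}

theorem hasRelDim_iso_comp (e : X' ⟶ X) [IsIso e] (p : X ⟶ Y) [LocallyOfFiniteType p] {r : ℕ}
    (hr : HasRelDim p r) : HasRelDim (e ≫ p) r := by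
  rw [RelDim.hasRelDim_iff] at hr ⊢
  intro x hx
  have h1 : RelDim.FibGeneric p (e x) := by
    intro y hy hs
    obtain ⟨y', rfl⟩ := e.surjective y
    rw [hx y' hy ((e.isOpenEmbedding.isInducing.specializes_iff).1 hs)]
  rw [RelDim.rtd_comp, hr (e x) h1, rtd_open, add_zero]

/-- Relative dimension is stable under base change. -/
theorem hasRelDim_of_isPullback {f' : X' ⟶ Y'} {g' : X' ⟶ X} {g : Y' ⟶ Y} {f : X ⟶ Y}
    (h : IsPullback f' g' g f) [LocallyOfFiniteType f] {r : ℕ} (hr : HasRelDim f r) :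
    HasRelDim f' r := by
  rw [← h.isoPullback_hom_fst]
  exact hasRelDim_iso_comp _ _ (RelDim.hasRelDim_fst hr)

theorem hasRelDim_congr {f g : X ⟶ Y} (e : f = g) {r : ℕ} (h : HasRelDim f r) : HasRelDim g r :=
  e ▸ h

theorem flat_of_isPullback {f' : X' ⟶ Y'} {g' : X' ⟶ X} {g : Y' ⟶ Y} {f : X ⟶ Y}
    (h : IsPullback f' g' g f) [Flat f] : Flat f' :=
  MorphismProperty.of_isPullback h.flip ‹_›

theorem proper_of_isPullback {f' : X' ⟶ Y'} {g' : X' ⟶ X} {g : Y' ⟶ Y} {f : X ⟶ Y}
    (h : IsPullback f' g' g f) [IsProper f] : IsProper f' :=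
  MorphismProperty.of_isPullback h.flip ‹_›

end K930.RelDimBC
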