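import Groth.Agent.Bivar.K930.OKs

/-!
# Bookkeeping for test schemes: setups and dimension functions
-/

set_option autoImplicit false
universe u v
open CategoryTheory AlgebraicGeometry CategoryTheory.Limits Opposite

namespace K930.TestSch

open Groth.Agent Groth.Agent.CycB K930.Chow K930.ModIso K930.PushPull K930.Gysin K930.ZeroSch
open K930.OpenImm K930.GysinComm K930.OKs Cyc

variable {X Y Z : Scheme.{u}} {δX : X → ℤ} {δY : Y → ℤ} {δZ : Z → ℤ}

/-- Pulling back twice. -/
noncomputable def pbIso {h : X ⟶ Y} {g : Y ⟶ Z} {g' : X ⟶ Z} (w : h ≫ g = g') (L : Z.Modules) :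
    (Scheme.Modules.pullback h).obj ((Scheme.Modules.pullback g).obj L) ≅
      (Scheme.Modules.pullback g').obj L :=
  (Scheme.Modules.pullbackComp h g).app L ≪≫ (Scheme.Modules.pullbackCongr w).app L

/-- Compatible dimension functions along a morphism over a base. -/
theorem deltaCompat_over {h : X ⟶ Y} {g : Y ⟶ Z} {g' : X ⟶ Z} (w : h ≫ g = g')
    (hg' : LocallyOfFiniteType g')
    (c : DeltaCompat g δY δZ) (c' : DeltaCompat g' δX δZ) : DeltaCompat h δX δY := by
  have : LocallyOfFiniteType (h ≫ g) := by rw [w]; exact hg'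
  have : LocallyOfFiniteType h := locallyOfFiniteType_of_comp h g
  exact deltaCompat_of_comp h g (deltaCompat_congr w.symm c') c

theorem lft_over {h : X ⟶ Y} {g : Y ⟶ Z} {g' : X ⟶ Z} (w : h ≫ g = g')
    (hg' : LocallyOfFiniteType g') : LocallyOfFiniteType h := by
  have : LocallyOfFiniteType (h ≫ g) := by rw [w]; exact hg'
  exact locallyOfFiniteType_of_comp h g

section OSq

variable (hX : IsSetup X δX) (s t : Bivar.OSq X δX)

include hX in
theorem setup_OSq : IsSetup s.Y s.δ := by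
  have := s.lft
  exact setup_of s.g hX s.compat

variable {s t}

theorem deltaCompat_OSq {h : t.Y ⟶ s.Y} (w : h ≫ s.g = t.g) : DeltaCompat h t.δ s.δ :=
  deltaCompat_over w t.lft s.compat t.compat

theorem lft_OSq {h : t.Y ⟶ s.Y} (w : h ≫ s.g = t.g) : LocallyOfFiniteType h :=
  lft_over w t.lft

theorem shift_OSq {h : t.Y ⟶ s.Y} (w : h ≫ s.g = t.g) {r : ℕ} (hr : HasRelDim h r) :
    Shift h t.δ s.δ r := by
  have := lft_OSq w
  exact shift_of_hasRelDim hr (deltaCompat_OSq w)

end OSq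

section Sq

variable {f : X ⟶ Y} (s t : Bivar.Sq f δX δY)

theorem lft_f' [LocallyOfFiniteType f] : LocallyOfFiniteType s.f' :=
  MorphismProperty.of_isPullback s.isPullback.flip ‹_›

theorem lft_g' : LocallyOfFiniteType s.g' :=
  MorphismProperty.of_isPullback s.isPullback s.lft

theorem setup_Y' (hY : IsSetup Y δY) : IsSetup s.Y' s.δY' := by
  have := s.lft
  exact setup_of s.g hY s.compatY

theorem setup_X' (hX : IsSetup X δX) : IsSetup s.X' s.δX' := by
  have := lft_g' s
  exact setup_of s.g' hX s.compatX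

theorem deltaCompat_f' [LocallyOfFiniteType f] (hf : DeltaCompat f δX δY) :
    DeltaCompat s.f' s.δX' s.δY' := by
  have := lft_f' s
  exact deltaCompat_of_comm s.isPullback.w.symm s.compatX hf s.compatY

variable {s t}

theorem deltaCompat_h {h : t.Y' ⟶ s.Y'} (w : h ≫ s.g = t.g) : DeltaCompat h t.δY' s.δY' :=
  deltaCompat_over w t.lft s.compatY t.compatY

theorem lft_h {h : t.Y' ⟶ s.Y'} (w : h ≫ s.g = t.g) : LocallyOfFiniteType h :=
  lft_over w t.lft

theorem deltaCompat_h' {h' : t.X' ⟶ s.X'} (w : h' ≫ s.g' = t.g') : DeltaCompat h' t.δX' s.δX' :=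
  deltaCompat_over w (lft_g' t) s.compatX t.compatX

theorem lft_h' {h' : t.X' ⟶ s.X'} (w : h' ≫ s.g' = t.g') : LocallyOfFiniteType h' :=
  lft_over w (lft_g' t)

/-- The square formed by a map of squares is cartesian. -/
theorem isPullback_h {h : t.Y' ⟶ s.Y'} {h' : t.X' ⟶ s.X'} (w₁ : h ≫ s.g = t.g)
    (w₂ : h' ≫ s.f' = t.f' ≫ h) (w₃ : h' ≫ s.g' = t.g') : IsPullback t.f' h' h s.f' := by
  refine IsPullback.of_bot (h₃₁ := f) (v₂₁ := s.g') (v₂₂ := s.g) ?_ w₂.symm s.isPullback
  rw [w₃, w₁]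
  exact t.isPullback

theorem shift_h {h : t.Y' ⟶ s.Y'} (w : h ≫ s.g = t.g) {r : ℕ} (hr : HasRelDim h r) :
    Shift h t.δY' s.δY' r := by
  have := lft_h w
  exact shift_of_hasRelDim hr (deltaCompat_h w)

theorem shift_h' {h' : t.X' ⟶ s.X'} (w : h' ≫ s.g' = t.g') {r : ℕ} (hr : HasRelDim h' r) :
    Shift h' t.δX' s.δX' r := by
  have := lft_h' w
  exact shift_of_hasRelDim hr (deltaCompat_h' w)

end Sq

end K930.TestSch
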