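import Groth.Agent.Bivar.K930.ZeroExists

/-!
# The universal property of zero schemes
-/

set_option autoImplicit false
universe u v
open CategoryTheory AlgebraicGeometry CategoryTheory.Limits Opposite TopologicalSpace

namespace K930.ZeroUniv

open Groth.Agent Groth.Agent.CycB K930.ModIso K930.ZeroSch
open Groth.Agent.CycB.ModStalk Groth.Agent.CycB.C1Basic Groth.Agent.CycB.C1Pull
open Groth.Agent.CycB.GysinCl Cyc Groth.Agent.Divis

variable {X D T : Scheme.{u}} {L : X.Modules} {σ : L.presheaf.obj (op ⊤)} {i : D ⟶ X}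

theorem sec_ext {M : X.Modules} {s t : M.presheaf.obj (op ⊤)}
    (h : ∀ x : X, M.presheaf.germ ⊤ x trivial s = M.presheaf.germ ⊤ x trivial t) : s = t :=
  TopCat.Presheaf.section_ext ⟨M.presheaf, M.isSheaf⟩ ⊤ s t fun x _ => h x

/-- The pulled back section vanishes on the zero scheme. -/
theorem pullSec_eq_zero (hi : IsZeroSchemeOf i L σ) : pullSec i L σ = 0 := by
  apply sec_ext
  intro d
  obtain ⟨t, f, -, hf, hk⟩ := hi.2 d
  rw [← canAdd_germ_top, map_zero]
  have h1 : L.presheaf.germ ⊤ (i d) trivial σ = f • t := hf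
  rw [h1, Fdesc.PullbackStalk.canAdd_smul]
  have h2 : f ∈ RingHom.ker (i.stalkMap d).hom := by
    rw [hk]; exact Ideal.mem_span_singleton_self f
  have h3 : i.stalkMap d f = 0 := h2
  rw [h3, zero_smul]

/-- Where the pulled back section vanishes, the coordinate dies. -/
theorem stalkMap_eq_zero {h : T ⟶ X} (h0 : pullSec h L σ = 0) {x : T}
    {t : L.presheaf.stalk (h x)} (ht : IsGen L (h x) t) {f : X.presheaf.stalk (h x)}
    (hf : L.presheaf.germ ⊤ (h x) trivial σ = f • t) : h.stalkMap x f = 0 := by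
  have h1 := canAdd_germ_top h L σ x
  rw [h0, map_zero, hf, Fdesc.PullbackStalk.canAdd_smul] at h1
  have h2 := isGen_canAdd h ht
  apply h2.1
  dsimp only
  rw [zero_smul]
  exact h1

/-- A morphism along which the section pulls back to zero factors through the zero scheme. -/
theorem exists_lift [IsClosedImmersion i] (hL : PicF.IsInvertible L) (hi : IsZeroSchemeOf i L σ)
    (h : T ⟶ X) (h0 : pullSec h L σ = 0) : ∃ k : T ⟶ D, k ≫ i = h := by
  refine ⟨IsClosedImmersion.lift i h ?_, IsClosedImmersion.lift_fac _ _ _⟩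
  refine Scheme.IdealSheafData.le_ofIdeals_iff.2 fun U a ha => ?_
  rw [Scheme.Hom.ker_apply] at ha
  have ha' : i.app U a = 0 := ha
  change h.app U a = 0
  refine TopCat.Presheaf.section_ext T.sheaf _ _ _ fun x hx => ?_
  refine Eq.trans ?_ (map_zero (T.presheaf.germ (h ⁻¹ᵁ U.1) x hx).hom).symm
  have hxU : h x ∈ U.1 := hx
  -- the image lies in the zero scheme
  obtain ⟨t, ht⟩ := exists_isGen hL (h x)
  obtain ⟨f, hf⟩ := ht.2 (L.presheaf.germ ⊤ (h x) trivial σ)
  dsimp only at hf
  have h1 := stalkMap_eq_zero h0 ht hf.symm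
  have h2 : h x ∈ Set.range ⇑i := by
    rw [mem_range_iff hi, val_eq, ← hf, map_smul, smul_cl_eq_zero_iff ht]
    by_contra hne
    have h3 : IsUnit f := (IsLocalRing.residue_ne_zero_iff_isUnit f).1 hne
    have h4 : IsUnit (h.stalkMap x f) := h3.map (h.stalkMap x).hom
    rw [h1] at h4
    exact not_isUnit_zero h4
  obtain ⟨d, hd⟩ := h2
  obtain ⟨t', f', ht', hf', hI⟩ := exists_stalkIdeal_eq hL hi ⟨d, hd⟩
  have h5 := stalkMap_eq_zero h0 ht' hf'
  have h6 : X.presheaf.germ U.1 (h x) hxU a ∈ CartierBasic.stalkIdeal i.ker (h x) := by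
    rw [CartierBasic.stalkIdeal_eq i.ker U hxU]
    exact Ideal.mem_map_of_mem (X.presheaf.germ U.1 (h x) hxU).hom
      (by rw [Scheme.Hom.ker_apply]; exact ha)
  rw [hI, Ideal.mem_span_singleton'] at h6
  obtain ⟨b, hb⟩ := h6
  have h7 : T.presheaf.germ (h ⁻¹ᵁ U.1) x hx (h.app U.1 a) =
      h.stalkMap x (X.presheaf.germ U.1 (h x) hxU a) :=
    (Scheme.Hom.germ_stalkMap_apply h U.1 x hxU a).symm
  refine h7.trans ?_
  rw [← hb, map_mul, h5, mul_zero]

/-- Zero schemes are unique. -/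
theorem exists_iso {D' : Scheme.{u}} {i' : D' ⟶ X} [IsClosedImmersion i] [IsClosedImmersion i']
    (hL : PicF.IsInvertible L) (hi : IsZeroSchemeOf i L σ) (hi' : IsZeroSchemeOf i' L σ) :
    ∃ e : D' ≅ D, e.hom ≫ i = i' := by
  obtain ⟨k, hk⟩ := exists_lift hL hi i' (pullSec_eq_zero hi')
  obtain ⟨k', hk'⟩ := exists_lift hL hi' i (pullSec_eq_zero hi)
  refine ⟨⟨k, k', ?_, ?_⟩, hk⟩
  · rw [← cancel_mono i', Category.assoc, hk', hk, Category.id_comp]
  · rw [← cancel_mono i, Category.assoc, hk, hk', Category.id_comp]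

/-- The zero scheme of a pulled back section is the base change of the zero scheme. -/
theorem exists_isPullback {X' D' : Scheme.{u}} (f : X' ⟶ X) {i' : D' ⟶ X'} [IsClosedImmersion i]
    [IsClosedImmersion i'] (hL : PicF.IsInvertible L) (hi : IsZeroSchemeOf i L σ)
    (hi' : IsZeroSchemeOf i' ((Scheme.Modules.pullback f).obj L) (pullSec f L σ)) :
    ∃ g : D' ⟶ D, IsPullback i' g f i := by
  obtain ⟨e, he⟩ := exists_iso (isInvertible_pullback f hL)
    (isZeroSchemeOf_pullSec_fst f i hL hi) hi'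
  exact ⟨e.hom ≫ pullback.snd f i, IsPullback.of_iso (IsPullback.of_hasPullback f i) e.symm
    (Iso.refl _) (Iso.refl _) (Iso.refl _) (by simp [← he]) (by simp) (by simp) (by simp)⟩

end K930.ZeroUniv
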