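import Groth.Agent.Bivar.K930.LineCharts
import Groth.Agent.Bivar.K930.ZeroUniv
import Groth.Agent.Bivar.K930.RelCart

/-!
# The total space of a line bundle: the zero section
-/

set_option autoImplicit false
set_option backward.isDefEq.respectTransparency false
universe u
open CategoryTheory AlgebraicGeometry CategoryTheory.Limits Opposite TopologicalSpace

namespace K930.Tot

open Groth.Agent Groth.Agent.CycB K930.ModIso K930.ZeroSch K930.ZeroUniv K930.LineTot
open Groth.Agent.CycB.ModStalk Groth.Agent.CycB.C1Basic Groth.Agent.CycB.C1Pull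
open Groth.Agent.CycB.GysinCl Cyc Groth.Agent.Krr.H490.NrmSub
open Groth.Agent.Fga.SubPull (psec psec_apply)
open Groth.Agent.VarietyB.PullSec (sec)

variable {X : Scheme.{u}} {L : X.Modules}

theorem sec_top {Y Z : Scheme.{u}} (g : Y ⟶ Z) (M : Z.Modules) (e : (⊤ : Y.Opens) ≤ g ⁻¹ᵁ (⊤ : Z.Opens))
    (s : M.presheaf.obj (op ⊤)) : sec g M e s = ZeroSch.pullSec g M s := by
  rw [VarietyB.PullSec.sec_apply]
  have h1 : (homOfLE e) = 𝟙 (⊤ : Y.Opens) := Subsingleton.elim _ _
  change ((Scheme.Modules.pullback g).obj M).presheaf.map (𝟙 (⊤ : Y.Opens)).op _ = _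
  rw [op_id, CategoryTheory.Functor.map_id]
  rfl

variable (L) in
/-- `tr` on global sections. -/
noncomputable def trT {T T' : Over X} (g : T' ⟶ T) : Γ(ET L T, ⊤) →+ Γ(ET L T', ⊤) :=
  tr L g (U := ⊤) (V := ⊤) (fun _ _ => trivial)

theorem trT_comp {T T' T'' : Over X} (h : T'' ⟶ T') (g : T' ⟶ T) (s : Γ(ET L T, ⊤)) :
    trT L h (trT L g s) = trT L (h ≫ g) s :=
  tr_comp h g (U := ⊤) (V := ⊤) (W := ⊤) (fun _ _ => trivial) (fun _ _ => trivial)
    (fun _ _ => trivial) s

theorem trT_smul {T T' : Over X} (g : T' ⟶ T) (c : Γ(T.left, ⊤)) (s : Γ(ET L T, ⊤)) :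
    trT L g (c • s) = g.left.appTop c • trT L g s := by
  have h := tr_smul (L := L) g (U := ⊤) (V := ⊤) (fun _ _ => trivial) c s
  have h1 : g.left.appLE ⊤ ⊤ (fun _ _ => trivial) = g.left.appTop := by simp [Scheme.Hom.appLE]
  rw [h1] at h
  exact h

/-- The pullback of a global section of `L`. -/
noncomputable def gs (T : Over X) (s : Γ(L, ⊤)) : Γ(ET L T, ⊤) :=
  sec T.hom L (U := ⊤) (V := ⊤) (fun _ _ => trivial) s

theorem gs_eq (T : Over X) (s : Γ(L, ⊤)) : gs T s = ZeroSch.pullSec T.hom L s :=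
  sec_top T.hom L _ s

theorem trT_gs {T T' : Over X} (g : T' ⟶ T) (s : Γ(L, ⊤)) : trT L g (gs T s) = gs T' s :=
  tr_sec g (U₀ := ⊤) (U := ⊤) (V := ⊤) (fun _ _ => trivial) (fun _ _ => trivial)
    (fun _ _ => trivial) s

theorem trT_eq {T T' : Over X} (g : T' ⟶ T) (s : Γ(ET L T, ⊤)) :
    trT L g s = (eti L g).hom.app ⊤ (ZeroSch.pullSec g.left (ET L T) s) := by
  rw [← sec_top g.left (ET L T) (fun _ _ => trivial) s]
  rfl

theorem trT_eq_zero_iff {T T' : Over X} (g : T' ⟶ T) (s : Γ(ET L T, ⊤)) :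
    trT L g s = 0 ↔ ZeroSch.pullSec g.left (ET L T) s = 0 := by
  rw [trT_eq]
  constructor
  · intro h
    have h1 : Function.Bijective ((eti L g).hom.app ⊤) := ConcreteCategory.bijective_of_isIso _
    exact h1.1 (by rw [h, map_zero])
  · intro h
    rw [h, map_zero]

/-- The universal property of the total space. -/
def IsTot (H : Over X) (τ : Γ(ET L H, ⊤)) : Prop :=
  ∀ (T : Over X) (x : Γ(ET L T, ⊤)), ∃! g : T ⟶ H, trT L g τ = x

/-- The zero section of the total space. -/
theorem exists_zero (hL : PicF.IsInvertible L) {H : Over X} {τ : Γ(ET L H, ⊤)}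
    (huniv : IsTot H τ) :
    ∃ (s : X ⟶ H.left) (_ : IsClosedImmersion s), s ≫ H.hom = 𝟙 X ∧
      IsZeroSchemeOf s (ET L H) τ := by
  have hLH : PicF.IsInvertible (ET L H) := isInvertible_pullback H.hom hL
  obtain ⟨s, hs, -⟩ := huniv (Over.mk (𝟙 X)) 0
  have hs0 := (trT_eq_zero_iff s τ).1 hs
  obtain ⟨Z, i, hi, hZ⟩ := ZeroExists.exists_zeroScheme hLH τ
  obtain ⟨k, hk⟩ := exists_lift hLH hZ s.left hs0
  let s' : X ⟶ H.left := s.left
  let k' : X ⟶ Z := k
  have hk' : k' ≫ i = s' := hk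
  have hsπ : s' ≫ H.hom = 𝟙 X := Over.w s
  let T : Over X := Over.mk (i ≫ H.hom)
  let iO : T ⟶ H := Over.homMk i rfl
  let q : T ⟶ Over.mk (𝟙 X) := Over.homMk (i ≫ H.hom) (by simp [T])
  have h1 : iO = q ≫ s := (huniv T 0).unique ((trT_eq_zero_iff iO τ).2 (pullSec_eq_zero hZ)) (by
      rw [← trT_comp, hs, map_zero])
  have h2 : i = (i ≫ H.hom) ≫ s' := congrArg (fun f : T ⟶ H => f.left) h1
  let e : X ≅ Z := ⟨k', i ≫ H.hom, by rw [← Category.assoc, hk', hsπ], by
    rw [← cancel_mono i, Category.assoc, hk', Category.id_comp]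
    exact h2.symm⟩
  have he : e.hom ≫ i = s' := hk'
  have he1 : IsIso e.hom := Iso.isIso_hom e
  refine ⟨s', ?_, hsπ, ?_⟩
  · rw [← he]; infer_instance
  · rw [← he]
    exact GysinCap.isZeroSchemeOf_comp_iso e.hom hZ

/-- The local ring of the spectrum of a field is a field. -/
theorem maximalIdeal_stalk_spec_field (K : Type u) [Field K] (x : Spec (CommRingCat.of K)) :
    IsLocalRing.maximalIdeal ((Spec (CommRingCat.of K)).presheaf.stalk x) = ⊥ := by
  have : IsField ((Spec (CommRingCat.of K)).presheaf.stalk x) := by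
    apply isField_stalk_of_closure_mem_irreducibleComponents
    have h1 : closure {x} = (Set.univ : Set (Spec (CommRingCat.of K))) := by
      apply Set.eq_univ_of_forall
      intro y
      have : Subsingleton (Spec (CommRingCat.of K)) :=
        inferInstanceAs (Subsingleton (PrimeSpectrum K))
      rw [Subsingleton.elim y x]
      exact subset_closure rfl
    rw [h1]
    have : IrreducibleSpace (Spec (CommRingCat.of K)) :=
      inferInstanceAs (IrreducibleSpace (PrimeSpectrum K))
    rw [irreducibleComponents_eq_singleton]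
    rfl
  exact IsLocalRing.isField_iff_maximalIdeal_eq.1 this

/-- A section vanishing at a point pulls back to zero on the residue field. -/
theorem pullSec_eq_zero_of_val {A : Scheme.{u}} {N : A.Modules} (hN : PicF.IsInvertible N)
    {v : N.presheaf.obj (op ⊤)} {K : Type u} [Field K] (j : Spec (CommRingCat.of K) ⟶ A)
    (h : ∀ x, val N v (j x) = 0) : ZeroSch.pullSec j N v = 0 := by
  apply sec_ext
  intro x
  obtain ⟨t, ht⟩ := exists_isGen hN (j x)
  obtain ⟨f, hf⟩ := ht.2 (N.presheaf.germ ⊤ (j x) trivial v)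
  dsimp only at hf
  rw [← canAdd_germ_top, ← hf, map_zero, Fdesc.PullbackStalk.canAdd_smul]
  have h1 : f ∈ IsLocalRing.maximalIdeal (A.presheaf.stalk (j x)) := by
    have h2 := h x
    rw [val_eq, ← hf, map_smul, smul_cl_eq_zero_iff ht] at h2
    exact (IsLocalRing.residue_eq_zero_iff _).1 h2
  have h3 : j.stalkMap x f ∈ IsLocalRing.maximalIdeal ((Spec (CommRingCat.of K)).presheaf.stalk x) := by
    have hloc : IsLocalHom (j.stalkMap x).hom := inferInstance
    have hle : IsLocalRing.maximalIdeal (A.presheaf.stalk (j x)) ≤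
        (IsLocalRing.maximalIdeal ((Spec (CommRingCat.of K)).presheaf.stalk x)).comap
          (j.stalkMap x).hom :=
      ((IsLocalRing.local_hom_TFAE (j.stalkMap x).hom).out 0 3).1 hloc
    exact hle h1
  rw [maximalIdeal_stalk_spec_field] at h3
  have h4 : j.stalkMap x f = 0 := h3
  rw [h4, zero_smul]

end K930.Tot
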