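import Groth.Agent.Bivar.K930.Tot
import Groth.Agent.Bivar.K930.RelDimBC
import Groth.Agent.Cyc.K308.PBBasic

/-!
# The section `t τ - σ` does not vanish at the generic points of the fibres
-/

set_option autoImplicit false
set_option backward.isDefEq.respectTransparency false
universe u
open CategoryTheory AlgebraicGeometry CategoryTheory.Limits Opposite TopologicalSpace

namespace K930.Tot

open Groth.Agent Groth.Agent.CycB K930.ModIso K930.ZeroSch K930.ZeroUniv K930.LineTot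
open Groth.Agent.CycB.ModStalk Groth.Agent.CycB.C1Basic Groth.Agent.CycB.C1Pull
open Groth.Agent.CycB.GysinCl Cyc Groth.Agent.Krr.H490.NrmSub CycB.RelDim K930.RelCart
open Groth.Agent.Fdesc.LocGen (IsGen)

variable {X : Scheme.{u}} {L : X.Modules}

/-- At points of a section of a smooth morphism of relative dimension one the relative
transcendence degree is zero, so they are not generic in their fibres. -/
theorem not_fibGeneric {V : Scheme.{u}} {π : V ⟶ X} [LocallyOfFiniteType π] (hr : HasRelDim π 1)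
    {s : X ⟶ V} (hs : s ≫ π = 𝟙 X) (x : X) : ¬ FibGeneric π (s x) := by
  rw [fibGeneric_iff hr]
  intro h
  have h1 : rtd (s ≫ π) x = 0 := by
    rw [hs]
    exact rtd_eq_zero_of_isPreimmersion (𝟙 X) x
  rw [rtd_comp, h] at h1
  simp at h1

theorem isUnit_of_basicOpen_eq_top {Y : Scheme.{u}} {a : Γ(Y, ⊤)} (h : Y.basicOpen a = ⊤) :
    IsUnit a := by
  have h1 := RingedSpace.isUnit_res_basicOpen (X := Y.toSheafedSpace) a
  have h2 : ∀ (U : Y.Opens) (hU : U = ⊤) (e : U ≤ ⊤),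
      IsUnit (Y.presheaf.map (homOfLE e).op a) → IsUnit a := by
    rintro _ rfl e h3
    have : homOfLE e = 𝟙 _ := Subsingleton.elim _ _
    rw [this, op_id, CategoryTheory.Functor.map_id] at h3
    exact h3
  exact h2 _ h (Y.basicOpen_le a) h1

variable {H H₁ : Over X} {τ : Γ(ET L H, ⊤)} {τ₁ : Γ(ET (Coh.structureModule X) H₁, ⊤)}

variable (H H₁) in
/-- The product. -/
noncomputable abbrev AO : Over X := Over.mk (pullback.fst H.hom H₁.hom ≫ H.hom)

variable (H H₁) in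
noncomputable abbrev P₁ : AO H H₁ ⟶ H := Over.homMk (pullback.fst H.hom H₁.hom) rfl

variable (H H₁) in
noncomputable abbrev P₂ : AO H H₁ ⟶ H₁ :=
  Over.homMk (pullback.snd H.hom H₁.hom) pullback.condition.symm

/-- The section `t τ - σ`. -/
noncomputable def uu (τ : Γ(ET L H, ⊤)) (t : Γ(H₁.left, ⊤)) (σ : Γ(L, ⊤)) :
    Γ(ET L (AO H H₁), ⊤) :=
  (P₂ H H₁).left.appTop t • trT L (P₁ H H₁) τ - gs (AO H H₁) σ

theorem fibNZ (hL : PicF.IsInvertible L) (huniv : IsTot H τ)
    [SmoothOfRelativeDimension 1 H.hom] [SmoothOfRelativeDimension 1 H₁.hom]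
    {s₁ : X ⟶ H₁.left} (hs₁ : s₁ ≫ H₁.hom = 𝟙 X) (t : Γ(H₁.left, ⊤))
    (ht : ∀ z : H₁.left, z ∉ Set.range s₁ → z ∈ H₁.left.basicOpen t) (σ : Γ(L, ⊤)) :
    FibNZ (AO H H₁).hom (ET L (AO H H₁)) (uu τ t σ) := by
  have hH : HasRelDim H.hom 1 := K308.PB.hasRelDim_of_smooth H.hom
  have hH₁ : HasRelDim H₁.hom 1 := K308.PB.hasRelDim_of_smooth H₁.hom
  have : Smooth H.hom := SmoothOfRelativeDimension.smooth 1 H.hom
  have : Smooth H₁.hom := SmoothOfRelativeDimension.smooth 1 H₁.hom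
  have hp₁ : HasRelDim (pullback.fst H.hom H₁.hom) 1 := RelDim.hasRelDim_fst hH₁
  have hp₂ : HasRelDim (pullback.snd H.hom H₁.hom) 1 :=
    RelDimBC.hasRelDim_of_isPullback (IsPullback.of_hasPullback H.hom H₁.hom).flip hH
  intro η hη hval
  let p₁ := pullback.fst H.hom H₁.hom
  let p₂ := pullback.snd H.hom H₁.hom
  have hsm2 : SmoothOfRelativeDimension 2 (p₁ ≫ H.hom) := by
    have := smoothOfRelativeDimension_isStableUnderBaseChange.{u} 1
    have : SmoothOfRelativeDimension 1 p₁ :=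
      MorphismProperty.pullback_fst (P := @SmoothOfRelativeDimension 1) H.hom H₁.hom inferInstance
    exact inferInstanceAs (SmoothOfRelativeDimension (1 + 1) (p₁ ≫ H.hom))
  have hAO : HasRelDim (p₁ ≫ H.hom) 2 := K308.PB.hasRelDim_of_smooth (p₁ ≫ H.hom)
  have hlft : LocallyOfFiniteType (p₁ ≫ H.hom) := inferInstance
  have hrtd : rtd (p₁ ≫ H.hom) η = 2 := (fibGeneric_iff hAO η).1 hη
  have hrtd2 : rtd H₁.hom (p₂ η) + rtd p₂ η = 2 := by
    rw [← rtd_comp]
    have : p₂ ≫ H₁.hom = p₁ ≫ H.hom := pullback.condition.symm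
    rw [this, hrtd]
  have hle1 : rtd H₁.hom (p₂ η) ≤ 1 := rtd_le hH₁ _
  have hle2 : rtd p₂ η ≤ 1 := rtd_le hp₂ _
  have hr1 : rtd H₁.hom (p₂ η) = 1 ∧ rtd p₂ η = 1 := by
    obtain ⟨a, ha⟩ := Cardinal.lt_aleph0.1 (hle1.trans_lt Cardinal.one_lt_aleph0)
    obtain ⟨b, hb⟩ := Cardinal.lt_aleph0.1 (hle2.trans_lt Cardinal.one_lt_aleph0)
    rw [ha] at hle1 hrtd2 ⊢
    rw [hb] at hle2 hrtd2 ⊢
    norm_cast at *
    omega
  have hz : p₂ η ∉ Set.range s₁ := by
    rintro ⟨x, hx⟩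
    apply not_fibGeneric hH₁ hs₁ x
    rw [fibGeneric_iff hH₁, hx]
    exact_mod_cast hr1.1
  have hbo := ht _ hz
  -- the residue fields
  let K := (AO H H₁).left.residueField η
  let K₁ := H₁.left.residueField (p₂ η)
  let j : Spec K ⟶ (AO H H₁).left := (AO H H₁).left.fromSpecResidueField η
  let c₁ : Spec K₁ ⟶ H₁.left := H₁.left.fromSpecResidueField (p₂ η)
  let m : Spec K ⟶ Spec K₁ := Spec.map (p₂.residueFieldMap η)
  have hm : m ≫ c₁ = j ≫ p₂ := p₂.SpecMap_residueFieldMap_fromSpecResidueField η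
  let T₁ : Over X := Over.mk (c₁ ≫ H₁.hom)
  let C₁ : T₁ ⟶ H₁ := Over.homMk c₁ rfl
  let TK : Over X := Over.mk (j ≫ (AO H H₁).hom)
  let J : TK ⟶ AO H H₁ := Over.homMk j rfl
  let M : TK ⟶ T₁ := Over.homMk m (by
    change m ≫ c₁ ≫ H₁.hom = j ≫ p₁ ≫ H.hom
    rw [reassoc_of% hm]
    exact congrArg (j ≫ ·) pullback.condition.symm)
  have hMC : M ≫ C₁ = J ≫ P₂ H H₁ := by
    ext
    exact hm
  -- `t` is invertible at `p₂ η`
  let a : Γ(T₁.left, ⊤) := C₁.left.appTop t
  have ha : IsUnit a := by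
    apply isUnit_of_basicOpen_eq_top
    have h1 : T₁.left.basicOpen a = c₁ ⁻¹ᵁ (H₁.left.basicOpen t) :=
      (Scheme.preimage_basicOpen_top c₁ t).symm
    rw [h1]
    apply top_le_iff.1
    intro z _
    change c₁ z ∈ H₁.left.basicOpen t
    rw [Scheme.fromSpecResidueField_apply]
    exact hbo
  obtain ⟨b, hb⟩ := ha.exists_left_inv
  obtain ⟨G₁, hG₁, -⟩ := huniv T₁ (b • gs T₁ σ)
  have hNA : PicF.IsInvertible (ET L (AO H H₁)) := isInvertible_pullback _ hL
  have hJ : trT L J (uu τ t σ) = 0 := by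
    rw [trT_eq_zero_iff]
    refine pullSec_eq_zero_of_val hNA j fun z => ?_
    have h1 : ∀ y, y = η → val (ET L (AO H H₁)) (uu τ t σ) y = 0 := by
      rintro _ rfl
      exact hval
    exact h1 _ (Scheme.fromSpecResidueField_apply _ _)
  rw [uu, map_sub, trT_smul, trT_comp, trT_gs, sub_eq_zero] at hJ
  have haK : J.left.appTop ((P₂ H H₁).left.appTop t) = M.left.appTop a := by
    have h1 := congrArg (fun f : TK ⟶ H₁ => f.left.appTop t) hMC
    simpa [a] using h1.symm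
  rw [haK] at hJ
  have hMG : M ≫ G₁ = J ≫ P₁ H H₁ := by
    refine (huniv TK _).unique ?_ (rfl : trT L (J ≫ P₁ H H₁) τ = _)
    rw [← trT_comp, hG₁, trT_smul, trT_gs, ← hJ, smul_smul, ← map_mul, hb, map_one, one_smul]
  let c : Spec K₁ ⟶ pullback H.hom H₁.hom := pullback.lift G₁.left c₁ (Over.w G₁)
  have hc2 : c ≫ p₂ = c₁ := pullback.lift_snd _ _ _
  have hmc : m ≫ c = j := by
    apply pullback.hom_ext
    · rw [Category.assoc, pullback.lift_fst]
      exact congrArg (fun f : TK ⟶ H => f.left) hMG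
    · rw [Category.assoc, pullback.lift_snd]
      exact hm
  obtain ⟨pt⟩ : Nonempty (Spec K) := inferInstance
  have hpt : c (m pt) = η := by
    rw [← Scheme.Hom.comp_apply, hmc]
    exact Scheme.fromSpecResidueField_apply _ _
  have hfin : rtd (c ≫ p₂) (m pt) = 0 := by
    rw [hc2]
    exact rtd_eq_zero_of_isPreimmersion c₁ _
  rw [rtd_comp, hpt, hr1.2] at hfin
  simp at hfin

end K930.Tot
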