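import Groth.Agent.Bivar.K930.DefoStruct
import Groth.Agent.Bivar.K930.ClOps
import Groth.Prelude.Def_W4stkchowbivarWeakCl

/-!
# Bivariant classes only compatible with principal Gysin maps
-/

set_option autoImplicit false
universe u v
open CategoryTheory AlgebraicGeometry CategoryTheory.Limits Opposite

namespace K930

open Groth.Agent Groth.Agent.CycB K930.Chow K930.ModIso K930.PushPull K930.Gysin K930.ZeroSch
open K930.OpenImm K930.GysinComm K930.OKs K930.TestSch K930.RelDimBC K930.RelCart Cyc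
open Groth.Agent.CycB.GysinCl Groth.Agent.CycB.C1Pull CycB.RelDim K930.Defo K930.ZeroUniv
open K930.DefoBC

namespace DefoS

variable {X D X₁ D₁ : Scheme.{u}} {i : D ⟶ X} {L : X.Modules} (d : DefoS i L) (f : X₁ ⟶ X)
  {i₁ : D₁ ⟶ X₁} {fD : D₁ ⟶ D} (h : IsPullback i₁ fD f i) (hL : PicF.IsInvertible L)

theorem bc_g : (d.bc f h hL).g = pullback.fst f d.g := bcm_fst f rfl

theorem isPullback_bc_g : IsPullback (pullback.snd f d.g) (d.bc f h hL).g d.g f := by
  rw [bc_g]
  exact (IsPullback.of_hasPullback f d.g).flip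

end DefoS

namespace WeakOps

variable {X Y : Scheme.{u}} {δX : X → ℤ} {δY : Y → ℤ}
variable {f : X ⟶ Y} {p : ℤ} (c : Bivar.WeakCl p f δX δY) (hX : IsSetup X δX) (hY : IsSetup Y δY)
variable {s t : Bivar.Sq f δX δY}

theorem weak_pull {h : t.Y' ⟶ s.Y'} [Flat h] {h' : t.X' ⟶ s.X'} [Flat h'] {r : ℕ}
    (hr : HasRelDim h r) (hr' : HasRelDim h' r)
    (w₁ : h ≫ s.g = t.g) (w₂ : h' ≫ s.f' = t.f' ≫ h) (w₃ : h' ≫ s.g' = t.g') {k k' : ℤ}
    (hk : k' = k + r) (hk' : k' - p = k - p + r) (x : ChowOps.CH s.Y' s.δY' k) :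
    c.op t k' (pullCH h (setup_Y' t hY) (setup_Y' s hY) (shift_h w₁ hr) hk x) =
      pullCH h' (setup_X' t hX) (setup_X' s hX) (shift_h' w₃ hr') hk' (c.op s k x) := by
  subst hk
  exact (pullOK_iff (setup_Y' s hY) (setup_X' s hX) (setup_Y' t hY) (setup_X' t hX) h h'
    (shift_h w₁ hr) (shift_h' w₃ hr') rfl hk' _ _).1 (c.pull s t h h' r hr hr' w₁ w₂ w₃ k) x

theorem weak_gysin {i : t.Y' ⟶ s.Y'} [IsClosedImmersion i] {j : t.X' ⟶ s.X'} [IsClosedImmersion j]
    (w₁ : i ≫ s.g = t.g) (w₂ : j ≫ s.f' = t.f' ≫ i) (w₃ : j ≫ s.g' = t.g')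
    {L : s.Y'.Modules} (hL : PicF.IsInvertible L)
    (hO : Nonempty ((Scheme.Modules.pullback i).obj L ≅ Coh.structureModule t.Y'))
    {σ : L.presheaf.obj (op ⊤)}
    (hσ : IsZeroSchemeOf i L σ) {N : s.X'.Modules} (hN : PicF.IsInvertible N)
    {τ : N.presheaf.obj (op ⊤)} (hτ : IsZeroSchemeOf j N τ)
    (e : (Scheme.Modules.pullback s.f').obj L ≅ N) {k l : ℤ} (hk : k = l + 1)
    (hk' : k - p = l - p + 1) (x : ChowOps.CH s.Y' s.δY' k) :
    c.op t l (gysCH i (setup_Y' s hY) (deltaCompat_h w₁) hL hσ hk x) =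
      gysCH j (setup_X' s hX) (deltaCompat_h' w₃) hN hτ hk' (c.op s k x) := by
  obtain rfl : l = k - 1 := by omega
  have hLf := CycB.C1Pull.isInvertible_pullback s.f' hL
  have hτ' := isZeroSchemeOf_of_iso e.symm hτ
  rw [gysCH_indep (setup_X' s hX) (deltaCompat_h' w₃) hN hτ hLf hτ'
    ((Scheme.Modules.pullback j).mapIso e.symm) hk']
  exact (gysinOK_iff (setup_Y' s hY) (setup_X' s hX) i j (deltaCompat_h w₁) (deltaCompat_h' w₃)
    hL hLf hσ hτ' hk hk' _ _).1 (c.gysinTriv s t i j w₁ w₂ w₃ L hL hO σ hσ _ hτ' k) x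

include hX hY in
/-- The Gysin compatibility for all invertible modules. -/
theorem gysin {i : t.Y' ⟶ s.Y'} [IsClosedImmersion i] {j : t.X' ⟶ s.X'} [IsClosedImmersion j]
    (w₁ : i ≫ s.g = t.g) (w₂ : j ≫ s.f' = t.f' ≫ i) (w₃ : j ≫ s.g' = t.g')
    {L : s.Y'.Modules} (hL : PicF.IsInvertible L) {σ : L.presheaf.obj (op ⊤)}
    (hσ : IsZeroSchemeOf i L σ)
    {τ : ((Scheme.Modules.pullback s.f').obj L).presheaf.obj (op ⊤)}
    (hτ : IsZeroSchemeOf j ((Scheme.Modules.pullback s.f').obj L) τ) {k l : ℤ} (hk : k = l + 1)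
    (hk' : k - p = l - p + 1) (x : ChowOps.CH s.Y' s.δY' k) :
    c.op t l (gysCH i (setup_Y' s hY) (deltaCompat_h w₁) hL hσ hk x) =
      gysCH j (setup_X' s hX) (deltaCompat_h' w₃) (isInvertible_pullback s.f' hL) hτ hk'
        (c.op s k x) := by
  have hsY := setup_Y' s hY
  have hsX := setup_X' s hX
  have htY := setup_Y' t hY
  have htX := setup_X' t hX
  have hLf := isInvertible_pullback s.f' hL
  obtain ⟨d⟩ := DefoExists.exists_defo hL hσ
  have hpb : IsPullback j t.f' s.f' i := (isPullback_h w₁ w₂ w₃).flip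
  let e := d.bc s.f' hpb hL
  have hflat : Flat d.g := d.flat_g hsY hL
  have hflat' : Flat e.g := e.flat_g hsX hLf
  -- the squares
  obtain ⟨δW, hδW⟩ := CycB.SetupLft.exists_deltaCompat d.g s.δY'
  obtain ⟨δW', hδW'⟩ := CycB.SetupLft.exists_deltaCompat e.g s.δX'
  obtain ⟨δE, hδE⟩ := CycB.SetupLft.exists_deltaCompat d.p t.δY'
  obtain ⟨δE', hδE'⟩ := CycB.SetupLft.exists_deltaCompat e.p t.δX'
  let sW : Bivar.Sq f δX δY := s.paste (δX := δX) (δY := δY)
    { Y' := d.W, X' := e.W, g := d.g, f' := pullback.snd s.f' d.g, g' := e.g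
      isPullback := d.isPullback_bc_g s.f' hpb hL
      lft := inferInstance
      δY' := δW, δX' := δW', compatY := hδW, compatX := hδW' }
  let tD : Bivar.Sq f δX δY := t.paste (δX := δX) (δY := δY)
    { Y' := d.D', X' := e.D', g := d.p, f' := pullback.snd s.f' (d.p ≫ i), g' := e.p
      isPullback := d.isPullback_bcp s.f' hpb
      lft := inferInstance
      δY' := δE, δX' := δE', compatY := hδE, compatX := hδE' }
  have hsWY : IsSetup d.W δW := setup_Y' sW hY
  have hsWX : IsSetup e.W δW' := setup_X' sW hX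
  have htDY : IsSetup d.D' δE := setup_Y' tD hY
  have htDX : IsSetup e.D' δE' := setup_X' tD hX
  have hrg : HasRelDim d.g 1 := d.hrg hsY hL
  have hrg' : HasRelDim e.g 1 := e.hrg hsX hLf
  have wi₁ : d.i' ≫ sW.g = tD.g := by
    change d.i' ≫ d.g ≫ s.g = d.p ≫ t.g
    exact ((Category.assoc _ _ _).symm.trans (congrArg (· ≫ s.g) d.comm)).trans
      ((Category.assoc _ _ _).trans (congrArg (d.p ≫ ·) w₁))
  have wi₂ : e.i' ≫ sW.f' = tD.f' ≫ d.i' := bcm_snd s.f' d.comm
  have wi₃ : e.i' ≫ sW.g' = tD.g' := by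
    change e.i' ≫ e.g ≫ s.g' = e.p ≫ t.g'
    exact ((Category.assoc _ _ _).symm.trans (congrArg (· ≫ s.g') e.comm)).trans
      ((Category.assoc _ _ _).trans (congrArg (e.p ≫ ·) w₃))
  -- the trivial module
  obtain ⟨s', hs'⟩ := d.exists_struct
  have hO := K305.StructCap.isInvertible_structureModule d.W
  have sqi : IsPullback e.i' (pullback.snd s.f' (d.p ≫ i)) (pullback.snd s.f' d.g) d.i' :=
    isPullback_bcm s.f' d.comm
  have hO' := isInvertible_pullback (pullback.snd s.f' d.g) hO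
  have hs'' := isZeroSchemeOf_pullSec sqi hO hs'
  have hδi := deltaCompat_h w₁
  have hδj := deltaCompat_h' w₃
  have hδi' : DeltaCompat d.i' δE δW := deltaCompat_h (s := sW) (t := tD) wi₁
  have hδj' : DeltaCompat e.i' δE' δW' := deltaCompat_h' (s := sW) (t := tD) wi₃
  -- the four compatibilities
  have hsg := shift_of_hasRelDim hrg hδW
  have hsg' := shift_of_hasRelDim hrg' hδW'
  have hsp := shift_of_hasRelDim d.hrp hδE
  have hsp' := shift_of_hasRelDim e.hrp hδE'
  have key1 := weak_gysin c hX hY (s := sW) (t := tD) wi₁ wi₂ wi₃ hO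
    ⟨Fga.UnitRestrict.pullbackUnitIso d.i'⟩ hs' hO' hs'' (Iso.refl _)
    (k := k + 1) (l := l + 1) (by omega) (by omega)
    (pullCH d.g hsWY hsY hsg (by norm_num) x)
  have key2 := weak_pull c hX hY (s := s) (t := sW) (h := d.g) (h' := e.g) hrg hrg' rfl
    (d.isPullback_bc_g s.f' hpb hL).w.symm rfl (k := k) (k' := k + 1) (by norm_num)
    (by push_cast; ring) x
  have key3 := weak_pull c hX hY (s := t) (t := tD) (h := d.p) (h' := e.p) d.hrp e.hrp rfl
    (d.isPullback_bcp s.f' hpb).w.symm rfl (k := l) (k' := l + 1) (by norm_num)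
    (by push_cast; ring) (gysCH i hsY hδi hL hσ hk x)
  have key4 := d.gys hsY htY hsWY htDY hδi hδW hδE hδi' hL hσ hO hs' d.nonempty_struct.some
    hk (rfl : k + 1 = k + 1) (rfl : l + 1 = l + 1) (by omega) x
  have key5 := e.gys hsX htX hsWX htDX hδj hδW' hδE' hδj' hLf hτ hO' hs''
    (e.nonempty_struct.some ≪≫ (Fga.UnitRestrict.pullbackUnitIso (pullback.snd s.f' d.g)).symm)
    hk' (by ring : k + 1 - p = k - p + 1) (by ring : l + 1 - p = l - p + 1) (by omega)
    (c.op s k x)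
  have key6 := e.pull_injective htX hδE' htDX (by ring : l + 1 - p = l - p + 1)
  apply key6
  refine Eq.trans ?_ key5
  refine key3.symm.trans ?_
  refine (congrArg (c.op tD (l + 1)) key4.symm).trans ?_
  refine key1.trans ?_
  exact congrArg _ key2

end WeakOps

end K930
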