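import Groth.Agent.Bivar.K930.ZeroSch
import Groth.Agent.Ega4late.H532.GlueStalk

/-!
# Existence of the zero scheme of a section of an invertible module
-/

set_option autoImplicit false
universe u v
open CategoryTheory AlgebraicGeometry CategoryTheory.Limits Opposite TopologicalSpace

namespace K930.ZeroExists

open Groth.Agent Groth.Agent.CycB K930.ModIso K930.ZeroSch
open Groth.Agent.CycB.ModStalk Groth.Agent.CycB.C1Basic
open Groth.Agent.CycB.GysinCl Cyc Groth.Agent.Divis

variable {X : Scheme.{u}}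

/-- The ideal of the local ring cutting out the zero scheme. -/
noncomputable def zeroStalk (L : X.Modules) (σ : L.presheaf.obj (op ⊤)) (x : X) :
    Ideal (X.presheaf.stalk x) :=
  (Submodule.span (X.presheaf.stalk x) {L.presheaf.germ ⊤ x trivial σ}).colon Set.univ

theorem zeroStalk_eq {L : X.Modules} {σ : L.presheaf.obj (op ⊤)} {x : X} {t : L.presheaf.stalk x}
    (ht : IsGen L x t) {g : X.presheaf.stalk x} (h : L.presheaf.germ ⊤ x trivial σ = g • t) :
    zeroStalk L σ x = Ideal.span {g} := by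
  ext a
  rw [zeroStalk, Submodule.mem_colon, Ideal.mem_span_singleton']
  constructor
  · intro H
    obtain ⟨b, hb⟩ := Submodule.mem_span_singleton.1 (H t trivial)
    refine ⟨b, ht.1 ?_⟩
    dsimp only
    rw [mul_smul, ← h, hb]
  · rintro ⟨b, rfl⟩ m -
    obtain ⟨c, rfl⟩ := ht.2 m
    refine Submodule.mem_span_singleton.2 ⟨b * c, ?_⟩
    rw [h, smul_smul, smul_smul]
    congr 1
    ring

/-- The zero scheme of a section of an invertible module exists. -/
theorem exists_zeroScheme {L : X.Modules} (hL : PicF.IsInvertible L)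
    (σ : L.presheaf.obj (op ⊤)) : ∃ (D : Scheme.{u}) (i : D ⟶ X) (_ : IsClosedImmersion i),
      IsZeroSchemeOf i L σ := by
  obtain ⟨I, hI⟩ := Ega4late.H532.GlueStalk.exists_idealSheaf_of_local (zeroStalk L σ) (by
    intro y
    obtain ⟨U, hyU, t, ht⟩ := exists_isGenOn hL y
    obtain ⟨g, hg⟩ := (ht U le_rfl).2 (L.presheaf.map (homOfLE le_top).op σ)
    refine ⟨U, hyU, Ideal.span {g}, fun y' hy' => ?_⟩
    rw [Ideal.map_span, Set.image_singleton]
    refine zeroStalk_eq (ht.isGen y' hy') ?_
    dsimp only at hg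
    rw [← L.presheaf.germ_res_apply (homOfLE le_top) y' hy' σ, ← hg, germ_smul]
    congr 1
    exact L.presheaf.germ_res_apply (homOfLE le_rfl) y' hy' t)
  refine ⟨I.subscheme, I.subschemeι, inferInstance, ?_, fun d => ?_⟩
  · rw [Scheme.IdealSheafData.range_subschemeι]
    ext x
    obtain ⟨t, ht⟩ := exists_isGen hL x
    obtain ⟨g, hg⟩ := ht.2 (L.presheaf.germ ⊤ x trivial σ)
    change x ∈ I.support ↔ val L σ x = 0
    rw [CartierBasic.mem_support_iff_stalkIdeal_le, hI, zeroStalk_eq ht hg.symm,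
      Ideal.span_singleton_le_iff_mem, val_eq, ← hg, map_smul, smul_cl_eq_zero_iff ht,
      ← IsLocalRing.residue_eq_zero_iff]
    rfl
  · obtain ⟨t, ht⟩ := exists_isGen hL (I.subschemeι d)
    obtain ⟨g, hg⟩ := ht.2 (L.presheaf.germ ⊤ (I.subschemeι d) trivial σ)
    refine ⟨t, g, ht.span_eq_top, hg.symm, ?_⟩
    rw [CartierStalk.ker_stalkMap, Scheme.IdealSheafData.ker_subschemeι, hI, zeroStalk_eq ht hg.symm]

end K930.ZeroExists
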