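import Groth.Agent.Bivar.K930.Gysin
import Groth.Agent.S1931
import Groth.Agent.S1932
import Groth.Agent.S1933

/-!
# Pulled back sections; the Gysin map and proper pushforward, flat pullback, other Gysin maps
-/

set_option autoImplicit false
universe u v
open CategoryTheory AlgebraicGeometry CategoryTheory.Limits Opposite

namespace K930.ZeroSch

open Groth.Agent Groth.Agent.CycB K930.Chow K930.ModIso K930.PushPull K930.Gysin
open Groth.Agent.CycB.ModStalk Groth.Agent.CycB.C1Basic Groth.Agent.CycB.C1Pull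
open Groth.Agent.CycB.GysinCl Groth.Agent.CycB.StalkExact Cyc Groth.Agent.Divis

variable {X X' D D' : Scheme.{u}}

/-- The pullback of a global section. -/
noncomputable def pullSec (f : X' ⟶ X) (L : X.Modules) (σ : L.presheaf.obj (op ⊤)) :
    ((Scheme.Modules.pullback f).obj L).presheaf.obj (op ⊤) :=
  ((Scheme.Modules.pullbackPushforwardAdjunction f).unit.app L).app ⊤ σ

theorem canAdd_germ_top (f : X' ⟶ X) (L : X.Modules) (σ : L.presheaf.obj (op ⊤)) (x : X') :
    Fdesc.PullbackStalk.canAdd f L x ((L.presheaf.germ ⊤ (f x) trivial) σ) =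
      (((Scheme.Modules.pullback f).obj L).presheaf.germ ⊤ x trivial) (pullSec f L σ) :=
  Fdesc.PullbackStalk.canAdd_germ f L x ⊤ trivial σ

theorem fib_val (f : X' ⟶ X) (L : X.Modules) (σ : L.presheaf.obj (op ⊤)) (x : X') :
    fib f L x (val L σ (f x)) = val _ (pullSec f L σ) x := by
  rw [val_eq, val_eq, fib_cl]
  exact congrArg _ (canAdd_germ_top f L σ x)

theorem isZeroSchemeOf_congr {i j : D ⟶ X} (e : i = j) {L : X.Modules} {σ : L.presheaf.obj (op ⊤)}
    (h : IsZeroSchemeOf i L σ) : IsZeroSchemeOf j L σ := e ▸ h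

/-- The zero scheme of the pulled back section is the base change of the zero scheme. -/
theorem isZeroSchemeOf_pullSec_fst (f : X' ⟶ X) (i : D ⟶ X) [IsClosedImmersion i] {L : X.Modules}
    (hL : PicF.IsInvertible L) {σ : L.presheaf.obj (op ⊤)} (hσ : IsZeroSchemeOf i L σ) :
    IsZeroSchemeOf (pullback.fst f i) ((Scheme.Modules.pullback f).obj L) (pullSec f L σ) := by
  refine ⟨?_, fun z => ?_⟩
  · rw [Scheme.Pullback.range_fst]
    ext x
    change f x ∈ Set.range ⇑i ↔ val _ (pullSec f L σ) x = 0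
    rw [mem_range_iff hσ, ← fib_val]
    constructor
    · intro h
      rw [h, map_zero]
    · intro h
      by_contra h1
      exact fib_ne_zero f hL h1 h
  · have hx : f (pullback.fst f i z) ∈ Set.range ⇑i :=
      ⟨pullback.snd f i z, (GysinPush.condition_apply f z).symm⟩
    obtain ⟨t, a, ht, hs, hI⟩ := exists_stalkIdeal_eq hL hσ hx
    refine ⟨Fdesc.PullbackStalk.canAdd f L _ t, f.stalkMap _ a, (isGen_canAdd f ht).span_eq_top,
      ?_, ?_⟩
    · rw [← canAdd_germ_top, ← Fdesc.PullbackStalk.canAdd_smul]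
      exact congrArg _ hs
    · rw [ker_stalkMap_fst, hI, Ideal.map_span, Set.image_singleton]

/-- The zero scheme of the pulled back section in a general cartesian square. -/
theorem isZeroSchemeOf_pullSec {f : X' ⟶ X} {i : D ⟶ X} [IsClosedImmersion i] {i' : D' ⟶ X'}
    {g : D' ⟶ D} (h : IsPullback i' g f i) {L : X.Modules}
    (hL : PicF.IsInvertible L) {σ : L.presheaf.obj (op ⊤)} (hσ : IsZeroSchemeOf i L σ) :
    IsZeroSchemeOf i' ((Scheme.Modules.pullback f).obj L) (pullSec f L σ) := by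
  have e : h.isoPullback.hom ≫ pullback.fst f i = i' := h.isoPullback_hom_fst
  exact isZeroSchemeOf_congr e
    (GysinCap.isZeroSchemeOf_comp_iso _ (isZeroSchemeOf_pullSec_fst f i hL hσ))

/-- Pushforward along an isomorphism with compatible dimension functions. -/
theorem map_iso_apply (e : X' ⟶ X) [IsIso e] {δ' : X' → ℤ} {δ : X → ℤ} (h : DeltaCompat e δ' δ)
    (α : AlgebraicCycle X' ℤ) (x : X') : AlgebraicCycle.map e δ' δ α (e x) = α x := by
  apply DivNat.map_apply_of_isPreimmersion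
  rw [deltaCompat_eq_comp e h]

/-- The Gysin map and an isomorphism of the zero scheme. -/
theorem pushCH_iso_gysCH {i : D ⟶ X} [IsClosedImmersion i] {i' : D' ⟶ X} [IsClosedImmersion i']
    (e : D' ⟶ D) [IsIso e] (he : e ≫ i = i') {δ : X → ℤ} {δD : D → ℤ} {δD' : D' → ℤ}
    (hX : IsSetup X δ) (hD : IsSetup D δD)
    (hi : DeltaCompat i δD δ) (hi' : DeltaCompat i' δD' δ) (hde : DeltaCompat e δD' δD)
    {L : X.Modules} (hL : PicF.IsInvertible L)
    {σ : L.presheaf.obj (op ⊤)} (hσ : IsZeroSchemeOf i L σ) (hσ' : IsZeroSchemeOf i' L σ)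
    {k l : ℤ} (hl : k = l + 1) (x : ChowOps.CH X δ k) :
    pushCH e hD hde l (gysCH i' hX hi' hL hσ' hl x) = gysCH i hX hi hL hσ hl x := by
  obtain ⟨α, hα, rfl⟩ := Bivar.exists_rep x
  rw [gysCH_cl']
  rw [pushCH_cl]
  symm
  apply gysCH_cl (w := nz hL) (hw := nz_ne_zero hL)
  intro d
  obtain ⟨d', rfl⟩ := e.surjective d
  rw [map_iso_apply e hde, gysCyc_apply]
  subst he
  rfl

/-- **Gysin maps commute with proper pushforward**, for a general cartesian square. -/
theorem gysCH_pushCH {f : X' ⟶ X} [IsProper f] {i : D ⟶ X} [IsClosedImmersion i] {i' : D' ⟶ X'}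
    [IsClosedImmersion i'] {g : D' ⟶ D} [IsProper g] (h : IsPullback i' g f i)
    {δ : X → ℤ} {δ' : X' → ℤ} {δD : D → ℤ} {δD' : D' → ℤ} (hX : IsSetup X δ)
    (hX' : IsSetup X' δ') (hD : IsSetup D δD)
    (hf : DeltaCompat f δ' δ) (hi : DeltaCompat i δD δ) (hi' : DeltaCompat i' δD' δ')
    (hg : DeltaCompat g δD' δD) {L : X.Modules} {L' : X'.Modules} (hL : PicF.IsInvertible L)
    (hL' : PicF.IsInvertible L') {σ : L.presheaf.obj (op ⊤)} {σ' : L'.presheaf.obj (op ⊤)}
    (hσ : IsZeroSchemeOf i L σ) (hσ' : IsZeroSchemeOf i' L' σ')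
    (e : (Scheme.Modules.pullback f).obj L ≅ L')
    {k l : ℤ} (hl : k = l + 1) (x : ChowOps.CH X' δ' k) :
    gysCH i hX hi hL hσ hl (pushCH f hX hf k x) =
      pushCH g hD hg l (gysCH i' hX' hi' hL' hσ' hl x) := by
  subst hl
  have hD0 := deltaCompat_eq_comp i hi
  have hD'0 := deltaCompat_eq_comp i' hi'
  subst hD0 hD'0
  have hLf := isInvertible_pullback f hL
  -- replace the module and the section
  have hσ'' := isZeroSchemeOf_pullSec h hL hσ
  rw [gysCH_indep hX' hi' hL' hσ' hLf hσ'' ((Scheme.Modules.pullback i').mapIso e.symm) rfl]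
  -- replace the scheme
  let P := pullback f i
  let e' : D' ⟶ P := h.isoPullback.hom
  have he' : e' ≫ pullback.fst f i = i' := h.isoPullback_hom_fst
  have he'2 : e' ≫ pullback.snd f i = g := h.isoPullback_hom_snd
  have hi1 : DeltaCompat (pullback.fst f i) (fun z => δ' (pullback.fst f i z)) δ' :=
    deltaCompat_closed _
  have hg1 : DeltaCompat (pullback.snd f i) (fun z => δ' (pullback.fst f i z)) (fun d => δ (i d)) :=
    deltaCompat_of_comm pullback.condition hi1 hf (deltaCompat_closed i)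
  have hde : DeltaCompat e' (fun x => δ' (i' x)) (fun z => δ' (pullback.fst f i z)) := by
    refine deltaCompat_of_comp e' (pullback.fst f i) ?_ hi1
    exact deltaCompat_congr he'.symm hi'
  have hP : IsSetup P (fun z => δ' (pullback.fst f i z)) := setup_of (pullback.fst f i) hX' hi1
  have hσP := isZeroSchemeOf_pullSec_fst f i hL hσ
  have step : pushCH g hD hg l (gysCH i' hX' hi' hLf hσ'' rfl x) =
      pushCH (pullback.snd f i) hD hg1 l (gysCH (pullback.fst f i) hX' hi1 hLf hσP rfl x) := by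
    rw [← pushCH_iso_gysCH e' he' hX' hP hi1 hi' hde hLf hσP hσ'' rfl x]
    rw [pushCH_comp e' (pullback.snd f i) hP hD hde hg1 (deltaCompat_congr he'2.symm hg)]
    exact congr($(pushCH_congr he'2.symm hD hg (deltaCompat_congr he'2.symm hg) l) _)
  rw [step]
  obtain ⟨α, hα, rfl⟩ := Bivar.exists_rep x
  rw [pushCH_cl, gysCH_cl', gysCH_cl', pushCH_cl, cl_eq_cl]
  exact S1932.result X X' D δ δ' hX hX' f hf L hL σ i hσ (pullSec f L σ) hσP l α hα
    (nz hL) (nz_ne_zero hL) (nz hLf) (nz_ne_zero hLf) _ (gysCyc_apply hX hL σ _) _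
    (gysCyc_apply hX' hLf _ α)

end K930.ZeroSch
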